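import Cfsg.Agent.H1.MlLoc
import Cfsg.Agent.H1.MlZ
import Cfsg.Agent.H1.Card

/-! Higher limits: the higher limits of the centre functor vanish. -/

set_option autoImplicit false
set_option linter.unusedSectionVars false

namespace Cfsg.Agent.H84.MG

open Subgroup H83 Cfsg.Agent.H1.ML
open scoped commutatorElement

universe u

section
variable {G X : Type*} [Group G] [MulAction G X] {p n : ℕ} {P Q A B Y Γ : Subgroup G} {a b g : G}

/-- the normalizer acts on the centre -/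
scoped instance actZ (Y : Subgroup G) : DistribMulAction (normalizer (Y : Set G)) (ZM Y) where
  smul g z := zk (g * zv z * (g : G)⁻¹)
    (by simpa only [cj_eq_self g.2] using conj_mem_Zc (zv_mem z) (g : G))
  one_smul z := zv_inj (by change (1 : G) * _ * 1⁻¹ = _; group)
  mul_smul g h z := zv_inj (by
    change (g * h : G) * _ * (g * h : G)⁻¹ = g * (h * _ * (h : G)⁻¹) * (g : G)⁻¹; group)
  smul_zero g := zv_inj (by change (g : G) * 1 * (g : G)⁻¹ = 1; group)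
  smul_add g z w := zv_inj (conj_mul ..).symm

/-- abelian of order `n` -/
def Ab (n : ℕ) (A : Subgroup G) : Prop := A ≤ centralizer (A : Set G) ∧ Nat.card A = n

/-- the maximal order of an abelian subgroup -/
noncomputable def dd (P : Subgroup G) : ℕ := sSup {n | ∃ A ≤ P, Ab n A}

theorem Ab.cj (h : Ab n A) (g : G) : Ab n (cj g A) :=
  ⟨by rw [← cj_centralizer]; exact cj_mono g h.1, by rw [card_cj, h.2]⟩

theorem ab_sup (hA : A ≤ centralizer (A : Set G)) (hB : B ≤ centralizer (B : Set G))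
    (h : A ≤ centralizer (B : Set G)) : A ⊔ B ≤ centralizer ((A ⊔ B : Subgroup G) : Set G) := by
  rw [centralizer_sup]
  exact sup_le (le_inf hA h) (le_inf (le_centralizer_iff.1 h) hB)

theorem J_cj (g : G) (P : Subgroup G) : JJ (Ab n) (cj g P) = cj g (JJ (Ab n) P) :=
  JJ_cj (Γ := ⊤) (fun g _ _ a => a.cj g) (mem_top g) P

theorem J_norm : P ≤ normalizer (JJ (Ab n) P : Set G) := fun g hg => by
  rw [← cj_eq_self_iff, ← J_cj, cj_eq_self (le_normalizer hg)]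

theorem St_map (N : Subgroup G) (l : List X) :
    (St (⊤ : Subgroup N) l).map N.subtype = St (⊤ ⊓ N) l := by
  ext g
  rw [mem_St, top_inf_eq]
  exact ⟨fun ⟨k, hk, e⟩ => e ▸ ⟨k.2, (mem_St.1 hk).2⟩,
    fun ⟨a, b⟩ => ⟨⟨g, a⟩, mem_St.2 ⟨trivial, b⟩, rfl⟩⟩

theorem adm_sub (ad : Adm p G X) (N : Subgroup G) : Adm p N X :=
  ⟨fun x => (ad.pg x).comap_of_injective N.subtype N.subtype_injective, fun _ hP =>
    let ⟨x, hx⟩ := ad.ex _ (hP.map N.subtype); ⟨x, fun g hg => hx ⟨g, hg, rfl⟩⟩⟩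

theorem map_cj (N : Subgroup G) (g : N) (P : Subgroup N) :
    (cj g P).map N.subtype = cj (g : G) (P.map N.subtype) := by
  rw [cj, cj, map_map, map_map]; rfl

variable [Finite G]

theorem dd_bdd : BddAbove {n | ∃ A ≤ P, Ab n A} :=
  ⟨Nat.card G, fun _ ⟨A, _, h⟩ => h.2 ▸ card_le_card_group A⟩

theorem le_dd (h : A ≤ P) (a : A ≤ centralizer (A : Set G)) : Nat.card A ≤ dd P :=
  le_csSup dd_bdd ⟨A, h, a, rfl⟩

theorem ex_dd (P : Subgroup G) : ∃ A ≤ P, Ab (dd P) A :=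
  Nat.sSup_mem (s := {n | ∃ A ≤ P, Ab n A}) ⟨_, ⊥, bot_le, bot_le, rfl⟩ dd_bdd

theorem dd_mono (h : P ≤ Q) : dd P ≤ dd Q := by
  obtain ⟨A, hA, a⟩ := ex_dd P
  exact a.2 ▸ le_dd (hA.trans h) a.1

theorem dd_le : dd P ≤ Nat.card G := by
  obtain ⟨A, -, a⟩ := ex_dd P
  exact a.2 ▸ card_le_card_group A

theorem dd_cj (g : G) (P : Subgroup G) : dd (cj g P) = dd P := by
  have key : ∀ (g : G) P, dd P ≤ dd (cj g P) := fun g P => by
    obtain ⟨A, hA, a⟩ := ex_dd P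
    exact (a.cj g).2 ▸ le_dd (cj_mono g hA) (a.cj g).1
  exact le_antisymm (by simpa only [cj_inv_cj] using key g⁻¹ (cj g P)) (key g P)

theorem cent_J (ha : a ∈ P) (hc : a ∈ centralizer (JJ (Ab (dd P)) P : Set G)) :
    a ∈ JJ (Ab (dd P)) P := by
  obtain ⟨A, hA, h⟩ := ex_dd P
  have h1 := le_JJ hA h
  have := le_dd (sup_le hA (zpowers_le.2 ha)) (ab_sup h.1 (le_centralizer (zpowers a))
    (le_centralizer_iff.1 (zpowers_le.2 (cent_anti h1 hc))))
  exact h1 ((eq_of_le_of_card_ge le_sup_left (this.trans h.2.ge)).ge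
    (mem_sup_right (mem_zpowers a)))

theorem dd_of_le (h : Q ≤ P) (e : ∀ A ≤ P, Ab (dd P) A → A ≤ Q) :
    dd Q = dd P ∧ JJ (Ab (dd P)) Q = JJ (Ab (dd P)) P := by
  obtain ⟨A, hA, a⟩ := ex_dd P
  exact ⟨le_antisymm (dd_mono h) (a.2 ▸ le_dd (e A hA a) a.1),
    le_antisymm (JJ_mono h) (JJ_le_of fun A hA a => le_JJ (e A hA a) a)⟩

theorem card_fx (B : Subgroup (normalizer (Y : Set G))) :
    Nat.card (⊤ ⊓ fx (ZM Y) B : AddSubgroup (ZM Y)) =
      Nat.card (Zc Y ⊓ centralizer (B.map (Subgroup.subtype _) : Set G) : Subgroup G) :=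
  Nat.card_congr ⟨fun z => ⟨zv z.1, zv_mem z.1, by
      rintro _ ⟨b, hb, rfl⟩
      exact mul_inv_eq_iff_eq_mul.1 (congrArg zv (z.2.2 b hb))⟩,
    fun z => ⟨zk z.1 z.2.1, trivial, fun b hb =>
      zv_inj (mul_inv_eq_iff_eq_mul.2 (z.2.2 _ ⟨b, hb, rfl⟩))⟩, fun _ => rfl, fun _ => rfl⟩

/-- abelian subgroups of maximal order are best offenders on the centre of `Y` -/
theorem bo_ab (hY : Y ≤ P) (hA : A ≤ P) (hn : P ≤ normalizer (Y : Set G)) (h : Ab (dd P) A) :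
    BO (⊤ : AddSubgroup (ZM Y)) (A.subgroupOf (normalizer (Y : Set G))) := by
  refine ⟨fun a ha b hb => ?_, fun B hB _ => ?_⟩
  · rw [commutatorElement_eq_one_iff_mul_comm.2 (Subtype.ext (h.1 hb _ ha))]; exact one_mem _
  have e1 : (A.subgroupOf (normalizer (Y : Set G))).map (Subgroup.subtype _) = A :=
    map_subgroupOf_eq_of_le (hA.trans hn)
  rw [card_fx, card_fx, ← relIndex_map_map_of_injective _ _ (Subgroup.subtype_injective _), e1]
  have hB' := (map_mono hB).trans e1.le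
  generalize B.map (Subgroup.subtype _) = B at hB'
  have c1 : B ≤ centralizer ((Zc Y ⊓ centralizer (B : Set G) : Subgroup G) : Set G) :=
    le_centralizer_iff.1 inf_le_right
  have h1 := H1.card_sup_mul_card_inf_of_le_normalizer (le_norm_of_le_cent c1)
  have h2 := (le_dd (sup_le (hB'.trans hA) (inf_le_left.trans (inf_le_left.trans hY)))
    (ab_sup (hB'.trans (h.1.trans (cent_anti hB'))) (inf_le_left.trans (inf_le_right.trans
      (cent_anti (inf_le_left.trans inf_le_left)))) c1)).trans h.2.ge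
  have h3 : Nat.card (B ⊓ (Zc Y ⊓ centralizer (B : Set G)) : Subgroup G) ≤
      Nat.card (Zc Y ⊓ centralizer (A : Set G) : Subgroup G) :=
    card_le_of_le (le_inf (inf_le_right.trans inf_le_left) (inf_le_left.trans (hB'.trans h.1)))
  have h4 := relIndex_mul_relIndex ⊥ B A bot_le hB'
  rw [relIndex_bot_left, relIndex_bot_left] at h4
  refine Nat.le_of_mul_le_mul_left ?_ (Nat.card_pos (α := B))
  rw [← h1, ← mul_assoc, h4]
  exact Nat.mul_le_mul h2 h3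

/-- the condition on the stabilizers of one piece -/
def Pc (n : ℕ) (Y P : Subgroup G) : Prop := dd P = n ∧ JJ (Ab n) P = Y

theorem Pc.le (h : Pc n Y P) : Y ≤ P := h.2 ▸ JJ_le
theorem Pc.norm (h : Pc n Y P) : P ≤ normalizer (Y : Set G) := h.2 ▸ J_norm
theorem Pc.cent (h : Pc n Y P) (ha : a ∈ P) (hc : a ∈ centralizer (Y : Set G)) : a ∈ Y := by
  obtain ⟨rfl, rfl⟩ := h; exact cent_J ha hc
theorem Pc.Zc_le (h : Pc n Y P) : Zc P ≤ Zc Y := fun _ ha =>
  ⟨h.cent ha.1 (cent_anti h.le ha.2), cent_anti h.le ha.2⟩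
theorem Pc.cj (h : Pc n Y P) (hg : g ∈ normalizer (Y : Set G)) : Pc n Y (cj g P) :=
  ⟨by rw [dd_cj, h.1], by rw [J_cj, h.2, cj_eq_self hg]⟩
theorem Pc.cvx {W : Subgroup G} (a : P ≤ Q) (b : Q ≤ W) (c : Pc n Y P) (d : Pc n Y W) : Pc n Y Q :=
  ⟨le_antisymm (d.1 ▸ dd_mono b) (c.1 ▸ dd_mono a),
    le_antisymm (d.2 ▸ JJ_mono b) (c.2 ▸ JJ_mono a)⟩

variable [Fact p.Prime]

theorem pc_inv (Y : Subgroup G) : ∀ g ∈ ⊤ ⊓ normalizer (Y : Set G), ∀ l : List X,
    Cen p ⊥ (St (⊤ ⊓ normalizer (Y : Set G)) l) ∧ Pc n Y (St (⊤ ⊓ normalizer (Y : Set G)) l) →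
    Cen p ⊥ (St (⊤ ⊓ normalizer (Y : Set G)) (g • l)) ∧
      Pc n Y (St (⊤ ⊓ normalizer (Y : Set G)) (g • l)) := fun g hg l t => by
  rw [St_smul hg]; exact ⟨t.1.cj g, t.2.cj hg.2⟩

theorem sy_pc (Y : Subgroup G) : Sy (⊤ ⊓ normalizer (Y : Set G)) (fun l : List X =>
    Cen p ⊥ (St (⊤ ⊓ normalizer (Y : Set G)) l) ∧ Pc n Y (St (⊤ ⊓ normalizer (Y : Set G)) l))
    (fun l => Z0 (St (⊤ ⊓ normalizer (Y : Set G)) l))
    (fun l => Z1 (St (⊤ ⊓ normalizer (Y : Set G)) l)) :=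
  sy_Z (pc_inv Y) (fun _ _ _ e e' s t => ⟨t.1.mono (St_anti e') (s.1.1.to_le (St_anti e)),
    Pc.cvx (St_anti e') (St_anti e) t.2 s.2⟩) fun _ t => t.1

/-- the piece of a non-centric subgroup is thin -/
theorem pc_thin (ad : Adm p G X) {w : G} {j : ℕ} (hw : w ^ p ^ j = 1)
    (hc : w ∈ centralizer (Y : Set G)) (hn : w ∉ Y) (m : ℕ) :
    Van (⊤ ⊓ normalizer (Y : Set G)) (fun l : List X =>
      Cen p ⊥ (St (⊤ ⊓ normalizer (Y : Set G)) l) ∧ Pc n Y (St (⊤ ⊓ normalizer (Y : Set G)) l))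
      (fun l => Z0 (St (⊤ ⊓ normalizer (Y : Set G)) l))
      (fun l => Z1 (St (⊤ ⊓ normalizer (Y : Set G)) l)) m := by
  obtain ⟨k, hk⟩ := exists_ppow_Z (G := G) (p := p)
  refine thin (k := k) ad (sy_pc Y) (fun a b e t => by rw [← e]; exact ⟨t, rfl, rfl⟩)
    (fun l t => hk _ t.1.1) (fun l t => ?_) m
  obtain ⟨c, hc, a, b, d⟩ := grow (C := centralizer (Y : Set G)) t.1.1 (le_norm_cent t.2.norm)
    fun s => hn (t.2.cent (s.mem_of_norm hc hw (le_norm_of_le_cent le_rfl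
      (cent_anti (fun y hy => t.2.cent (mem_inf.1 hy).1 (mem_inf.1 hy).2) hc))).1 hc)
  exact ⟨c, ⟨trivial, le_norm_of_le_cent le_rfl hc⟩, a, b, d, fun x hx _ => by
    rw [smul_eq_of_mem_Z1 hx fun z hz => (hc z (t.2.Zc_le hz).1).symm, sub_self]; exact zero_mem _⟩

end

variable {G X : Type u} [Group G] [MulAction G X] [Finite G] {p n : ℕ} [Fact p.Prime]
  {Y : Subgroup G}

/-- the piece of a centric subgroup -/
theorem pc_loc (hl : LocStmt.{u}) (ad : Adm p G X) (hY : Cen p ⊥ Y) {m : ℕ} (hm : 3 ≤ m) :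
    Van (⊤ ⊓ normalizer (Y : Set G)) (fun l : List X =>
      Cen p ⊥ (St (⊤ ⊓ normalizer (Y : Set G)) l) ∧ Pc n Y (St (⊤ ⊓ normalizer (Y : Set G)) l))
      (fun l => Z0 (St (⊤ ⊓ normalizer (Y : Set G)) l))
      (fun l => Z1 (St (⊤ ⊓ normalizer (Y : Set G)) l)) m := by
  have hM : IsPGroup p (Multiplicative (ZM Y)) := (hY.1.to_le inf_le_left : IsPGroup p (Zc Y))
  have e0 : (Y.subgroupOf (normalizer (Y : Set G))).map (Subgroup.subtype _) = Y :=
    map_subgroupOf_eq_of_le le_normalizer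
  have ef : fx (ZM Y) (Y.subgroupOf (normalizer (Y : Set G))) = ⊤ := eq_top_iff.2 fun z _ a ha =>
    zv_inj (mul_inv_eq_iff_eq_mul.2 ((zv_mem z).2 _ ha))
  have h1 := hl (normalizer (Y : Set G)) X (ZM Y) p (adm_sub ad _) hM ⊤
    (Y.subgroupOf (normalizer (Y : Set G))) hY.1.comap_subtype le_top (normalizer_eq_top _).ge
    (fun P => Pc n Y (P.map (Subgroup.subtype _))) (fun P r y hy => by
      obtain ⟨z, hz, e⟩ := r.le hy; exact Subtype.ext e ▸ hz)
    (fun P Q W a b => Pc.cvx (map_mono a) (map_mono b))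
    (fun g _ P r => by rw [map_cj]; exact r.cj g.2) (fun P a _ _ => ?_) m hm
  swap
  · have := dd_of_le (map_mono (f := Subgroup.subtype _) (JJ_le (𝒜 := BO ⊤) (P := P)))
      fun A hA ab => (map_subgroupOf_eq_of_le (hA.trans (map_subtype_le P))).ge.trans (map_mono
        (le_JJ (fun y hy => by obtain ⟨z, hz, e⟩ := hA hy; exact Subtype.ext e ▸ hz)
          (bo_ab (e0.ge.trans (map_mono a)) hA (map_subtype_le P) ab)))
    rw [ef]
    exact ⟨fun r => ⟨this.1.trans r.1, by rw [← r.1, this.2, r.1, r.2]⟩,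
      fun r => have e := this.1.symm.trans r.1; ⟨e, by rw [← e, ← this.2, e, r.2]⟩⟩
  have h2 := (van_fx.1 h1).congrT (T' := fun l : List X =>
      Cen p ⊥ (St (⊤ ⊓ normalizer (Y : Set G)) l) ∧ Pc n Y (St (⊤ ⊓ normalizer (Y : Set G)) l))
    fun l e => by
      rw [St_map]
      exact ⟨fun r => ⟨hY.mono r.le (ad.pSt _ fun x => by rw [x] at e; simp at e; omega), r⟩,
        fun r => r.2⟩
  refine h2.tr (fun g g' => g = g') (fun l =>
    { carrier := {x | RZ (St (⊤ ⊓ normalizer (Y : Set G)) l) x.1 (zv x.2)}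
      zero_mem' := rz_zero
      add_mem' := RZ.add
      neg_mem' := RZ.neg }) (fun g g' e x => by rw [e]; rfl) (fun g hg => ⟨⟨g, hg.2⟩, trivial, rfl⟩)
    (fun g _ => ⟨g, ⟨trivial, g.2⟩, rfl⟩) (pc_inv Y)
    (fun l t u hu => let ⟨a, ha⟩ := exists_rz hu; ⟨zk a (t.2.Zc_le ha.1), ha⟩)
    (fun l t z hz => ⟨_, rz_zo ⟨t.2.le (zv_mem z).1, fun y hy => ?_⟩⟩)
    (fun l t u z r => ⟨RZ.mem r, fun y hy => zv_inj (mul_inv_eq_iff_eq_mul.2
      (r.1.2 _ (by rw [← St_map]; exact mem_map_of_mem _ hy)))⟩)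
    (fun l t u z r => (RZ.mem_iff r).trans ⟨fun e => zv_inj e, fun e => congrArg zv e⟩)
    (fun a b e s t x r => RZ.mono r (t.1.Zc_le (St_anti e) s.1.1))
    fun g hg g' _ e l t u z r => ?_
  · rw [← St_map] at hy
    obtain ⟨y, hy, rfl⟩ := hy
    exact mul_inv_eq_iff_eq_mul.1 (congrArg zv (hz y hy))
  · subst e
    change RZ _ _ _
    rw [St_smul hg]
    exact RZ.smul r _

/-- **GLOB** -/
theorem globStmt (hl : LocStmt.{u}) : GlobStmt.{u} := fun G X _ _ _ p _ ad m hm => by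
  have hi : ∀ g ∈ (⊤ : Subgroup G), ∀ l : List X, Cen p ⊥ (St (⊤ : Subgroup G) l) →
      Cen p ⊥ (St (⊤ : Subgroup G) (g • l)) := fun g hg l t => by rw [St_smul hg]; exact t.cj g
  have s := sy_Z (A := ⊥) hi
    (fun _ _ _ e e' s t => t.mono (St_anti e') (s.1.to_le (St_anti e))) fun _ t => t
  have i2 : ∀ g ∈ (⊤ : Subgroup G), ∀ l : List X,
      dd (St (⊤ : Subgroup G) (g • l)) = dd (St (⊤ : Subgroup G) l) := fun g hg l => by
    rw [St_smul hg, dd_cj]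
  refine filt s (fun l => dd (St ⊤ l)) (Nat.card G) (fun _ _ => dd_le) (fun g hg l _ => i2 g hg l)
    (fun a b e _ _ => dd_mono (St_anti e)) fun n => filt_loc (s.and
      (fun g hg l _ x => (i2 g hg l).trans x) fun a b c e e' _ _ _ x y =>
        le_antisymm (x ▸ dd_mono (St_anti e)) (y ▸ dd_mono (St_anti e')))
      (fun l => JJ (Ab n) (St ⊤ l)) (fun g hg l _ => by rw [St_smul hg, J_cj])
      (fun a b e _ _ => JJ_mono (St_anti e)) fun Y => ?_
  by_cases hp : IsPGroup p Y; swap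
  · exact van_empty fun l _ t => hp (t.1.1.1.to_le (t.2 ▸ JJ_le))
  have key : Van (⊤ ⊓ normalizer (Y : Set G)) (fun l : List X =>
      Cen p ⊥ (St (⊤ ⊓ normalizer (Y : Set G)) l) ∧ Pc n Y (St (⊤ ⊓ normalizer (Y : Set G)) l))
      (fun l => Z0 (St (⊤ ⊓ normalizer (Y : Set G)) l))
      (fun l => Z1 (St (⊤ ⊓ normalizer (Y : Set G)) l)) m := by
    by_cases hY : Cen p ⊥ Y
    · exact pc_loc hl ad hY hm
    · simp only [Cen, hp, true_and, not_forall] at hY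
      obtain ⟨w, ⟨j, hw⟩, hc, hn⟩ := hY
      exact pc_thin ad hw
        (fun y hy => (commutatorElement_eq_one_iff_mul_comm.1 (hc y hy)).symm) hn m
  have e : ∀ l : List X, m ≤ l.length + 1 → JJ (Ab n) (St ⊤ l) = Y ∨
      JJ (Ab n) (St (⊤ ⊓ normalizer (Y : Set G)) l) = Y →
      St (⊤ ⊓ normalizer (Y : Set G)) l = St ⊤ l := fun l e =>
    St_norm_eq (ad.pSt _ fun x => by rw [x] at e; simp at e; omega) _ fun g _ => J_cj g
  exact (key.congr (pc_inv Y) fun l hl t => by rw [e l hl (.inr t.2.2)]; exact ⟨rfl, rfl⟩).congrT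
    fun l hl => ⟨fun t => by rw [← e l hl (.inr t.2.2)]; exact ⟨⟨t.1, t.2.1⟩, t.2.2⟩,
      fun t => by rw [e l hl (.inl t.2)]; exact ⟨t.1.1, t.1.2, t.2⟩⟩

end Cfsg.Agent.H84.MG
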