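import Cfsg.Agent.H74.CksDefs

/-! The multiplicity of a regular linear character of `U` (piece PD1 of S2193). -/

set_option autoImplicit false
set_option linter.unusedSectionVars false

namespace Cfsg.Agent.H84.CksPd1

open Cfsg Cfsg.Agent.H35 Cfsg.Agent.H35.BN Cfsg.Agent.H74.Cks
open scoped ComplexConjugate Pointwise

variable {G : Type*} [Group G]

theorem sum_ne_zero_of_dec [Finite G] {A B : Subgroup G} [Fintype A] [Fintype B] (F : G → ℂ)
    (hA : A ≤ B) (dec : ∀ b ∈ B, ∃ a ∈ A, ∀ x ∈ A, F (b * x) = F (a * x))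
    (h : ∑ a : A, F a ≠ 0) : ∑ b : B, F b ≠ 0 := by
  intro h0
  have h1 : ∀ b : B, ∑ x : A, F (b * x) = ∑ a : A, F a := fun b => by
    obtain ⟨a, ha, e⟩ := dec b b.2
    exact Fintype.sum_equiv (Equiv.mulLeft (⟨a, ha⟩ : A)) _ _ fun x => e x x.2
  have h2 : ∀ x : A, ∑ b : B, F (b * x) = 0 := fun x => by
    rw [← h0]
    exact Fintype.sum_equiv (Equiv.mulRight (⟨x, hA x.2⟩ : B)) _ _ fun b => rfl
  have h3 : ∑ b : B, ∑ x : A, F (b * x) = 0 := by
    rw [Finset.sum_comm]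
    simp [h2]
  simp only [h1, Finset.sum_const, Finset.card_univ, nsmul_eq_mul] at h3
  exact h ((mul_eq_zero.1 h3).resolve_left (by exact_mod_cast Fintype.card_ne_zero))

variable {P : BNPair G} {p : ℕ}

theorem lenL {J K : Set P.S} {d v : W P} (hd : (gens P).IsDRed J K d) (hv : v ∈ WJ P J) :
    (gens P).len (v * d) = (gens P).len v + (gens P).len d := by
  have h1 : (gens P).IsDRed ∅ J d⁻¹ := ⟨fun _ h => h.elim, fun i hi => by
    rw [(gens P).len_mul_s_eq, inv_inv, (gens P).len_inv]; exact hd.1 i hi⟩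
  have h2 := (exchange P).len_mul_of_isDRed h1 (inv_mem hv)
  rw [← mul_inv_rev, (gens P).len_inv, (gens P).len_inv, (gens P).len_inv] at h2
  omega

theorem le_B {J : Finset P.S} {K : Set P.S} {d : W P} (hd : (gens P).IsDRed J K d) :
    PJ P J ⊓ cj (rep P d) P.B ≤ P.B := by
  rintro x ⟨hx, hx'⟩
  have h1 := mul_mem_cell_of_len_add (lenL hd (mem_PJ_iff.1 hx)) (mem_cell_bruhat x)
    (rep_mem_cell d)
  have h2 := mul_mem_cell_right (mem_cj.1 hx') (rep_mem_cell d)
  rw [show rep P d * ((rep P d)⁻¹ * x * rep P d) = x * rep P d by group] at h2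
  exact bruhat_eq_one_iff.1 (by simpa using eq_of_mem_cell h1 h2)

variable (T : Split P p)

theorem dec_sup {J : Finset P.S} {b : G} (hb : b ∈ T.U J ⊔ (P.B ⊓ P.N)) :
    ∃ u ∈ T.U J, ∃ t ∈ P.B ⊓ P.N, u * t = b := by
  have := Subgroup.coe_mul_of_right_le_normalizer_left (T.U J) (P.B ⊓ P.N)
    (inf_le_left.trans ((B_le_PJ J).trans (T.U_normal J)))
  exact Set.mem_mul.1 (this ▸ (show b ∈ ((T.U J ⊔ (P.B ⊓ P.N) : Subgroup G) : Set G) from hb))

theorem dec_B [Finite G] {J : Finset P.S} {K : Set P.S} {d : W P} (hd : (gens P).IsDRed J K d)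
    {b : G} (hb : b ∈ P.B) : ∃ q ∈ T.U J, ∃ a ∈ PJ P J ⊓ cj (rep P d) P.B, b = q * a := by
  have := Fintype.ofFinite G
  obtain ⟨w, hw⟩ := (gens P).exists_isLongest (J : Set P.S)
  have hn : rep P w ∈ PJ P J := rep_mem_PJ_iff.2 hw.1
  have h1 := mul_mem_cell_of_len_add (lenL hd (inv_mem hw.1)) (inv_mem_cell (rep_mem_cell w))
    (mul_mem_cell_left hb (rep_mem_cell d))
  have h2 : w⁻¹ * d = mkW P ((rep P w)⁻¹ * rep P d)
      (mul_mem (inv_mem (rep_mem w)) (rep_mem d)) := by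
    rw [mkW_mul (inv_mem (rep_mem w)) (rep_mem d), mkW_inv (rep_mem w), mkW_rep, mkW_rep]
  rw [h2, mem_cell_mkW] at h1
  obtain ⟨b₁, h₁, b₂, h₂, e⟩ := h1
  have e' : b = rep P w * b₁ * (rep P w)⁻¹ * (rep P d * b₂ * (rep P d)⁻¹) := by
    calc b = rep P w * ((rep P w)⁻¹ * (b * rep P d)) * (rep P d)⁻¹ := by group
      _ = _ := by rw [e]; group
  have hx : rep P d * b₂ * (rep P d)⁻¹ ∈ PJ P J ⊓ cj (rep P d) P.B := by
    refine Subgroup.mem_inf.2 ⟨?_, mem_cj.2 (by simpa [mul_assoc] using h₂)⟩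
    rw [show rep P d * b₂ * (rep P d)⁻¹ = (rep P w * b₁ * (rep P w)⁻¹)⁻¹ * b by
      conv_rhs => rw [e']
      group]
    exact mul_mem (inv_mem (mul_mem (mul_mem hn (B_le_PJ J h₁)) (inv_mem hn))) (B_le_PJ J hb)
  have hy : rep P w * b₁ * (rep P w)⁻¹ ∈ P.B ⊓ cj (rep P w) P.B := by
    refine Subgroup.mem_inf.2 ⟨?_, mem_cj.2 (by simpa [mul_assoc] using h₁)⟩
    rw [show rep P w * b₁ * (rep P w)⁻¹ = b * (rep P d * b₂ * (rep P d)⁻¹)⁻¹ by
      conv_rhs => rw [e']
      group]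
    exact mul_mem hb (inv_mem (le_B hd hx))
  rw [T.B_inf_cj hw] at hy
  obtain ⟨q, hq, t, ht, et⟩ := dec_sup T hy
  refine ⟨q, hq, t * (rep P d * b₂ * (rep P d)⁻¹),
    mul_mem ⟨B_le_PJ J ht.1, mem_cj.2 (conj_mem_B (rep_mem d) ht)⟩ hx, ?_⟩
  rw [← mul_assoc, et]
  exact e'

variable [Fintype G] [Fintype (T.U ∅)] (l : T.U ∅ →* ℂˣ)

/-- The multiplicity of `l` in the restriction to `U`. -/
noncomputable def lam (F : G → ℂ) : ℂ := classInner (fun y : T.U ∅ => F y) (fun y => (l y : ℂ))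

open Classical in
/-- The sum of the conjugate of `l` over `U ∩ A`. -/
noncomputable def sig (A : Subgroup G) : ℂ :=
  ∑ y : T.U ∅, if (y : G) ∈ A then conj (l y : ℂ) else 0

theorem lam_congr {F F' : G → ℂ} (h : ∀ y ∈ T.U ∅, F y = F' y) : lam T l F = lam T l F' := by
  unfold lam
  congr 1
  exact funext fun y => h y y.2

theorem lam_pc {A : Subgroup G} (hT : P.B ⊓ P.N ≤ A) :
    lam T l (pc P.B A) = (Nat.card (T.U ∅) : ℂ)⁻¹ * ((Nat.card A : ℂ)⁻¹ *
      (Nat.card P.B * sig T l A)) := by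
  classical
  unfold lam classInner pc
  congr 1
  simp only [mul_assoc, ← Finset.mul_sum]
  congr 1
  simp only [Finset.sum_mul]
  rw [Finset.sum_comm, ← sum_ite_mem P.B, Finset.sum_mul]
  refine Finset.sum_congr rfl fun x _ => ?_
  by_cases hx : x ∈ P.B
  · obtain ⟨u, hu, t, ht, rfl⟩ := dec_sup T (T.B_eq ▸ hx : x ∈ T.U ∅ ⊔ (P.B ⊓ P.N))
    rw [if_pos hx, one_mul, sig]
    refine Fintype.sum_equiv (MulAut.conj (⟨u, hu⟩ : T.U ∅)⁻¹).toEquiv _ _ fun y => ?_
    have h1 : (u * t)⁻¹ * (y * (u * t)) ∈ A ↔ u⁻¹ * y * u ∈ A := by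
      rw [show (u * t)⁻¹ * (y * (u * t)) = t⁻¹ * (u⁻¹ * y * u) * t by group,
        A.mul_mem_cancel_right (hT ht), A.mul_mem_cancel_left (inv_mem (hT ht))]
    have h2 : l ((⟨u, hu⟩ : T.U ∅)⁻¹ * y * ⟨u, hu⟩) = l y := by
      rw [map_mul, map_mul, mul_right_comm, ← map_mul, inv_mul_cancel, map_one, one_mul]
    simp only [hx, true_and, h1, MulEquiv.toEquiv_eq_coe, MulEquiv.coe_toEquiv, MulAut.conj_apply,
      inv_inv, h2, Subgroup.coe_mul, InvMemClass.coe_inv, ite_mul, one_mul, zero_mul]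
  · simp [hx]

theorem sig_zero {A : Subgroup G} {y : T.U ∅} (hy : (y : G) ∈ A) (hl : l y ≠ 1) :
    sig T l A = 0 := by
  classical
  have h1 : sig T l A = conj (l y : ℂ) * sig T l A := by
    unfold sig
    rw [Finset.mul_sum]
    refine (Fintype.sum_equiv (Equiv.mulLeft y) _ _ fun x => ?_).symm
    simp [A.mul_mem_cancel_left hy]
  have h2 : conj (l y : ℂ) ≠ 1 := fun e => hl (Units.ext (by simpa using congrArg conj e))
  have h3 : (conj (l y : ℂ) - 1) * sig T l A = 0 := by rw [sub_mul, ← h1, one_mul, sub_self]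
  exact (mul_eq_zero.1 h3).resolve_left (sub_ne_zero.2 h2)

variable [hp : Fact p.Prime] {J : Finset P.S} (hQU : T.U J ≤ T.U ∅)
  (hQ : ∀ y : T.U ∅, (y : G) ∈ T.U J → l y = 1)

include hQU hQ

theorem lam_top : lam T l (pc P.B (T.U J ⊔ (P.B ⊓ P.N))) = 1 := by
  classical
  have hd : Disjoint (T.U ∅) (P.B ⊓ P.N) := by
    refine Subgroup.disjoint_of_coprime_natCard ?_
    obtain ⟨n, hn⟩ := (T.U_pgroup ∅).exists_card_eq
    rw [hn]
    exact ((Nat.Prime.coprime_iff_not_dvd hp.out).2 T.coprime).pow_left n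
  have h1 : sig T l (T.U J ⊔ (P.B ⊓ P.N)) = Nat.card (T.U J) := by
    have h2 : ∀ y : T.U ∅, (if (y : G) ∈ T.U J ⊔ (P.B ⊓ P.N) then conj (l y : ℂ) else 0) =
        if (y : G) ∈ T.U J then 1 else 0 := fun y => by
      by_cases hy : (y : G) ∈ T.U J
      · simp [hy, Subgroup.mem_sup_left hy, hQ y hy]
      · rw [if_neg hy, if_neg]
        intro h
        obtain ⟨u, hu, t, ht, e⟩ := dec_sup T h
        have : t = 1 := Subgroup.disjoint_def.1 hd (by
          rw [show t = u⁻¹ * y by rw [← e]; group]; exact mul_mem (inv_mem (hQU hu)) y.2) ht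
        exact hy (by rw [← e, this, mul_one]; exact hu)
    rw [sig, Finset.sum_congr rfl fun y _ => h2 y,
      sum_subgroup (T.U ∅) (fun x => if x ∈ T.U J then (1 : ℂ) else 0), ← sum_ite_mem]
    refine Finset.sum_congr rfl fun x _ => ?_
    by_cases hx : x ∈ T.U J
    · simp [hx, hQU hx]
    · simp [hx]
  rw [lam_pc T l le_sup_right, h1, T.card_sup, T.card_B]
  have h2 := H14.card_subgroup_ne_zero (T.U J)
  have h3 := H14.card_subgroup_ne_zero (P.B ⊓ P.N)
  have h4 := H14.card_subgroup_ne_zero (T.U ∅)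
  push_cast
  field_simp

theorem lam_st : lam T l (stR P J) = 1 := by
  obtain ⟨w, hw⟩ := (gens P).exists_isLongest (J : Set P.S)
  rw [← lam_top T l hQU hQ, ← T.B_inf_cj hw]
  exact lam_congr T l fun y hy => stR_of_mem_B hw (T.U_le ∅ hy)

theorem lam_pi (hX : ∀ d ∈ WJ P J, ¬ (gens P).IsLongest J d →
    ∃ y : T.U ∅, (y : G) ∈ cj (rep P d) P.B ∧ l y ≠ 1) : lam T l (pc (PJ P J) P.B) = 1 := by
  classical
  have := Fintype.ofFinite (W P)
  obtain ⟨w, hw⟩ := (gens P).exists_isLongest (J : Set P.S)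
  have h1 : (fun y : T.U ∅ => pc (PJ P J) P.B y) = ∑ d : W P, if d ∈ WJ P J then
      (fun y : T.U ∅ => pc P.B (P.B ⊓ cj (rep P d) P.B) y) else 0 := by
    funext y
    have := pc_eq_sum (P := P) (Finset.empty_subset J) (Finset.empty_subset J) (y := y)
      (B_le_PJ _ (T.U_le ∅ y.2))
    rw [PJ_empty] at this
    rw [this, Finset.sum_apply]
    refine Finset.sum_congr rfl fun d _ => ?_
    by_cases hd : d ∈ WJ P J <;> simp [hd, InvGen.IsDRed]
  rw [lam, h1, H11.classInner_sum_left, Finset.sum_eq_single w]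
  · rw [if_pos (show w ∈ WJ P J from hw.1), T.B_inf_cj hw]
    exact lam_top T l hQU hQ
  · intro d _ hd
    split_ifs with h
    · obtain ⟨y, hy, hl⟩ := hX d h fun e => hd ((exchange P).isLongest_unique e hw)
      change lam T l _ = 0
      rw [lam_pc T l (A := P.B ⊓ cj (rep P d) P.B)
          (fun t ht => ⟨ht.1, mem_cj.2 (conj_mem_B (rep_mem d) ht)⟩),
        sig_zero T l (A := P.B ⊓ cj (rep P d) P.B) ⟨T.U_le ∅ y.2, hy⟩ hl]
      simp
    · exact H11.classInner_zero_left _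
  · simp

theorem inv_of_lam {F : G → ℂ} (hF : IsIrrCharacter (PJ P J) fun y => F y)
    (h : lam T l F ≠ 0) : ∀ q ∈ T.U J, ∀ x ∈ PJ P J, F (q * x) = F x := by
  classical
  have hQP : T.U J ≤ PJ P J := (T.U_le J).trans (B_le_PJ J)
  have hUP : T.U ∅ ≤ PJ P J := (T.U_le ∅).trans (B_le_PJ J)
  have : ((T.U J).subgroupOf (PJ P J)).Normal :=
    (Subgroup.normal_subgroupOf_iff_le_normalizer hQP).2 (T.U_normal J)
  suffices k : (T.U J).subgroupOf (PJ P J) ≤ H11.charKer fun y : PJ P J => F y from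
    fun q hq x hx => k (show (⟨q, hQP hq⟩ : PJ P J) ∈ _ from hq) ⟨x, hx⟩
  by_contra k
  refine h ?_
  have h1 : ∀ n : (T.U J).subgroupOf (PJ P J), ∑ y : T.U ∅, F y * conj (l y : ℂ) =
      ∑ y : T.U ∅, F (n * y) * conj (l y : ℂ) := fun n => by
    refine (Fintype.sum_equiv (Equiv.mulLeft (⟨(n : PJ P J), hQU n.2⟩ : T.U ∅)) _ _
      fun y => ?_).symm
    simp [hQ ⟨(n : PJ P J), hQU n.2⟩ n.2]
  have h2 : ∑ _n : (T.U J).subgroupOf (PJ P J), ∑ y : T.U ∅, F y * conj (l y : ℂ) = 0 := by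
    rw [Finset.sum_congr rfl fun n _ => h1 n, Finset.sum_comm]
    refine Finset.sum_eq_zero fun y _ => ?_
    rw [← Finset.sum_mul]
    exact mul_eq_zero_of_left (H11.sum_coset_eq_zero hF _ k ⟨y, hUP y.2⟩) _
  simp only [Finset.sum_const, Finset.card_univ, nsmul_eq_mul] at h2
  rw [lam, classInner, (mul_eq_zero.1 h2).resolve_left (by exact_mod_cast Fintype.card_ne_zero),
    mul_zero]

omit hQU hQ in
theorem in_pi [Fintype (PJ P J)] {χ F : G → ℂ} (hχ : IsIrrCharacter G χ) [Fintype P.B]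
    (hB : ∑ b : P.B, χ b ≠ 0) (hF : IsIrrCharacter (PJ P J) fun y => F y)
    (h : classInner (fun y : PJ P J => χ y) (fun y => F y) ≠ 0)
    (hi : ∀ q ∈ T.U J, ∀ x ∈ PJ P J, F (q * x) = F x) :
    classInner (fun y : PJ P J => pc (PJ P J) P.B y) (fun y => F y) ≠ 0 := by
  classical
  have := Fintype.ofFinite (W P)
  have := Fintype.ofFinite P.S
  have hc := H11.isClassFunction_of_irr hF
  have hπ : IsCharacter G (indFun P.B fun _ => 1) := H14.IsCharacter.indFun _ H11.isCharacter_one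
  have h1 : classInner (indFun P.B fun _ => 1) χ ≠ 0 := by
    rw [H11.classInner_ne_zero_comm,
      H14.classInner_indFun_right _ _ (H11.isClassFunction_of_irr hχ), H11.classInner_one_right]
    exact mul_ne_zero (inv_ne_zero (H14.card_subgroup_ne_zero _)) (by convert hB)
  have h2 := H11.classInner_add_ne_zero
    (H11.isCharacter_comp (H11.isCharacter_of_irr hχ) (PJ P J).subtype)
    (H11.isCharacter_comp (H11.isCharacter_sub_irr hπ hχ h1) (PJ P J).subtype)
    (H11.isCharacter_of_irr hF) h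
  have h3 : ((fun y : PJ P J => χ ((PJ P J).subtype y)) + fun y : PJ P J =>
      ((indFun P.B fun _ => 1) - χ) ((PJ P J).subtype y)) = ∑ d : W P,
      if (gens P).IsDRed J (∅ : Finset P.S) d then
        (fun y : PJ P J => pc (PJ P J) (PJ P J ⊓ cj (rep P d) P.B) y) else 0 := by
    funext y
    have := pc_eq_sum (P := P) (Finset.subset_univ J) (Finset.empty_subset _) y.2
    rw [PJ_empty, PJ_univ, pc_top] at this
    simp only [Pi.add_apply, Pi.sub_apply, Subgroup.coe_subtype, add_sub_cancel]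
    rw [this, Finset.sum_apply]
    refine Finset.sum_congr rfl fun d _ => ?_
    have hd : d ∈ WJ P (Finset.univ : Finset P.S) := rep_mem_PJ_iff.1 (by rw [PJ_univ]; trivial)
    by_cases h' : (gens P).IsDRed J (∅ : Finset P.S) d
    · rw [if_pos ⟨hd, h'⟩, if_pos h']
    · rw [if_neg fun e => h' e.2, if_neg h']; rfl
  rw [h3, H11.classInner_sum_left] at h2
  obtain ⟨d, -, hd⟩ := Finset.exists_ne_zero_of_sum_ne_zero h2
  split_ifs at hd with hr
  · rw [H11.classInner_ne_zero_comm, classInner_pc inf_le_left F hc] at hd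
    rw [H11.classInner_ne_zero_comm, classInner_pc (B_le_PJ J) F hc]
    refine mul_ne_zero (inv_ne_zero (H14.card_subgroup_ne_zero _))
      (sum_ne_zero_of_dec F (le_B hr) (fun b hb => ?_) (right_ne_zero_of_mul hd))
    obtain ⟨q, hq, a, ha, rfl⟩ := dec_B T hr hb
    exact ⟨a, ha, fun x hx => by rw [mul_assoc, hi q hq _ (mul_mem ha.1 hx.1)]⟩
  · exact absurd (H11.classInner_zero_left _) hd

theorem main [∀ I, Fintype (PJ P I)] (hX : ∀ d ∈ WJ P J, ¬ (gens P).IsLongest J d →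
    ∃ y : T.U ∅, (y : G) ∈ cj (rep P d) P.B ∧ l y ≠ 1) {χ : G → ℂ} (hχ : IsIrrCharacter G χ)
    [Fintype P.B] (hB : ∑ b : P.B, χ b ≠ 0) :
    lam T l χ = classInner (fun y : PJ P J => χ y) (fun y => stR P J y) := by
  classical
  have := Fintype.ofFinite (IrrCharacter (PJ P J))
  have hUP : T.U ∅ ≤ PJ P J := (T.U_le ∅).trans (B_le_PJ J)
  let L : (PJ P J → ℂ) → ℂ := fun f =>
    classInner (fun y : T.U ∅ => f (Subgroup.inclusion hUP y)) fun y => (l y : ℂ)
  have Ln : ∀ f, IsCharacter (PJ P J) f → ∃ n : ℕ, L f = n := fun f hf =>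
    H11.exists_nat_classInner (H11.isCharacter_comp hf _) (H11.isCharacter_monoidHom l)
  have Ls : ∀ f g, L (f - g) = L f - L g := fun f g => H11.classInner_sub_left _ _ _
  have hst := isIrr_stR (P := P) J
  have hpi := isCharacter_pc (B_le_PJ J : P.B ≤ PJ P J)
  have h0 : classInner (fun y : PJ P J => pc (PJ P J) P.B y) (fun y => stR P J y) ≠ 0 := by
    have := sum_stR (P := P) (Finset.empty_subset J)
    rw [H11.classInner_ne_zero_comm, ← PJ_empty (P := P), classInner_pc (PJ_mono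
      (Finset.empty_subset J)) _ (H11.isClassFunction_of_irr hst), this, if_pos rfl]
    exact one_ne_zero
  have h1 := H11.isCharacter_sub_irr hpi hst h0
  have key : ∀ ξ : IrrCharacter (PJ P J), ξ ≠ ⟨_, hst⟩ →
      classInner (fun y : PJ P J => χ y) ξ * L ξ = 0 := by
    rintro ⟨ξ, hξ⟩ hne
    obtain ⟨F, rfl⟩ : ∃ F : G → ℂ, ξ = fun y : PJ P J => F y :=
      ⟨extendByZero _ ξ, funext fun y => (H14.extendByZero_coe _ ξ y).symm⟩
    by_contra c
    have h2 := in_pi T hχ hB hξ (left_ne_zero_of_mul c)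
      (inv_of_lam T l hQU hQ hξ (right_ne_zero_of_mul c))
    have h3 := H11.isCharacter_sub_irr h1 hξ (by
      rwa [H11.classInner_sub_left, H11.classInner_irr_of_ne hst hξ
        (fun e => hne (Subtype.ext e.symm)), sub_zero])
    obtain ⟨m, hm⟩ := Ln _ h3
    obtain ⟨n, hn⟩ := Ln _ (H11.isCharacter_of_irr hξ)
    have e1 : L (fun y => pc (PJ P J) P.B y) = 1 := lam_pi T l hQU hQ hX
    have e2 : L (fun y => stR P J y) = 1 := lam_st T l hQU hQ
    rw [Ls, Ls, hn, e1, e2] at hm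
    have h4 : m + n = 0 := by
      have : ((m + n : ℕ) : ℂ) = 0 := by push_cast; rw [← hm]; ring
      exact_mod_cast this
    exact right_ne_zero_of_mul c (by rw [hn, show n = 0 by omega, Nat.cast_zero])
  have h5 := H11.classFun_eq_sum (H11.isClassFunction_of_isCharacter
    (H11.isCharacter_comp (H11.isCharacter_of_irr hχ) (PJ P J).subtype))
  have h6 : (fun y : T.U ∅ => χ y) = ∑ ξ : IrrCharacter (PJ P J),
      classInner (fun y : PJ P J => χ y) ξ •
        fun y : T.U ∅ => (ξ : PJ P J → ℂ) (Subgroup.inclusion hUP y) := by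
    funext y
    have := congrFun h5 (Subgroup.inclusion hUP y)
    simpa [Finset.sum_apply] using this
  rw [lam, h6, H11.classInner_sum_left, Finset.sum_eq_single ⟨_, hst⟩]
  · have e2 : L (fun y => stR P J y) = 1 := lam_st T l hQU hQ
    rw [H11.classInner_smul_left]
    exact (congrArg _ e2).trans (mul_one _)
  · intro ξ _ hξ
    rw [H11.classInner_smul_left]
    exact key ξ hξ
  · simp

end Cfsg.Agent.H84.CksPd1

namespace Cfsg.Agent.H84.CksPd1

open Cfsg Cfsg.Agent.H35 Cfsg.Agent.H35.BN Cfsg.Agent.H74.Cks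

theorem pd1 : Pd1Stmt := by
  intro G _ _ _ p n _ S χ hχ hB l J hX hQ
  classical
  have := Fintype.ofFinite G
  have hB' : ∑ b : S.B, χ b ≠ 0 := by
    rw [avg, finsum_eq_sum_of_fintype] at hB
    exact right_ne_zero_of_mul hB
  have h := main S.sp l (J := J.map S.e.toEmbedding) (S.anti _ _ (Finset.empty_subset _)) hQ
    (fun d hd hl => ?_) hχ hB'
  · rw [classInner_stR _ χ (H11.isClassFunction_of_isCharacter
      (H11.isCharacter_comp (H11.isCharacter_of_irr hχ) (Subgroup.subtype _)))] at h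
    have h1 : (Nat.card S.U : ℂ)⁻¹ * ∑ᶠ y : S.U, χ y * ((l y)⁻¹ : ℂˣ) = lam S.sp l χ := by
      rw [lam, classInner, finsum_eq_sum_of_fintype]
      simp only [H11.conj_monoidHom_apply, map_inv]
    rw [h1, h]
    refine (Finset.sum_bij (fun K _ => K.map S.e.toEmbedding) ?_ ?_ ?_ ?_).symm
    · intro K hK
      exact Finset.mem_powerset.2 (Finset.map_subset_map.2 (Finset.mem_powerset.1 hK))
    · intro K _ K' _ e
      exact Finset.map_injective _ e
    · intro K hK
      obtain ⟨K', h1, h2⟩ := Finset.subset_map_iff.1 (Finset.mem_powerset.1 hK)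
      exact ⟨K', Finset.mem_powerset.2 h1, h2.symm⟩
    · intro K _
      rw [Finset.card_map, avg, finsum_eq_sum_of_fintype]
  · obtain ⟨i, hi, h1⟩ : ∃ i ∈ J, (gens S.bn).len d < (gens S.bn).len (S.w i * d) := by
      by_contra c
      push Not at c
      refine hl ((exchange S.bn).isLongest_of_left hd fun j hj => ?_)
      obtain ⟨i, hi, rfl⟩ := Finset.mem_map.1 (Finset.mem_coe.1 hj)
      exact c i hi
    obtain ⟨y, hy, hl'⟩ := hX i hi
    refine ⟨y, mem_cj.2 (S.sp.U_le ∅ (S.conj i _ (rep_mem d) (by rwa [mkW_rep]) ∅ ?_ y hy)), hl'⟩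
    intro c
    have : (mkW S.bn _ (rep_mem d))⁻¹ * (gens S.bn).s (S.e i) * mkW S.bn _ (rep_mem d) = 1 := by
      simpa [WJ] using c
    exact gens_s_ne_one (S.e i) (by
      rw [mul_assoc, inv_mul_eq_one, eq_comm, mul_eq_right] at this; exact this)

end Cfsg.Agent.H84.CksPd1
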