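import Cfsg.Agent.H72.ASB

/-! Project AS: the second translation group and the coordinates on `W = 4^(1+6)`. -/

set_option autoImplicit false
set_option linter.unusedSectionVars false

namespace Cfsg.Agent.H84.AW

open Cfsg Subgroup Cfsg.Agent.H28 Cfsg.Agent.H30 Cfsg.Agent.H42.AS Cfsg.Agent.H72.ASB QuadraticMap

/-- The coordinates. -/
def Pi6 (x : Fin 6 → F4) : N6 × N6 :=
  sm (x 0) (vP', vP) + sm (x 1) (vP + vP', vP) + sm (x 2) (vF, 0) + sm (x 3) (vT + vT', vT) +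
    sm (x 4) (vT', vT) + sm (x 5) (vE, 0)

def B6 (x y : Fin 6 → F4) : F4 := x 1 * y 0 + x 5 * y 2 + x 4 * y 3

theorem sm_add (s t : F4) (x : N6 × N6) : sm (s + t) x = sm s x + sm t x := by
  simp only [sm, QuadraticAlgebra.re_add, QuadraticAlgebra.im_add, add_smul, Prod.mk_add_mk]
  congr 1 <;> abel

theorem sm_zero (x : N6 × N6) : sm 0 x = 0 := by simp [sm]

theorem Pi6_add (x y : Fin 6 → F4) : Pi6 (x + y) = Pi6 x + Pi6 y := by
  simp only [Pi6, Pi.add_apply, sm_add]; abel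

theorem bq_add_left (x y z : N6 × N6) : bq (x + y) z = bq x z + bq y z := by
  ext <;> simp only [bq, Prod.fst_add, Prod.snd_add, QuadraticAlgebra.re_add,
    QuadraticAlgebra.im_add, polar_add_left] <;> ring

theorem bq_comm (x y : N6 × N6) : bq x y = bq y x := by
  ext <;> simp only [bq, polar_comm _ x.1, polar_comm _ x.2]
  ring

theorem bq_add_right (x y z : N6 × N6) : bq x (y + z) = bq x y + bq x z := by
  rw [bq_comm, bq_add_left, bq_comm y, bq_comm z]

theorem bq_sm_left (s : F4) (x y : N6 × N6) : bq (sm s x) y = s * bq x y := by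
  ext <;> simp only [bq, sm, polar_add_left, polar_smul_left, QuadraticAlgebra.re_mul,
    QuadraticAlgebra.im_mul, smul_eq_mul] <;> ring

theorem bq_sm_right (s : F4) (x y : N6 × N6) : bq x (sm s y) = s * bq x y := by
  rw [bq_comm, bq_sm_left, bq_comm]

theorem q6_add (a b : N6) : q6 (a + b) = q6 a + q6 b + polar q6 a b := by
  simp [polar]

theorem qq_add (x y : N6 × N6) : qq (x + y) = qq x + qq y + bq x y := by
  ext <;> simp only [qq, bq, Prod.fst_add, Prod.snd_add, QuadraticAlgebra.re_add,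
    QuadraticAlgebra.im_add, q6_add, polar_add_left, polar_add_right, polar_comm _ y.1] <;> ring

theorem qq_sm (s : F4) (x : N6 × N6) : qq (sm s x) = s * s * qq x := by
  ext <;> simp only [qq, sm, q6_add, polar_add_left, polar_add_right, polar_smul_left,
    polar_smul_right, QuadraticMap.map_smul, QuadraticAlgebra.re_mul, polar_self,
    QuadraticAlgebra.im_mul, smul_eq_mul, polar_comm _ x.2 x.1] <;>
  generalize q6 x.1 = a <;> generalize q6 x.2 = b <;> generalize polar q6 x.1 x.2 = c <;>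
  generalize s.re = d <;> generalize s.im = e <;> revert a b c d e <;> decide

theorem basis : let u : Fin 6 → N6 × N6 :=
      ![(vP', vP), (vP + vP', vP), (vF, 0), (vT + vT', vT), (vT', vT), (vE, 0)]
    (∀ i, qq (u i) = 0) ∧ ∀ i j, bq (u i) (u j) =
      if (i.val + j.val = 1 ∨ (i.val + j.val = 7 ∧ i ≠ j)) then 1 else 0 := by
  simp only [qq, bq, polar_qPlus, qPlus_apply]
  decide

theorem qq_Pi6 (x : Fin 6 → F4) : qq (Pi6 x) = B6 x x := by
  obtain ⟨h1, h2⟩ := basis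
  have a0 := h1 0; have a1 := h1 1; have a2 := h1 2; have a3 := h1 3; have a4 := h1 4; have a5 := h1 5
  have b01 := h2 0 1; have b02 := h2 0 2; have b03 := h2 0 3; have b04 := h2 0 4; have b05 := h2 0 5
  have b12 := h2 1 2; have b13 := h2 1 3; have b14 := h2 1 4; have b15 := h2 1 5
  have b23 := h2 2 3; have b24 := h2 2 4; have b25 := h2 2 5
  have b34 := h2 3 4; have b35 := h2 3 5; have b45 := h2 4 5
  simp at a0 a1 a2 a3 a4 a5 b01 b02 b03 b04 b05 b12 b13 b14 b15 b23 b24 b25 b34 b35 b45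
  simp only [Pi6, B6, qq_add, bq_add_left, qq_sm, bq_sm_left, bq_sm_right, *]
  ring

theorem bq_Pi6 (x y : Fin 6 → F4) : bq (Pi6 x) (Pi6 y) = B6 x y + B6 y x := by
  have := qq_add (Pi6 x) (Pi6 y)
  rw [← Pi6_add, qq_Pi6, qq_Pi6, qq_Pi6] at this
  simp only [B6, Pi.add_apply] at this ⊢
  linear_combination -this

theorem Pi6_zero : Pi6 0 = 0 := by simp [Pi6, sm_zero]

theorem Pi6_ker {x : Fin 6 → F4} (h : Pi6 x = 0) : x = 0 := by
  have key : ∀ z, B6 x z + B6 z x = 0 := fun z => by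
    rw [← bq_Pi6, h]; ext <;> simp [bq]
  ext1 i
  fin_cases i
  · simpa [B6] using key (Pi.single 1 1)
  · simpa [B6] using key (Pi.single 0 1)
  · simpa [B6] using key (Pi.single 5 1)
  · simpa [B6] using key (Pi.single 4 1)
  · simpa [B6] using key (Pi.single 3 1)
  · simpa [B6] using key (Pi.single 2 1)

theorem x_add (x : Fin 6 → F4) : x + x = 0 := funext fun i => f4_add (x i)

theorem Pi6_inj : Function.Injective Pi6 := fun x y e => by
  have : x + y = 0 := Pi6_ker (by rw [Pi6_add, e, ← Pi6_add, x_add, Pi6_zero])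
  rw [← add_zero x, ← x_add y, ← add_assoc, this, zero_add]

theorem Pi6_surj : Function.Surjective Pi6 :=
  ((Fintype.bijective_iff_injective_and_card _).2 ⟨Pi6_inj, by simp [card_F4]⟩).2


universe u

variable {G : Type u} [Group G] [Finite G] {D : RD G} {R O : Subgroup G} {r f : F4 → G} {c : F4}

theorem sw {a b : G} (h : a * b = b * a) (z : G) : a * (b * z) = b * (a * z) := by
  rw [← mul_assoc, h, mul_assoc]

theorem cmul {a b g : G} (ha : g * a = a * g) (hb : g * b = b * g) : g * (a * b) = a * b * g := by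
  rw [← mul_assoc, ha, mul_assoc, hb, mul_assoc]

theorem cinv {a g : G} (ha : g * a = a * g) : g * a⁻¹ = a⁻¹ * g :=
  (Commute.inv_right ha).eq

/-- The normal form modulo `V`. -/
def ww (D : RD G) (r f : F4 → G) (x : Fin 6 → F4) : G :=
  r (x 0) * f (x 1) * D.xb (x 2) * D.xc (x 3) * D.xd (x 4) * D.xe (x 5)

section

variable (hF : D.Fa)
include hF

theorem AK {a : G} (ha : a ∈ D.A) (hk : a ∈ D.K) : a = 1 := by
  have h1 := hF.glob.centV 1 one_ne_zero a ha (K_comm hk (xv_A hF.rel 1)).symm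
  obtain ⟨t, rfl⟩ := (mem_V hF.rel).1
    (hF.par.cQA a h1 fun q hq => (K_comm hk (P_A hF.rel (Q_P hq))).symm)
  have h2 := hF.rel.rv t
  rw [K_comm hk rho_A, mul_left_inj] at h2
  rw [om_fix t (v_inj hF.rel h2).symm, v0 hF.rel]

variable (hW : WA D R O r f c)
include hW

theorem rR (s : F4) : r s ∈ R := (hW.r_mem _).2 ⟨s, rfl⟩

theorem O_odd {o : G} (ho : o ∈ O) : Odd (orderOf o) :=
  hW.oddO.of_dvd_nat (orderOf_dvd_natCard _ ho)

theorem fv (t u : F4) : f t * D.xv u = D.xv u * f t := hW.fP t _ (Q_P (xv_Q u))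

theorem rr (s t : F4) : r s * r t = r t * r s := by rw [← hW.r_add, ← hW.r_add, add_comm]

theorem rv (s u : F4) : r s * D.xv u = D.xv u * r s := by
  have h1 := hW.fr 1 (u + s)
  rw [hW.r_add, ← mul_assoc, hW.fr, mul_assoc _ (f 1), hW.fr, ← mul_assoc, mul_left_inj, mul_one,
    mul_one, mul_one, hF.rel.vv, ← mul_assoc, ← mul_assoc, mul_left_inj, mul_assoc, mul_assoc,
    mul_right_inj] at h1
  exact h1.symm

theorem rK (s : F4) : r s ∈ D.K := by
  obtain ⟨k, hk, p, hp, e⟩ := hW.cV (r s) (hW.nR (le_normalizer (rR hF hW s))) (rv hF hW s)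
  have pA := P_A hF.rel hp
  have kr : ∀ x ∈ R, k * x = x * k := fun x hx => by
    obtain ⟨t, rfl⟩ := (hW.r_mem x).1 hx
    obtain ⟨k', hk', p', hp', e'⟩ := hW.cV (r t) (hW.nR (le_normalizer hx)) (rv hF hW t)
    have pA' := P_A hF.rel hp'
    have h1 := rr hF hW s t
    rw [e, e'] at h1
    have h2 : (k' * k)⁻¹ * (k * k') = p' * p * (p * p')⁻¹ := by
      rw [inv_mul_eq_iff_eq_mul, ← mul_assoc, eq_mul_inv_iff_mul_eq]
      calc k * k' * (p * p') = k * p * (k' * p') := by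
            rw [mul_assoc, mul_assoc, sw (K_comm hk' pA)]
        _ = k' * p' * (k * p) := h1
        _ = _ := by rw [mul_assoc, mul_assoc, sw (K_comm hk pA')]
    have h3 := AK hF (h2 ▸ mul_mem (mul_mem pA' pA) (inv_mem (mul_mem pA pA')))
      (mul_mem (inv_mem (mul_mem hk' hk)) (mul_mem hk hk'))
    rw [e']
    exact cmul (inv_mul_eq_one.1 h3).symm (K_comm hk pA').symm
  obtain ⟨x, hx, o, ho, e2⟩ := hW.cKR k hk kr
  obtain ⟨t, rfl⟩ := (hW.r_mem x).1 hx
  have tK : r t ∈ D.K := by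
    rw [eq_mul_inv_of_mul_eq e2.symm]; exact mul_mem hk (inv_mem (hW.OK ho))
  have h4 : r (t + s) = o * p := by
    rw [hW.r_add, e, e2, mul_assoc, ← mul_assoc, sq_of_add hW.r_add, one_mul]
  have h5 := hW.fr 1 (t + s)
  rw [h4, cmul (hW.fI o (hW.OK ho) (O_odd hF hW ho) ⟨1, one_ne_zero, hW.OR o ho _ (rR hF hW 1)⟩ 1)
    (hW.fP 1 p hp), mul_left_inj, mul_one, left_eq_mul] at h5
  have h6 : s = t := by
    rw [← add_zero s, ← f4_add t, ← add_assoc, add_comm s, v_eq_one hF.rel h5, zero_add]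
  exact h6 ▸ tK

theorem rA (s : F4) {a : G} (ha : a ∈ D.A) : a * r s = r s * a := K_comm (rK hF hW s) ha

theorem fO (t : F4) {o : G} (ho : o ∈ O) : f t * o = o * f t :=
  hW.fI o (hW.OK ho) (O_odd hF hW ho) ⟨1, one_ne_zero, hW.OR o ho _ (rR hF hW 1)⟩ t

theorem ww_v (x : Fin 6 → F4) (u : F4) : D.xv u * ww D r f x = ww D r f x * D.xv u := by
  have h := hF.rel
  exact cmul (cmul (cmul (cmul (cmul (rv hF hW _ u).symm (fv hF hW _ u).symm) (h.bv _ u).symm)
    (h.cv _ u).symm) (h.dv _ u).symm) (h.ev _ u).symm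

theorem ww_mul (x y : Fin 6 → F4) : ww D r f x * ww D r f y =
    r (x 0 + y 0) * (f (x 1) * f (y 1)) * D.xb (x 2 + y 2) * D.xc (x 3 + y 3) * D.xd (x 4 + y 4) *
      D.xe (x 5 + y 5) * D.xv (B6 x y) := by
  have h := hF.rel
  have m : ∀ {x : F4 → G}, (∀ t u, x (t + u) = x t * x u) → ∀ t u z,
      x t * (x u * z) = x (t + u) * z := fun hx t u z => by rw [hx, mul_assoc]
  have fr : ∀ t s z, f t * (r s * z) = r s * (f t * (D.xv (t * s) * z)) := fun t s z => by
    rw [← mul_assoc, hW.fr, mul_assoc, mul_assoc, sw (fv hF hW t _), mul_comm s t]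
  have eb : ∀ t s z, D.xe t * (D.xb s * z) = D.xb s * (D.xe t * (D.xv (t * s) * z)) := fun t s z => by
    rw [← mul_assoc (D.xb s), h.be, mul_assoc, mul_assoc, sw (h.bv s _), mul_comm s t, m h.vv,
      f4_add, v0 h, one_mul]
  have dc : ∀ t s z, D.xd t * (D.xc s * z) = D.xc s * (D.xd t * (D.xv (t * s) * z)) := fun t s z => by
    rw [← mul_assoc (D.xc s), h.cd, mul_assoc, mul_assoc, sw (h.cv s _), mul_comm s t, m h.vv,
      f4_add, v0 h, one_mul]
  have fq : ∀ {q : G}, q ∈ D.QA → ∀ t z, q * (f t * z) = f t * (q * z) := fun hq t =>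
    sw (hW.fP t _ (Q_P hq)).symm
  have rq : ∀ {q : G}, q ∈ D.QA → ∀ t z, q * (r t * z) = r t * (q * z) := fun hq t =>
    sw (rA hF hW t (P_A h (Q_P hq)))
  rw [← mul_one (ww D r f y), ← mul_one (D.xv _)]
  simp only [ww, mul_assoc, m hW.r_add, m h.bb, m h.cc, m h.dd, m h.ee, m h.vv, fr, eb, dc,
    fun u => rq (xb_Q u), fun u => rq (xc_Q u), fun u => rq (xd_Q u), fun u => rq (xe_Q u),
    fun u => fq (xb_Q u), fun u => fq (xc_Q u), fun u => fq (xd_Q u),
    fun u => fq (xe_Q u), fun u => fq (xv_Q u), fun t u => sw (h.bc t u).symm,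
    fun t u => sw (h.bd t u).symm, fun t u => sw (h.bv t u).symm, fun t u => sw (h.ce t u).symm,
    fun t u => sw (h.cv t u).symm, fun t u => sw (h.de t u).symm, fun t u => sw (h.dv t u).symm,
    fun t u => sw (h.ev t u).symm, B6]
  congr 9
  ring

theorem ww_comm (x y : Fin 6 → F4) :
    ww D r f x * ww D r f y = D.xv (B6 x y + B6 y x) * (ww D r f y * ww D r f x) := by
  rw [cmul (ww_v hF hW y _) (ww_v hF hW x _), ww_mul hF hW, ww_mul hF hW, mul_assoc _ (D.xv _),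
    ← hF.rel.vv, add_comm (B6 x y), ← add_assoc, f4_add, zero_add, hW.ff, add_comm (x 0),
    add_comm (x 2), add_comm (x 3), add_comm (x 4), add_comm (x 5)]

theorem ww_sq (x : Fin 6 → F4) : ww D r f x * ww D r f x = D.xv (c * x 1 + B6 x x) := by
  have h := hF.rel
  simp only [ww_mul hF hW, f4_add, one_of_add hW.r_add, one_of_add h.bb, one_of_add h.cc,
    one_of_add h.dd, one_of_add h.ee, hW.fsq, one_mul, mul_one, h.vv]

theorem ww_eq_v {x : Fin 6 → F4} {u : F4} (e : ww D r f x = D.xv u) : x = 0 ∧ u = 0 := by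
  have h := hF.rel
  have key : ∀ y, B6 x y + B6 y x = 0 := fun y => by
    have := ww_comm hF hW x y
    rw [e, ww_v hF hW, right_eq_mul] at this
    exact v_eq_one h this
  have hx : x = 0 := by
    ext1 i
    fin_cases i
    · simpa [B6] using key (Pi.single 1 1)
    · simpa [B6] using key (Pi.single 0 1)
    · simpa [B6] using key (Pi.single 5 1)
    · simpa [B6] using key (Pi.single 4 1)
    · simpa [B6] using key (Pi.single 3 1)
    · simpa [B6] using key (Pi.single 2 1)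
  refine ⟨hx, v_eq_one h ?_⟩
  simp only [← e, hx, ww, Pi.zero_apply, hW.f0, one_of_add hW.r_add, one_of_add h.bb,
    one_of_add h.cc, one_of_add h.dd, one_of_add h.ee, mul_one]

theorem ww_single : (∀ s, r s = ww D r f (Pi.single 0 s)) ∧ (∀ s, f s = ww D r f (Pi.single 1 s)) ∧
    (∀ s, D.xb s = ww D r f (Pi.single 2 s)) ∧ (∀ s, D.xc s = ww D r f (Pi.single 3 s)) ∧
    (∀ s, D.xd s = ww D r f (Pi.single 4 s)) ∧ (∀ s, D.xe s = ww D r f (Pi.single 5 s)) ∧
    ww D r f 0 = 1 := by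
  have h := hF.rel
  simp [ww, hW.f0, one_of_add hW.r_add, one_of_add h.bb, one_of_add h.cc, one_of_add h.dd,
    one_of_add h.ee]

theorem exists_w6 (fa : ∀ s t, f (s + t) = f s * f t) : ∃ W π, W6 D r f W π := by
  classical
  have h := hF.rel
  obtain ⟨s0, s1, s2, s3, s4, s5, s6⟩ := ww_single hF hW
  have mul : ∀ x y u u', ww D r f x * D.xv u * (ww D r f y * D.xv u') =
      ww D r f (x + y) * D.xv (B6 x y + (u + u')) := fun x y u u' => by
    rw [mul_assoc, sw (ww_v hF hW y u), ← mul_assoc, ww_mul hF hW, ← fa, ← h.vv, mul_assoc _ (D.xv _),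
      ← h.vv]
    rfl
  have uniq : ∀ x y u u', ww D r f x * D.xv u = ww D r f y * D.xv u' → x = y := fun x y u u' e => by
    have h1 := mul x y u u'
    rw [e, mul, x_add, s6, one_mul, eq_comm, ← eq_mul_inv_iff_mul_eq, v_inv h, ← h.vv] at h1
    rw [← add_zero x, ← x_add y, ← add_assoc, (ww_eq_v hF hW h1).1, zero_add]
  let X : Subgroup G :=
    { carrier := {a | ∃ x u, a = ww D r f x * D.xv u}
      one_mem' := ⟨0, 0, by rw [s6, v0 h, one_mul]⟩
      mul_mem' := by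
        rintro _ _ ⟨x, u, rfl⟩ ⟨y, u', rfl⟩
        exact ⟨_, _, mul x y u u'⟩
      inv_mem' := by
        rintro _ ⟨x, u, rfl⟩
        refine ⟨x, B6 x x + u, inv_eq_of_mul_eq_one_right ?_⟩
        rw [mul, x_add, s6, one_mul, ← add_assoc, f4_add, v0 h] }
  have v1 : ∀ {a : G} {x}, a = ww D r f x → a = ww D r f x * D.xv 0 := fun e => by
    rw [v0 h, mul_one, ← e]
  have vx : ∀ u, D.xv u = ww D r f 0 * D.xv u := fun u => by rw [s6, one_mul]
  have hX : ∀ a ∈ D.QA ⊔ closure (Set.range r ∪ Set.range f), ∃ x u, a = ww D r f x * D.xv u :=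
    (sup_le (Q_ind (H := X) (fun t => ⟨_, _, v1 (s2 t)⟩) (fun t => ⟨_, _, v1 (s3 t)⟩)
      (fun t => ⟨_, _, v1 (s4 t)⟩) (fun t => ⟨_, _, v1 (s5 t)⟩) fun t => ⟨_, _, vx t⟩)
      ((closure_le X).2 (by
        rintro _ (⟨t, rfl⟩ | ⟨t, rfl⟩)
        exacts [⟨_, _, v1 (s0 t)⟩, ⟨_, _, v1 (s1 t)⟩])) : _ ≤ X)
  let π : G → N6 × N6 := fun a =>
    if e : ∃ x u, a = ww D r f x * D.xv u then Pi6 e.choose else 0
  have hπ : ∀ x u, π (ww D r f x * D.xv u) = Pi6 x := fun x u => by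
    have e : ∃ x' u', ww D r f x * D.xv u = ww D r f x' * D.xv u' := ⟨x, u, rfl⟩
    obtain ⟨u', e'⟩ := e.choose_spec
    simp only [π, dif_pos e, ← uniq _ _ _ _ e']
  refine ⟨_, π, rfl, fun a ha => ?_, fun a ha b hb => ?_, fun a ha => ?_, fun y => ?_,
    fun a ha => ?_, fun a ha b hb => ?_, fun s => ?_, fun s => ?_, fun s => ?_, fun s => ?_,
    fun s => ?_, fun s => ?_⟩
  · obtain ⟨x, u, rfl⟩ := hX a ha
    exact ⟨x 0, x 1, _, mul_mem (mul_mem (mul_mem (mul_mem (xb_Q (x 2)) (xc_Q (x 3))) (xd_Q (x 4)))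
      (xe_Q (x 5))) (xv_Q u), by simp only [ww, mul_assoc]⟩
  · obtain ⟨x, u, rfl⟩ := hX a ha
    obtain ⟨y, u', rfl⟩ := hX b hb
    rw [mul, hπ, hπ, hπ, Pi6_add]
  · obtain ⟨x, u, rfl⟩ := hX a ha
    rw [hπ]
    refine ⟨fun e => ⟨u, by rw [Pi6_ker e, ← vx]⟩, fun ⟨s, e⟩ => ?_⟩
    rw [← uniq _ _ _ _ ((vx s).symm.trans e), Pi6_zero]
  · obtain ⟨x, rfl⟩ := Pi6_surj y
    refine ⟨_, mul_mem ?_ (mem_sup_left (xv_Q 0)), hπ x 0⟩
    exact mul_mem (mul_mem (mul_mem (mul_mem (mul_mem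
      (mem_sup_right (subset_closure (.inl ⟨_, rfl⟩))) (mem_sup_right (subset_closure (.inr ⟨_, rfl⟩))))
      (mem_sup_left (xb_Q _))) (mem_sup_left (xc_Q _))) (mem_sup_left (xd_Q _))) (mem_sup_left (xe_Q _))
  · obtain ⟨x, u, rfl⟩ := hX a ha
    rw [mul, hπ, x_add, s6, one_mul, f4_add, add_zero, qq_Pi6]
  · obtain ⟨x, u, rfl⟩ := hX a ha
    obtain ⟨y, u', rfl⟩ := hX b hb
    rw [mul, mul, hπ, hπ, bq_Pi6, sw (ww_v hF hW _ _), ← h.vv, add_comm y x]
    congr 2
    linear_combination -f4_add (B6 y x)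
  · rw [v1 (s0 s), hπ]; simp [Pi6, sm_zero]
  · rw [v1 (s1 s), hπ]; simp [Pi6, sm_zero]
  · rw [v1 (s5 s), hπ]; simp [Pi6, sm_zero]
  · rw [v1 (s2 s), hπ]; simp [Pi6, sm_zero]
  · rw [v1 (s4 s), hπ]; simp [Pi6, sm_zero]
  · rw [v1 (s3 s), hπ]; simp [Pi6, sm_zero]

end

theorem w6 : W6Stmt.{u} := fun _ _ _ _ _ _ _ _ _ hF hW fa => exists_w6 hF hW fa

end Cfsg.Agent.H84.AW
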