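import Cfsg.Agent.H84.AsW6

/-! Project AS: the action of the second translation group. -/

set_option autoImplicit false
set_option linter.unusedSectionVars false

namespace Cfsg.Agent.H84.AW

open Cfsg Subgroup Cfsg.Agent.H28 Cfsg.Agent.H42.AS Cfsg.Agent.H72.ASB

universe u

variable {G : Type u} [Group G] [Finite G] {D : RD G} {R O : Subgroup G} {r f : F4 → G} {c : F4}

theorem conj_comm {g a b : G} (h : a * b = b * a) :
    g * a * g⁻¹ * (g * b * g⁻¹) = g * b * g⁻¹ * (g * a * g⁻¹) := by rw [conj_mul, conj_mul, h]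

theorem conj_comm' {g a b : G} (hg : g * b = b * g) (h : a * b = b * a) :
    g * a * g⁻¹ * b = b * (g * a * g⁻¹) := (cmul (cmul hg.symm h.symm) (cinv hg.symm)).symm

variable (hF : D.Fa)
include hF

theorem ha_P : D.ha ∈ D.P :=
  L_P (mul_mem (mul_mem (mul_mem (mul_mem (mul_mem (xa_L _) na_L) (xa_L _)) na_L) (xa_L _)) na_L)

variable (hW : WA D R O r f c)
include hW

theorem q_nf {q : G} (hq : q ∈ D.QA) :
    ∃ x : Fin 6 → F4, ∃ u, x 0 = 0 ∧ x 1 = 0 ∧ q = ww D r f x * D.xv u := by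
  obtain ⟨t1, t2, t3, t4, t5, rfl⟩ := hF.par.qnf q hq
  exact ⟨![0, 0, t1, t2, t3, t4], t5, rfl, rfl, by simp [ww, hW.f0, one_of_add hW.r_add]⟩

theorem comm_iff {x y : Fin 6 → F4} {u u' : F4}
    (e : ww D r f x * D.xv u * (ww D r f y * D.xv u') = ww D r f y * D.xv u' * (ww D r f x * D.xv u)) :
    B6 x y + B6 y x = 0 := by
  rw [mul_assoc, mul_assoc, sw (ww_v hF hW y u), sw (ww_v hF hW x u'), ← hF.rel.vv, ← hF.rel.vv,
    add_comm u' u, ← mul_assoc, ← mul_assoc, mul_left_inj, ww_comm hF hW, mul_eq_right] at e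
  exact v_eq_one hF.rel e

theorem sq_eq (x : Fin 6 → F4) (u : F4) :
    ww D r f x * D.xv u * (ww D r f x * D.xv u) = D.xv (c * x 1 + B6 x x) := by
  rw [mul_assoc, sw (ww_v hF hW x u), v_sq hF.rel, mul_one, ww_sq hF hW]

/-- An element of `P` commuting with `c, d, e`. -/
theorem cde {p : G} (hp : p ∈ D.P) (hc : ∀ u, p * D.xc u = D.xc u * p)
    (hd : ∀ u, p * D.xd u = D.xd u * p) (he : ∀ u, p * D.xe u = D.xe u * p) :
    ∃ η x, p = D.xe η * D.xv x := by
  have h := hF.rel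
  obtain ⟨-, -, s2, s3, s4, s5, -⟩ := ww_single hF hW
  have v1 : ∀ {a : G} {x}, a = ww D r f x → a = ww D r f x * D.xv 0 := fun e => by
    rw [v0 h, mul_one, ← e]
  have key : ∀ {q : G} {x u}, q = ww D r f x * D.xv u → q * D.xc 1 = D.xc 1 * q →
      q * D.xd 1 = D.xd 1 * q → x 3 = 0 ∧ x 4 = 0 := by
    rintro _ x u rfl h1 h2
    rw [v1 (s3 1)] at h1
    rw [v1 (s4 1)] at h2
    exact ⟨by simpa [B6] using comm_iff hF hW h2, by simpa [B6] using comm_iff hF hW h1⟩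
  have hb : ∀ t, ∃ y, p * D.xb t * p⁻¹ = D.xb t * D.xv y := fun t => by
    by_cases t0 : t = 0
    · exact ⟨0, by rw [t0, one_of_add h.bb, v0 h]; simp⟩
    obtain ⟨x, u, x0, x1, e⟩ := q_nf hF hW (P_Q h hp _ (xb_Q t))
    obtain ⟨x3, x4⟩ := key e (conj_comm' (hc 1) (h.bc t 1)) (conj_comm' (hd 1) (h.bd t 1))
    have h1 : p * D.xb t * p⁻¹ * D.xe 1 = D.xv t * (D.xe 1 * (p * D.xb t * p⁻¹)) := by
      have h2 : p⁻¹ * D.xe 1 = D.xe 1 * p⁻¹ := (cinv (he 1).symm).symm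
      rw [mul_assoc, h2, ← mul_assoc, mul_assoc p, h.be, mul_one, ← mul_assoc, ← mul_assoc, he,
        mul_assoc _ p, P_v h hp, ← mul_assoc, h.ev]
      simp only [mul_assoc]
    have x2 : x 2 = t := by
      rw [e, s5 1, mul_assoc, ww_v hF hW, ← mul_assoc, ww_comm hF hW, ← mul_assoc _ _ (D.xv u),
        ← mul_assoc _ _ (D.xv u), mul_left_inj, mul_left_inj] at h1
      simpa [B6] using v_inj h h1
    have h3 := sq_eq hF hW x u
    rw [← e, conj_mul, sq_of_add h.bb, mul_one, mul_inv_cancel] at h3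
    have x5 : x 5 = 0 := by simpa [B6, x0, x1, x2, x3, t0] using v_eq_one h h3.symm
    refine ⟨u, ?_⟩
    rw [e, ww, x0, x1, x2, x3, x4, x5]
    simp [hW.f0, one_of_add hW.r_add, one_of_add h.cc, one_of_add h.dd, one_of_add h.ee]
  have pQ : p ∈ D.QA := hF.par.cQV p hp fun q hq => by
    obtain ⟨t1, t2, t3, t4, t5, rfl⟩ := hF.par.qnf q hq
    obtain ⟨y, e⟩ := hb t1
    have h1 := cmul (cmul (cmul (hc t2) (hd t3)) (he t4)) (P_v h hp t5)
    have : p * (D.xb t1 * D.xc t2 * D.xd t3 * D.xe t4 * D.xv t5) * p⁻¹ =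
        D.xv y * (D.xb t1 * D.xc t2 * D.xd t3 * D.xe t4 * D.xv t5) := by
      calc _ = p * D.xb t1 * p⁻¹ * (p * (D.xc t2 * D.xd t3 * D.xe t4 * D.xv t5) * p⁻¹) := by group
        _ = _ := by rw [e, h1, mul_inv_cancel_right, h.bv]; simp only [mul_assoc]
    rw [this, mul_inv_cancel_right]
    exact xv_V y
  obtain ⟨x, u, x0, x1, e⟩ := q_nf hF hW pQ
  obtain ⟨x3, x4⟩ := key e (hc 1) (hd 1)
  have h1 := he 1
  rw [e, v1 (s5 1)] at h1
  have x2 : x 2 = 0 := by simpa [B6] using comm_iff hF hW h1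
  refine ⟨x 5, u, ?_⟩
  rw [e, ww, x0, x1, x2, x3, x4]
  simp [hW.f0, one_of_add hW.r_add, one_of_add h.bb, one_of_add h.cc, one_of_add h.dd]

/-- An element acting on `R V` as `f τ`. -/
theorem dec {g : G} {τ : F4} (hv : ∀ u, g * D.xv u = D.xv u * g)
    (hr : ∀ s, g * r s = r s * D.xv (s * τ) * g) (h4 : g ^ 4 = 1) :
    ∃ γ, ∃ p ∈ D.P, g = r γ * f τ * p := by
  have h := hF.rel
  have h1 : ∀ s, (f τ)⁻¹ * g * r s = r s * ((f τ)⁻¹ * g) := fun s => by
    rw [mul_assoc, hr, inv_mul_eq_iff_eq_mul, ← mul_assoc, hW.fr]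
    simp only [mul_assoc, mul_inv_cancel_left]
  obtain ⟨k, hk, p, hp, e⟩ := hW.cV _ (hW.cr 1 one_ne_zero _ (h1 1))
    fun u => (cmul (cinv (fv hF hW τ u).symm) (hv u).symm).symm
  obtain ⟨x, hx, o, ho, rfl⟩ := hW.cKR k hk fun x hx => by
    obtain ⟨s, rfl⟩ := (hW.r_mem x).1 hx
    have h2 := h1 s
    rwa [e, mul_assoc, rA hF hW s (P_A h hp), ← mul_assoc, ← mul_assoc, mul_left_inj] at h2
  obtain ⟨γ, rfl⟩ := (hW.r_mem x).1 hx
  have op : o * p = p * o := (K_comm (hW.OK ho) (P_A h hp)).symm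
  have e1 : g = f τ * r γ * (p * o) := by
    rw [← op, ← mul_assoc, mul_assoc (f τ), mul_assoc (f τ), ← e, mul_inv_cancel_left]
  have c1 : Commute (f τ * r γ) (p * o) :=
    cmul (cmul (hW.fP τ p hp).symm (rA hF hW γ (P_A h hp))).symm
      (cmul (fO hF hW τ ho).symm (hW.OR o ho _ hx)).symm
  have q1 : (f τ * r γ) ^ 4 = 1 := by
    have : f τ * r γ * (f τ * r γ) = D.xv (c * τ + γ * τ) := by
      rw [mul_assoc, ← mul_assoc (r γ), mul_assoc (r γ), hW.fr, ← mul_assoc (r γ), ← mul_assoc (r γ),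
        sq_of_add hW.r_add, one_mul, ← fv hF hW, ← mul_assoc, hW.fsq, h.vv]
    rw [show 4 = 2 * 2 from rfl, pow_mul, sq, sq, this, v_sq h]
  rw [e1, c1.mul_pow, q1, one_mul, (Commute.mul_pow op.symm), mul_eq_one_iff_eq_inv] at h4
  have o4 : o ^ 4 = 1 := inv_eq_one.1 (AK hF (h4 ▸ pow_mem (P_A h hp) 4)
    (inv_mem (pow_mem (hW.OK ho) 4)))
  have o1 : o = 1 := H86.U3.eq_one_of_odd_of_two (O_odd hF hW ho) (n := 2) o4
  refine ⟨γ, D.xv (γ * τ) * p, mul_mem (Q_P (xv_Q _)) hp, ?_⟩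
  rw [e1, o1, mul_one, hW.fr, mul_assoc (r γ), ← fv hF hW]
  simp only [mul_assoc]

theorem s_comm (β : F4) {p q : G} (hp : p ∈ D.P) (e : D.nb * p = q * D.nb) :
    sE D f β * q = q * sE D f β := by
  have e' : D.nb * q = p * D.nb := by
    calc D.nb * q = D.nb * (q * D.nb) * D.nb := by rw [mul_assoc, mul_assoc, hF.rel.nb2, mul_one]
      _ = _ := by rw [← e, ← mul_assoc, hF.rel.nb2, one_mul]
  rw [sE, mul_assoc, e', ← mul_assoc, mul_assoc D.nb, hW.fP β p hp, ← mul_assoc, e]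
  simp only [mul_assoc]

theorem s_c (β u : F4) : sE D f β * D.xc u = D.xc u * sE D f β :=
  s_comm hF hW β (L_P (xa_L u)) (hF.rel.nba u)

theorem s_d (β u : F4) : sE D f β * D.xd u = D.xd u * sE D f β :=
  s_comm hF hW β (Q_P (xd_Q u)) (hF.rel.nbd u)

theorem s_v (β u : F4) : sE D f β * D.xv u = D.xv u * sE D f β :=
  s_comm hF hW β (Q_P (xe_Q u)) (hF.rel.nbe u)

theorem nb_v (u : F4) : D.nb * D.xv u = D.xe u * D.nb := by
  calc _ = D.nb * (D.xv u * D.nb) * D.nb := by rw [mul_assoc, mul_assoc, hF.rel.nb2, mul_one]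
    _ = _ := by rw [← hF.rel.nbe, ← mul_assoc, hF.rel.nb2, one_mul]

theorem s_e (β u : F4) : sE D f β * D.xe u = D.xe u * sE D f β :=
  s_comm hF hW β (Q_P (xv_Q u)) (nb_v hF hW u)

theorem s_r (β s : F4) : sE D f β * r s = r s * D.xe (s * β) * sE D f β := by
  rw [sE, mul_assoc, rA hF hW s nb_A, ← mul_assoc, mul_assoc D.nb, hW.fr, ← mul_assoc, ← mul_assoc,
    rA hF hW s nb_A, mul_assoc (r s), nb_v hF hW]
  simp only [mul_assoc]

theorem s_r' (β s : F4) : (sE D f β)⁻¹ * r s = r s * D.xe (s * β) * (sE D f β)⁻¹ := by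
  rw [inv_mul_eq_iff_eq_mul, ← mul_assoc, ← mul_assoc, s_r hF hW, mul_assoc _ (sE D f β), s_e hF hW,
    ← mul_assoc, mul_assoc (r s), sq_of_add hF.rel.ee, mul_one, mul_inv_cancel_right]

/-- The conjugate of an element which acts on `R X_e` as a translation by `V`. -/
theorem s_act (β : F4) {y : G} {τ : F4}
    (hy : ∀ s, y * (r s * D.xe (s * β)) = r s * D.xe (s * β) * D.xv (s * τ) * y) (s : F4) :
    sE D f β * y * (sE D f β)⁻¹ * r s = r s * D.xv (s * τ) * (sE D f β * y * (sE D f β)⁻¹) := by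
  rw [mul_assoc, s_r' hF hW, ← mul_assoc, mul_assoc _ y, hy, ← mul_assoc, ← mul_assoc, ← mul_assoc,
    s_r hF hW, mul_assoc _ (sE D f β) (D.xe _), s_e hF hW, ← mul_assoc, mul_assoc (r s),
    sq_of_add hF.rel.ee, mul_one, mul_assoc (r s), s_v hF hW]
  simp only [mul_assoc]

theorem form {g p : G} {γ τ : F4} (hp : p ∈ D.P) (e : g = r γ * f τ * p)
    (hc : ∀ u, g * D.xc u = D.xc u * g) (hd : ∀ u, g * D.xd u = D.xd u * g)
    (he : ∀ u, g * D.xe u = D.xe u * g) : ∃ η x, g = r γ * f τ * (D.xe η * D.xv x) := by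
  have key : ∀ {q : G}, q ∈ D.QA → g * q = q * g → p * q = q * p := fun {q} hq h1 => by
    rwa [e, ← mul_assoc q, cmul (rA hF hW γ (P_A hF.rel (Q_P hq))) (hW.fP τ q (Q_P hq)).symm,
      mul_assoc, mul_assoc _ q, mul_right_inj] at h1
  obtain ⟨η, x, rfl⟩ := cde hF hW hp (fun u => key (xc_Q u) (hc u)) (fun u => key (xd_Q u) (hd u))
    fun u => key (xe_Q u) (he u)
  exact ⟨η, x, e⟩

theorem g1 (β t : F4) : ∃ γ η x, sE D f β * D.xb t * (sE D f β)⁻¹ =
    ww D r f ![γ, t * β, t, 0, 0, η] * D.xv x := by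
  have h := hF.rel
  obtain ⟨γ, p, hp, e⟩ := dec hF hW (g := sE D f β * D.xb t * (sE D f β)⁻¹) (τ := t * β)
    (fun u => conj_comm' (s_v hF hW β u) (h.bv t u))
    (s_act hF hW β fun s => by
      rw [← mul_assoc, rA hF hW s (xb_A t), mul_assoc, h.be, mul_left_comm]
      simp only [mul_assoc])
    (by rw [conj_pow, show 4 = 2 * 2 from rfl, pow_mul, sq (D.xb t), sq_of_add h.bb]; simp)
  have c1 : D.xb t * (r γ * f (t * β)) = r γ * f (t * β) * D.xb t :=
    cmul (rA hF hW γ (xb_A t)) (hW.fP _ _ (Q_P (xb_Q t))).symm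
  obtain ⟨η, x, e'⟩ := form hF hW (g := (D.xb t)⁻¹ * (sE D f β * D.xb t * (sE D f β)⁻¹))
    (γ := γ) (τ := t * β) (mul_mem (inv_mem (Q_P (xb_Q t))) hp)
    (by rw [e, inv_mul_eq_iff_eq_mul, ← mul_assoc, c1]; simp only [mul_assoc, mul_inv_cancel_left])
    (fun u => (cmul (cinv (h.bc t u).symm) (conj_comm' (s_c hF hW β u) (h.bc t u)).symm).symm)
    (fun u => (cmul (cinv (h.bd t u).symm) (conj_comm' (s_d hF hW β u) (h.bd t u)).symm).symm)
    fun u => by
      rw [mul_assoc, inv_mul_eq_iff_eq_mul, ← mul_assoc (D.xb t), h.be, mul_assoc,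
        ← cinv (s_e hF hW β u).symm, ← mul_assoc, mul_assoc _ (D.xb t), h.be, ← mul_assoc,
        cmul (s_e hF hW β u) (s_v hF hW β _)]
      simp only [mul_assoc, mul_inv_cancel_left]
  refine ⟨γ, η, x, ?_⟩
  rw [inv_mul_eq_iff_eq_mul] at e'
  rw [e', ← mul_assoc, c1]
  simp [ww, one_of_add h.cc, one_of_add h.dd, mul_assoc]

theorem g2 (β t : F4) : ∃ γ η x, sE D f β * f t * (sE D f β)⁻¹ =
    ww D r f ![γ, t, 0, 0, 0, η] * D.xv x := by
  have h := hF.rel
  obtain ⟨γ, p, hp, e⟩ := dec hF hW (g := sE D f β * f t * (sE D f β)⁻¹) (τ := t)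
    (fun u => conj_comm' (s_v hF hW β u) (fv hF hW t u))
    (s_act hF hW β fun s => by
      rw [← mul_assoc, hW.fr, mul_assoc, hW.fP t _ (Q_P (xe_Q _)), mul_assoc (r s), sw (h.ev _ _).symm]
      simp only [mul_assoc])
    (by rw [conj_pow, show 4 = 2 * 2 from rfl, pow_mul, sq (f t), hW.fsq, sq, v_sq h]; simp)
  obtain ⟨η, x, e'⟩ := form hF hW hp e
    (fun u => conj_comm' (s_c hF hW β u) (hW.fP t _ (Q_P (xc_Q u))))
    (fun u => conj_comm' (s_d hF hW β u) (hW.fP t _ (Q_P (xd_Q u))))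
    fun u => conj_comm' (s_e hF hW β u) (hW.fP t _ (Q_P (xe_Q u)))
  refine ⟨γ, η, x, ?_⟩
  rw [e']
  simp [ww, one_of_add h.bb, one_of_add h.cc, one_of_add h.dd, mul_assoc]

theorem g12 (β : F4) : c * β = 0 ∧ ∃ γ,
    (∀ t, ∃ x, sE D f β * f t * (sE D f β)⁻¹ = f t * D.xe (γ * t) * D.xv x) ∧
    ∀ t, ∃ x, sE D f β * D.xb t * (sE D f β)⁻¹ =
      r (γ * t) * f (β * t) * D.xe (γ * β * t) * D.xb t * D.xv x := by
  have h := hF.rel
  choose a1 a2 a3 ha using g1 hF hW β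
  choose b1 b2 b3 hb using g2 hF hW β
  have k1 : ∀ t u, a1 t * u + b2 u * t + (t * β * b1 u) = 0 := fun t u => by
    have := conj_comm (g := sE D f β) (hW.fP u _ (Q_P (xb_Q t)))
    rw [ha, hb] at this
    have := comm_iff hF hW this
    simp [B6] at this
    linear_combination this
  have k2 : ∀ t u, t * b1 u + u * b1 t = 0 := fun t u => by
    have := conj_comm (g := sE D f β) (hW.ff t u)
    rw [hb, hb] at this
    simpa [B6] using comm_iff hF hW this
  have k3 : ∀ t, t * b1 t = 0 := fun t => by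
    have := sq_eq hF hW ![b1 t, t, 0, 0, 0, b2 t] (b3 t)
    rw [← hb, conj_mul, hW.fsq, s_v hF hW, mul_inv_cancel_right] at this
    simpa [B6] using v_inj h this
  have k4 : ∀ t, c * (t * β) + (t * β * a1 t + a2 t * t) = 0 := fun t => by
    have := sq_eq hF hW ![a1 t, t * β, t, 0, 0, a2 t] (a3 t)
    rw [← ha, conj_mul, sq_of_add h.bb, mul_one, mul_inv_cancel] at this
    simpa [B6] using v_eq_one h this.symm
  have k5 : ∀ t u, t * β * a1 u + a2 t * u + (u * β * a1 t + a2 u * t) = 0 := fun t u => by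
    have := conj_comm (g := sE D f β) (show D.xb t * D.xb u = D.xb u * D.xb t by
      rw [← h.bb, ← h.bb, add_comm])
    rw [ha, ha] at this
    simpa [B6] using comm_iff hF hW this
  have h2 : (2 : F4) = 0 := by decide
  have e1 : ∀ t, b1 t = 0 := fun t => by
    linear_combination k2 1 t - t * k3 1
  have e2 : ∀ u, b2 u = a1 1 * u := fun u => by
    linear_combination k1 1 u - β * e1 u - (a1 1 * u) * h2
  have e3 : ∀ t, a1 t = a1 1 * t := fun t => by
    linear_combination k1 t 1 - t * β * e1 1 - t * e2 1 - (a1 1 * t) * h2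
  have e4 : ∀ t, a2 t = a2 1 * t := fun t => by
    linear_combination k5 t 1 - β * e3 t - (a1 1 * β * t + a2 1 * t) * h2
  have e5 : c * β = 0 := by
    have h3 : om * om + om = 1 := by decide
    linear_combination (om * om) * k4 1 + k4 om - om * β * e3 om - om * e4 om - c * β * h3 -
      (om * om * (β * a1 1 + a2 1)) * h2
  have e6 : a2 1 = a1 1 * β := by
    linear_combination k4 1 - e5 - (a1 1 * β) * h2
  refine ⟨e5, a1 1, fun t => ⟨b3 t, ?_⟩, fun t => ⟨t * (a1 1 * β * t) + a3 t, ?_⟩⟩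
  · rw [hb, e1, e2]
    simp [ww, one_of_add hW.r_add, one_of_add h.bb, one_of_add h.cc, one_of_add h.dd]
  · rw [ha, e3, e4, e6, mul_comm t β, h.vv]
    simp only [ww, Matrix.cons_val, one_of_add h.cc, one_of_add h.dd, mul_one, mul_assoc, mul_right_inj]
    rw [← mul_assoc, h.be, mul_assoc, mul_assoc, sw (h.bv _ _)]

theorem f_add (s t : F4) : f (s + t) = f s * f t := by
  have c0 : c = 0 := by simpa using (g12 hF hW 1).1
  have sq : ∀ t, f t * f t = 1 := fun t => by rw [hW.fsq, c0, zero_mul, v0 hF.rel]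
  have h1 : f (om ^ 2) = f 1 * f om := by
    rw [← mul_one (f 1 * f om), ← sq (om ^ 2), ← mul_assoc, hW.f3, one_mul]
  have h2 : f om = f 1 * f (om ^ 2) := by rw [h1, ← mul_assoc, sq, one_mul]
  have h3 : f 1 = f om * f (om ^ 2) := by rw [h1, hW.ff 1, ← mul_assoc, sq, one_mul]
  have a1 : (1 : F4) + om = om ^ 2 := by decide
  have a2 : (1 : F4) + om ^ 2 = om := by decide
  have a3 : om + om ^ 2 = 1 := by decide
  rcases f4_cases s with rfl | rfl | rfl | rfl <;> rcases f4_cases t with rfl | rfl | rfl | rfl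
  any_goals rw [zero_add, hW.f0, one_mul]
  any_goals rw [add_zero, hW.f0, mul_one]
  any_goals rw [f4_add, hW.f0, sq]
  · rw [a1, h1]
  · rw [a2, ← h2]
  · rw [add_comm, a1, h1, hW.ff]
  · rw [a3, ← h3]
  · rw [add_comm, a2, hW.ff, ← h2]
  · rw [add_comm, a3, hW.ff, ← h3]

theorem fe_inj {γ γ' x x' : F4} (e : D.xe γ * D.xv x = D.xe γ' * D.xv x') : γ = γ' := by
  have h := hF.rel
  have h1 : D.xe (γ + γ') * D.xv (x + x') = 1 := by
    rw [h.ee, h.vv, mul_assoc, sw (h.ev _ _), ← mul_assoc, e, mul_assoc, sw (h.ev _ _).symm,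
      v_sq h, mul_one, sq_of_add h.ee]
  have h2 := (h.nf 0 0 0 0 _ _ (by
    rw [one_of_add h.aa, one_of_add h.bb, one_of_add h.cc, one_of_add h.dd]
    simpa using h1)).2.2.2.2.1
  rw [← add_zero γ, ← f4_add γ', ← add_assoc, h2, zero_add]

theorem exists_wb : ∃ v, WB D r f v := by
  have h := hF.rel
  choose γ h1 h2 using fun β => (g12 hF hW β).2
  have z0 : γ 0 = 0 := by
    obtain ⟨x, e⟩ := h1 0 1
    rw [sE, hW.f0, mul_one, h.nb2, one_mul, inv_one, mul_one, mul_one, mul_assoc, left_eq_mul] at e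
    exact fe_inj hF hW (x := x) (x' := 0) (by rw [e, one_of_add h.ee, v0 h, mul_one])
  have step : ∀ β, γ (om ^ 2 * β) = om * γ β := fun β => by
    have cs : (D.nb * D.rho * D.nb) * sE D f β = sE D f (om ^ 2 * β) * (D.nb * D.rho * D.nb) := by
      have nn : ∀ z, D.nb * (D.nb * z) = z := fun z => by rw [← mul_assoc, h.nb2, one_mul]
      simp only [sE, mul_assoc, nn]
      rw [← mul_assoc D.rho, hW.rf, mul_assoc]
    have c2 : ∀ {g : G} {x : F4 → G} {a : F4}, (∀ t, g * x t = x (a * t) * g) →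
        ∀ t, g ^ 2 * x t = x (a * (a * t)) * g ^ 2 := fun hx t => by
      rw [sq, mul_assoc, hx, ← mul_assoc, hx, mul_assoc]
    have c3 : ∀ {x : F4 → G} {a : F4}, (∀ t, D.rho * x t = x (a * t) * D.rho) →
        (∀ t, D.ha * x t = x t * D.ha) → ∀ t, (D.nb * D.rho * D.nb) * x t *
          (D.nb * D.rho * D.nb)⁻¹ = x (a * (a * t)) := fun hx hy t => by
      rw [h.nbr, mul_assoc (D.rho ^ 2), (Commute.pow_left (hy t) 2).eq, ← mul_assoc, c2 hx,
        mul_assoc _ (D.rho ^ 2), mul_inv_cancel_right]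
    obtain ⟨x, e⟩ := h1 β 1
    obtain ⟨x', e'⟩ := h1 (om ^ 2 * β) (om ^ 2 * (om ^ 2 * 1))
    have e2 := congrArg (fun y => (D.nb * D.rho * D.nb) * y * (D.nb * D.rho * D.nb)⁻¹) e
    have cm : ∀ g a b c : G, g * (a * b * c) * g⁻¹ = g * a * g⁻¹ * (g * b * g⁻¹) * (g * c * g⁻¹) :=
      fun _ _ _ _ => by group
    beta_reduce at e2
    rw [cm, cm, ← conj_inv] at e2
    rw [conj_of_eq cs, c3 hW.rf fun t => (hW.fP t _ (ha_P hF)).symm, c3 h.re h.hae, c3 h.rv h.hav,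
      e', mul_assoc, mul_assoc (f _), mul_right_inj] at e2
    have e3 := fe_inj hF hW e2
    revert e3
    generalize γ (om ^ 2 * β) = a
    generalize γ β = b
    revert a b
    decide
  have all : ∀ β, γ β = γ 1 * β ^ 2 := fun β => by
    have s1 := step 1
    have s2 := step (om ^ 2)
    rw [show om ^ 2 * 1 = om ^ 2 by decide] at s1
    rw [show om ^ 2 * om ^ 2 = om by decide, s1] at s2
    rcases f4_cases β with rfl | rfl | rfl | rfl
    · simp [z0]
    · simp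
    · rw [s2]; ring
    · rw [s1, show (om ^ 2) ^ 2 = om by decide, mul_comm]
  refine ⟨γ 1, f_add hF hW, fun β t => all β ▸ h1 β t, fun β t => ?_⟩
  rw [pow_succ β 2, ← mul_assoc (γ 1), ← all]
  exact h2 β t

omit hF hW in
theorem wb : WBStmt.{u} := fun _ _ _ _ _ _ _ _ _ hF _ hW => exists_wb hF hW

end Cfsg.Agent.H84.AW
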