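import Cfsg.Agent.H84.AlRA

/-! Project AL, rank one: `t` is not a commutator; conjugates of `t` near `Us`; fusion. -/

set_option autoImplicit false
set_option linter.unusedSectionVars false

namespace Cfsg.Agent.H84.ALR

open Cfsg Subgroup Cfsg.Agent.H28 Cfsg.Agent.H42.AL Cfsg.Agent.H84.ALW
open Cfsg.Agent.H42.AS (om)
open Cfsg.Agent.H72.ASB (f4_cases f4_add om_fix one_of_add sq_of_add inv_of_add mem_closure_range
  conj_of_eq conj_closure)
open Cfsg.Agent.H84.AW (sw cmul cinv conj_comm conj_comm')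
open scoped commutatorElement Pointwise

universe u

variable {G : Type u} [Group G] [Finite G] {D : RD G} {t : G} {O : Subgroup G} {f : F4 → G}
  {c c0 : F4}

/-- `g` acts on `Vs` as `l` times `tw fr a`. -/
def TV (D : RD G) (f : F4 → G) (g : G) (l : F4) (fr : Bool) (a : F4) : Prop :=
  l ≠ 0 ∧ ∀ x, g * Vv D f x * g⁻¹ = Vv D f (sc l (tw fr a x))

theorem pw_pw : ∀ (fr fr' : Bool) (x : F4), pw fr (pw fr' x) = pw (xor fr fr') x := by decide

theorem pw_add : ∀ (fr : Bool) (x y : F4), pw fr (x + y) = pw fr x + pw fr y := by decide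

theorem pw_ne : ∀ (fr : Bool) (x : F4), x ≠ 0 → pw fr x ≠ 0 := by decide

theorem TV.mul {g h : G} {l m a b : F4} {fr fr' : Bool} (e : TV D f g l fr a) (e' : TV D f h m fr' b) :
    TV D f (g * h) (l * pw fr m) (xor fr fr') (a + pw fr b) :=
  ⟨mul_ne_zero e.1 (pw_ne _ _ e'.1), fun x => by
    calc _ = g * (h * Vv D f x * h⁻¹) * g⁻¹ := by group
      _ = _ := by
        rw [e'.2, e.2]
        congr 1
        refine Prod.ext ?_ ?_ <;> simp only [sc, tw, pw_mul, pw_add, pw_pw] <;> ring⟩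

theorem TV.div {g h : G} {l m a : F4} {fr : Bool} (e : TV D f g l fr a) (e' : TV D f h m fr a) :
    TV D f (g * h⁻¹) (l * m ^ 2) false 0 :=
  ⟨mul_ne_zero e.1 (pow_ne_zero _ e'.1), fun x => by
    have h1 : sc m (tw fr a (pw fr (m ^ 2 * x.1 + a * (m ^ 2 * x.2)), pw fr (m ^ 2 * x.2))) = x := by
      have h2 : ∀ y, pw fr (pw fr y) = y := fun y => by rw [pw_pw, Bool.xor_self]; rfl
      refine Prod.ext ?_ ?_ <;> simp only [sc, tw, h2]
      · linear_combination x.1 * cube e'.1 + f4_add (m * a * m ^ 2 * x.2)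
      · linear_combination x.2 * cube e'.1
    generalize (pw fr (m ^ 2 * x.1 + a * (m ^ 2 * x.2)), pw fr (m ^ 2 * x.2)) = y at h1
    subst h1
    calc _ = g * (h⁻¹ * (h * Vv D f y * h⁻¹) * h) * g⁻¹ := by rw [e'.2]; group
      _ = g * Vv D f y * g⁻¹ := by group
      _ = _ := by
        rw [e.2]
        congr 1
        refine Prod.ext ?_ ?_ <;> simp only [sc, tw, show ∀ y, pw false y = y from fun _ => rfl]
        · linear_combination -(l * (pw fr y.1 + a * pw fr y.2)) * cube e'.1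
        · linear_combination -(l * pw fr y.2) * cube e'.1⟩

theorem tw_comm : ∀ (c0 a b : F4) (fr fr' : Bool), a ^ 2 + a = c0 + pw fr c0 →
    b ^ 2 + b = c0 + pw fr' c0 → a + pw fr b = b + pw fr' a := by decide

theorem conj_two {z : G} {n : ℕ} (e : z ^ n = 1) (h : G) : (h⁻¹ * z * h) ^ n = 1 := by
  simpa [e] using conj_pow (a := h⁻¹) (b := z) (i := n)

variable (hF : D.Fa) (hP : RP D t O) (hA : RA D t O f c) (hQ : RQ D t O f c0)
include hF hP

theorem two_K {k : G} (hk : k ∈ D.K) (kt : k * t = t * k) {a : G} (ha : a ∈ D.A) {n : ℕ}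
    (e : (a * k) ^ 2 ^ n = 1) : k = 1 ∨ k = t := by
  rw [Commute.mul_pow (K_comm hk ha), mul_eq_one_iff_eq_inv] at e
  have h1 : k ^ 2 ^ n = 1 := inv_eq_one.1 (hF.par.AK _ (e ▸ pow_mem ha _) (inv_mem (pow_mem hk _)))
  have odd : ∀ o ∈ O, Odd (orderOf o) := fun o ho => hP.oddO.of_dvd_nat (orderOf_dvd_natCard _ ho)
  refine (hP.cKt k hk kt).imp (fun ho => H86.U3.eq_one_of_odd_of_two (odd _ ho) h1) fun ho => ?_
  have h2 : t * k = 1 := H86.U3.eq_one_of_odd_of_two (odd _ ho) (n := n + 1) (by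
    rw [Commute.mul_pow kt.symm, pow_succ, pow_mul k, h1, pow_mul', sq, hP.t2]; simp)
  exact (mul_left_cancel (hP.t2.trans h2.symm)).symm

include hA hQ

theorem TV_A {a : G} (ha : a ∈ D.A) {l b : F4} (e : TV D f a l false b) : b = 0 := by
  have h := hF.rel
  obtain ⟨i, hi⟩ := hF.glob.normV a ha (mem_normalizer_fintype (conj_closure (by
    rintro _ ⟨x, rfl⟩
    rw [← V_v hF hP hA, e.2]
    simpa [sc, tw, pw, V_v hF hP hA] using xv_V _)))
  have h1 : ∀ i : ℕ, ∃ m, TV D f (a * D.rho ^ i) m false b := fun i => by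
    induction i with
    | zero => exact ⟨l, by simpa using e⟩
    | succ i ih =>
      obtain ⟨m, e'⟩ := ih
      have := e'.mul (h := D.rho) (m := om ^ 2) (fr' := false) (b := 0) ⟨by decide, fun x => by
        rw [conj_of_eq (hQ.rV x)]; simp [tw, pw]⟩
      exact ⟨_, by simpa [pow_succ, mul_assoc, pw] using this⟩
  obtain ⟨m, e'⟩ := h1 i
  have h2 := e'.2 (0, 1)
  rw [Us_V hQ (U_Us hF hP hA hi), mul_inv_cancel_right] at h2
  have h3 := congrArg Prod.fst (V_inj hQ h2)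
  simpa [sc, tw, pw, e'.1] using h3

theorem exists_TV {g : G} (gt : g * t = t * g) :
    ∃ a ∈ D.A, ∃ l fr b, b ^ 2 + b = c0 + pw fr c0 ∧ TV D f (a * g) l fr b := by
  obtain ⟨a, ha, l, m, fr, e⟩ := hF.glob.out g (hP.ct g gt)
  have h1 : a * g * t = t * (a * g) := (cmul (t_A hF hP ha).symm gt.symm).symm
  rcases e with e | e
  · obtain ⟨b, e'⟩ := act hF hP hA hQ _ (Or.inl rfl) _ _ _ _ h1 e
    exact ⟨a, ha, _, fr, b, e'.ring, mul_ne_zero e.l0 e.m0, e'.v⟩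
  · obtain ⟨b, e'⟩ := act hF hP hA hQ _ (Or.inr rfl) _ _ _ _ h1 e
    exact ⟨a, ha, _, fr, b, e'.ring, mul_ne_zero e.l0 e.m0, e'.v⟩

theorem spl (z : G) (hz : z ∈ ⁅centralizer ({t} : Set G), centralizer ({t} : Set G)⁆)
    (z2 : ∃ k : ℕ, z ^ 2 ^ k = 1) : z ∈ D.A := by
  have CN : centralizer ({t} : Set G) ≤ D.N := fun g hg =>
    hP.ct g (mem_centralizer_singleton_iff.1 hg)
  have cj : ∀ {g a : G}, g ∈ D.N → a ∈ D.A → g * a * g⁻¹ ∈ D.A := fun hg ha =>
    (mem_normalizer_iff.1 hg _).1 ha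
  let H : Subgroup G :=
    { carrier := {g | g ∈ D.N ∧ ∃ a ∈ D.A, ∃ l, TV D f (a * g) l false 0}
      one_mem' := ⟨one_mem _, 1, one_mem _, 1, one_ne_zero, fun x => by simp [sc, tw, pw]⟩
      mul_mem' := by
        rintro g h ⟨gN, a, ha, l, e⟩ ⟨hN, b, hb, m, e'⟩
        refine ⟨mul_mem gN hN, _, mul_mem ha (cj gN hb), l * m, ?_⟩
        simpa [pw, mul_assoc] using e.mul e'
      inv_mem' := by
        rintro g ⟨gN, a, ha, l, e⟩
        refine ⟨inv_mem gN, _, cj (inv_mem gN) (inv_mem ha), 1 * l ^ 2, ?_⟩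
        simpa [mul_assoc] using TV.div (g := 1) (l := 1)
          ⟨one_ne_zero, fun x => by simp [sc, tw, pw]⟩ e }
  have h1 : z ∈ H := (commutator_le.2 fun g hg h hh => by
    obtain ⟨a, ha, l, fr, x, rx, e⟩ := exists_TV hF hP hA hQ (mem_centralizer_singleton_iff.1 hg)
    obtain ⟨b, hb, m, fr', y, ry, e'⟩ := exists_TV hF hP hA hQ (mem_centralizer_singleton_iff.1 hh)
    have gN := CN hg
    have hN := CN hh
    have h2 := e'.mul e
    rw [Bool.xor_comm, ← tw_comm c0 x y fr fr' rx ry] at h2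
    have cN : ⁅g, h⁆ ∈ D.N := mul_mem (mul_mem (mul_mem gN hN) (inv_mem gN)) (inv_mem hN)
    refine ⟨cN, _, mul_mem (mul_mem (mul_mem ha (cj gN hb))
      (cj (mul_mem (mul_mem gN hN) (inv_mem gN)) (inv_mem ha))) (cj cN (inv_mem hb)), _,
      (congrArg (TV D f · _ _ _) ?_).mp ((e.mul e').div h2)⟩
    simp only [commutatorElement_def]
    group : _ ≤ H) hz
  obtain ⟨a, ha, k, hk, rfl⟩ := hF.par.comm2 z (commutator_mono CN CN hz) z2
  obtain ⟨n, hn⟩ := z2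
  have zt := mem_centralizer_singleton_iff.1 ((commutator_le.2 fun g hg h hh =>
    mul_mem (mul_mem (mul_mem hg hh) (inv_mem hg)) (inv_mem hh) : _ ≤ centralizer {t}) hz)
  rw [← mul_assoc, ← t_A hF hP ha, mul_assoc, mul_assoc, mul_right_inj] at zt
  rcases two_K hF hP hk zt ha hn with rfl | rfl
  · rwa [mul_one]
  · obtain ⟨-, b, hb, l, e⟩ := h1
    have h2 := e.mul (h := k) (m := 1) (fr' := false) (b := 1) ⟨one_ne_zero, fun x => by
      rw [conj_of_eq (hQ.tV x), one_sc]⟩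
    rw [mul_assoc, mul_assoc, hP.t2, mul_one] at h2
    simpa [pw] using TV_A hF hP hA hQ (mul_mem hb ha) h2

theorem spl' {h x z : G} (e : h * t * h⁻¹ = x) {a b : G} (ha : a * x = x * a) (hb : b * x = x * b)
    (ez : z = ⁅a, b⁆) {n : ℕ} (z2 : z ^ 2 ^ n = 1) : h⁻¹ * z * h ∈ D.A := by
  have k : ∀ {a : G}, a * x = x * a → h⁻¹ * a * h ∈ centralizer ({t} : Set G) := fun {a} ha => by
    rw [mem_centralizer_singleton_iff]
    calc _ = h⁻¹ * (a * x) * h := by rw [← e]; group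
      _ = _ := by rw [ha, ← e]; group
  refine spl hF hP hA hQ _ ?_ ⟨n, conj_two z2 h⟩
  have := commutator_mem_commutator (k ha) (k hb)
  rwa [show ⁅h⁻¹ * a * h, h⁻¹ * b * h⁆ = h⁻¹ * z * h by
    simp only [ez, commutatorElement_def]; group] at this

theorem noV (x : F4 × F4) : ¬ IsConj t (Vv D f x) := fun e => by
  obtain ⟨h, e⟩ := isConj_iff.1 e
  have h1 := spl' hF hP hA hQ e (hQ.BV (1, 0) x) (hQ.EV x x) (z := Vv D f x) (by
    rw [commutatorElement_def, hQ.BE, hQ.EV, mul_inv_cancel_right, mul_inv_cancel_right]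
    congr 1
    ext <;> simp [rm]) (n := 1) (by rw [pow_one, sq, V_sq hQ])
  rw [← e] at h1
  exact tA hF hP (by simpa [mul_assoc] using h1)

omit hA hQ in
theorem cE1 {y : G} (yt : y * t = t * y) (ye : ∀ x ∈ D.E1, y * x = x * y) {n : ℕ}
    (y2 : y ^ 2 ^ n = 1) : y ∈ zpowers t ⊔ D.E1 := by
  have he := ye (D.xe 1) (subset_closure (Or.inl ⟨1, rfl⟩))
  obtain ⟨k, hk, u, hu, rfl⟩ := cE hF (hP.ct y yt)
    (fun x => ye _ (subset_closure (Or.inr ⟨x, rfl⟩))) (x := 0)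
    (by rw [conj_of_eq he, v0 hF.rel, mul_one])
  have uA := U_A hF.rel hu
  rw [← mul_assoc, K_comm hk (xe_A 1), mul_assoc, mul_assoc, mul_right_inj] at he
  rw [mul_assoc, t_A hF hP uA, ← mul_assoc, ← mul_assoc, mul_left_inj] at yt
  obtain ⟨η, x, rfl⟩ := cde hF hu he
  refine mul_mem (mem_sup_left ?_) (mem_sup_right (mul_mem (subset_closure (Or.inl ⟨_, rfl⟩))
    (subset_closure (Or.inr ⟨_, rfl⟩))))
  rcases two_K hF hP hk yt uA (n := n) (by rwa [K_comm hk uA]) with rfl | rfl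
  exacts [one_mem _, mem_zpowers _]

omit hA hQ in
theorem rp_swap : RP D.swap t O := by
  refine ⟨?_, ?_, hP.t1, hP.t2, ?_, hP.oddO, hP.Ot, ?_, ?_, hP.mov, ?_, ?_⟩ <;>
    simp only [swap_A, swap_K, swap_N]
  exacts [hP.std, hP.tK, hP.OK, hP.cKt, hP.ct, hP.noD,
    fun F a b c => (hP.rk5 F a b c).imp fun _ h => ⟨h.1, h.2.symm⟩]

theorem cen0 {x : G} (hx : IsConj t x) (xv : ∀ c, x * Vv D f c = Vv D f c * x) {y : G}
    (hy : y ∈ Us D f) (yx : y * x = x * y) : ∃ c, y = Vv D f c ∨ y = x * Vv D f c := by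
  obtain ⟨h, e⟩ := isConj_iff.1 hx
  have x2 : x * x = 1 := by rw [← e, conj_mul, hP.t2]; simp
  let φ : (F4 × F4) ⊕ (F4 × F4) → G := Sum.elim (Vv D f) fun c => x * Vv D f c
  let F : Subgroup G :=
    { carrier := Set.range φ
      one_mem' := ⟨.inl 0, V0 hQ⟩
      mul_mem' := by
        rintro _ _ ⟨a | a, rfl⟩ ⟨b | b, rfl⟩
        · exact ⟨.inl (a + b), hQ.VV a b⟩
        · exact ⟨.inr (a + b), by simp only [φ, Sum.elim_inl, Sum.elim_inr, hQ.VV, sw (xv a)]⟩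
        · exact ⟨.inr (a + b), by simp only [φ, Sum.elim_inl, Sum.elim_inr, hQ.VV, mul_assoc]⟩
        · exact ⟨.inl (a + b), by
            simp only [φ, Sum.elim_inl, Sum.elim_inr]
            rw [mul_assoc, ← sw (xv a), ← mul_assoc, x2, one_mul, hQ.VV]⟩
      inv_mem' := by
        rintro _ ⟨a | a, rfl⟩
        · exact ⟨.inl a, (V_inv hQ a).symm⟩
        · exact ⟨.inr a, by
            simp only [φ, Sum.elim_inr]
            rw [mul_inv_rev, V_inv hQ, inv_eq_of_mul_eq_one_right x2, xv]⟩ }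
  have ne : ∀ a b, Vv D f a ≠ x * Vv D f b := fun a b e' => noV hF hP hA hQ (a + b) (by
    rwa [hQ.VV, e', mul_assoc, V_sq hQ, mul_one])
  have cF : Nat.card F = 32 := (Nat.card_range_of_injective (f := φ) (by
    rintro (a | a) (b | b) e'
    · exact congrArg _ (V_inj hQ e')
    · exact absurd e' (ne a b)
    · exact absurd e'.symm (ne b a)
    · exact congrArg _ (V_inj hQ (mul_left_cancel e')))).trans (by simp [card_F4])
  have yF : ∀ z ∈ F, y * z = z * y := by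
    rintro _ ⟨a | a, rfl⟩
    exacts [Us_V hQ hy a, cmul yx (Us_V hQ hy a)]
  obtain ⟨a, ha, hE⟩ := hP.rk5 (MulAut.conj h⁻¹ • F)
    (H8.mem_conj_smul.2 ⟨.inr 0, by simp [φ, V0 hQ, e]⟩) (fun z hz => by
      have : ∀ z ∈ F, z * z = 1 := by
        rintro _ ⟨a | a, rfl⟩
        · exact V_sq hQ a
        · simp only [φ, Sum.elim_inr]
          rw [mul_assoc, ← sw (xv a), V_sq hQ, mul_one, x2]
      have := this _ (H8.mem_conj_smul.1 hz)
      rwa [inv_inv, conj_mul, mul_inv_eq_one, mul_eq_left] at this)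
    ((H8.card_conj_smul _ _).trans cF)
  have key : ∀ E : Subgroup G, (∀ z, a * z * a⁻¹ ∈ MulAut.conj h⁻¹ • F ↔ z ∈ zpowers t ⊔ E) →
      (∀ {y : G}, y * t = t * y → (∀ x ∈ E, y * x = x * y) → y ^ 2 ^ 2 = 1 → y ∈ zpowers t ⊔ E) →
      y ∈ F := fun E h1 h2 => by
    have h3 : ∀ z ∈ zpowers t ⊔ E, (h * a)⁻¹ * y * (h * a) * z = z * ((h * a)⁻¹ * y * (h * a)) :=
      fun z hz => by
        have := yF _ (H8.mem_conj_smul.1 ((h1 z).2 hz))
        calc _ = (h * a)⁻¹ * (y * (h⁻¹⁻¹ * (a * z * a⁻¹) * h⁻¹)) * (h * a) := by group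
          _ = _ := by rw [this]; group
    have := H8.mem_conj_smul.1 ((h1 _).2 (h2 (h3 t (mem_sup_left (mem_zpowers t)))
      (fun z hz => h3 z (mem_sup_right hz)) (conj_two (Us_four hQ hy) _)))
    simpa [mul_assoc] using this
  obtain ⟨b | b, e'⟩ : y ∈ F := hE.elim (fun h1 => key _ h1 fun a b c => cE1 hF hP a b c)
    fun h1 => key _ h1 fun a b c => cE1 (fa_swap hF) (rp_swap hF hP) a b c
  exacts [⟨b, Or.inl e'.symm⟩, ⟨b, Or.inr e'.symm⟩]

theorem noU (x : G) (hx : x ∈ Us D f) : ¬ IsConj t x := fun e => by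
  obtain ⟨a, b, z, rfl⟩ : ∃ a b z, x = Nf D f a b z := hQ.unf x hx
  obtain ⟨w, e'⟩ := cen0 hF hP hA hQ e (Us_V hQ hx) (Nf_Us (sc om a) (sc om b) 0) (by
    rw [Nf_mul hQ, Nf_mul hQ, add_comm a, add_comm b]
    congr 1
    refine Prod.ext ?_ ?_ <;> simp [rm, sc] <;> ring)
  have k : ∀ a : F4 × F4, sc om a = 0 ∨ sc om a = a + 0 → a = 0 := by decide
  rw [← Nf_V hQ, Nf_mul hQ] at e'
  obtain rfl := k a (e'.imp (fun e => (Nf_inj hQ e).1) fun e => (Nf_inj hQ e).1)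
  obtain rfl := k b (e'.imp (fun e => (Nf_inj hQ e).2.1) fun e => (Nf_inj hQ e).2.1)
  exact noV hF hP hA hQ z (Nf_V hQ z ▸ e)

theorem exists_rs : RS D t f c0 :=
  ⟨act hF hP hA hQ, spl hF hP hA hQ, noU hF hP hA hQ, fun x hx xv y hy yx =>
    (cen0 hF hP hA hQ hx xv hy yx).imp fun w e => e.resolve_right fun e =>
      noU hF hP hA hQ x (by
        rw [eq_mul_inv_of_mul_eq e.symm]; exact mul_mem hy (inv_mem (Vv_Us w))) hx⟩

theorem fus0 : Fus D t f c0 := by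
  intro g l m gt g2 e hx
  have h := hF.rel
  obtain ⟨y, hy⟩ := isConj_iff.1 hx
  have tw0 : ∀ a, tw false 0 a = a := fun a => by simp [tw, pw]
  have ti : t⁻¹ = t := inv_eq_of_mul_eq_one_right hP.t2
  have lm : l * m = 1 := by
    have h1 : g * (g * Vv D f (1, 0) * g⁻¹) * g⁻¹ = Vv D f (1, 0) := by
      rw [inv_eq_of_mul_eq_one_right g2, ← mul_assoc, ← mul_assoc, g2, one_mul, mul_assoc, g2, mul_one]
    rw [e.v, e.v, tw0, tw0] at h1
    have h2 := congrArg Prod.fst (V_inj hQ h1)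
    have : ∀ x : F4, x * (x * 1) = 1 → x = 1 := by decide
    exact this _ h2
  have cx : ∀ z, t * g * z * (t * g)⁻¹ = t * (g * z * g⁻¹) * t⁻¹ := fun z => by group
  have xN : ∀ a b z, t * g * Nf D f a b z * (t * g)⁻¹ = Nf D f (sc m (tw false 1 b))
      (sc l (tw false 1 a)) (rm c0 (tw false 1 a) (tw false 1 b) + tw false 1 z) := fun a b z => by
    rw [Nf, ← conj_mul, ← conj_mul, cx, cx, cx, e.e, e.b, e.v, tw0, tw0, tw0, lm, one_sc,
      conj_of_eq (hQ.tB _), conj_of_eq (hQ.tV _)]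
    change _ * (t * Ee D f _ * _) * _ = _
    rw [conj_of_eq (hQ.tE _), ← Nf_E hQ, ← Nf_B hQ, ← Nf_V hQ, Nf_mul hQ, Nf_mul hQ]
    congr 1 <;> refine Prod.ext ?_ ?_ <;> simp [rm, sc, tw, pw]
    · ring
    · ring
    · linear_combination ((a.1 + a.2) * (b.1 + b.2) + c0 * a.2 * b.2) * lm
    · linear_combination ((a.1 + a.2) * b.2 + a.2 * (b.1 + b.2) + a.2 * b.2) * lm
  have x2 : (t * g)⁻¹ = t * g := by rw [mul_inv_rev, ti, inv_eq_of_mul_eq_one_right g2, gt]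
  have xr : D.rho * (t * g) = t * g * D.rho := cmul (t_A hF hP rho_A) (by
    have := St_rho h (rel_swap h) e.st
    rw [swap_rho h, mul_inv_eq_iff_eq_mul] at this
    exact this.symm)
  generalize t * g = x at *
  let Y : (F4 × F4) × F4 → G := fun p => Nf D f p.1 (sc l (tw false 1 p.1))
    (p.2, l * (p.1.1 ^ 2 + p.1.1 * p.1.2 + c0 * p.1.2 ^ 2))
  let X := Us D f ⊓ centralizer {x}
  have YX : ∀ p, Y p ∈ X := fun p => ⟨Nf_Us _ _ _, mem_centralizer_singleton_iff.2 (by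
    rw [eq_comm, ← mul_inv_eq_iff_eq_mul, xN]
    simp only [Y]
    congr 1 <;> refine Prod.ext ?_ ?_ <;> simp [rm, sc, tw, pw]
    · linear_combination (p.1.1 + 2 * p.1.2) * lm + f4_add p.1.2
    · linear_combination p.1.2 * lm
    · linear_combination f4_add (l * (p.1.1 ^ 2 + p.1.1 * p.1.2 + c0 * p.1.2 ^ 2)) +
        f4_add (l * p.1.2 * (p.1.1 + p.1.2))
    · linear_combination f4_add (l * p.1.2 * (p.1.1 + p.1.2)) + f4_add (l * p.1.2 * p.1.2))⟩
  have cX : 64 ≤ Nat.card X := by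
    simpa [card_F4] using Nat.card_le_card_of_injective (fun p => (⟨Y p, YX p⟩ : X)) fun p q e => by
      obtain ⟨h1, -, h2⟩ := Nf_inj hQ (congrArg Subtype.val e)
      exact Prod.ext h1 (congrArg Prod.fst h2)
  have rN : ∀ a b z, D.rho * Nf D f a b z * D.rho⁻¹ =
      Nf D f (sc om a) (sc om b) (sc (om ^ 2) z) := fun a b z => by
    rw [Nf, ← conj_mul, ← conj_mul, conj_of_eq (hQ.rE _), conj_of_eq (hQ.rB _), conj_of_eq (hQ.rV _),
      Nf]
  have rx := mem_centralizer_singleton_iff.2 xr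
  have rX : ∀ w ∈ X, ⁅D.rho, w⁆ ∈ X := fun w hw => mul_mem ⟨by
    obtain ⟨a, b, z, rfl⟩ : ∃ a b z, w = Nf D f a b z := hQ.unf w hw.1
    exact rN a b z ▸ Nf_Us _ _ _, (centralizer {x}).mul_mem (mul_mem rx hw.2) (inv_mem rx)⟩
      (inv_mem hw)
  have XA : ∀ w ∈ X, y⁻¹ * w * y ∈ D.A := fun w hw => by
    obtain ⟨w', e'⟩ := Finite.surjective_of_injective (f := fun w : X => (⟨_, rX w w.2⟩ : X))
      (fun p q e => by
        obtain ⟨a, b, z, e1⟩ : ∃ a b z, (q : G)⁻¹ * p = Nf D f a b z :=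
          hQ.unf _ (mul_mem (inv_mem q.2.1) p.2.1)
        have h1 : D.rho * ((q : G)⁻¹ * p) * D.rho⁻¹ = (q : G)⁻¹ * p := by
          calc _ = (q : G)⁻¹ * (⁅D.rho, (q : G)⁆⁻¹ * ⁅D.rho, (p : G)⁆) * p := by
                simp only [commutatorElement_def]; group
            _ = _ := by rw [show ⁅D.rho, (p : G)⁆ = ⁅D.rho, (q : G)⁆ from congrArg Subtype.val e,
              inv_mul_cancel, mul_one]
        rw [e1, rN] at h1
        have k : ∀ a : F4 × F4, (sc om a = a → a = 0) ∧ (sc (om ^ 2) a = a → a = 0) := by decide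
        obtain ⟨h2, h3, h4⟩ := Nf_inj hQ h1
        rw [(k a).1 h2, (k b).1 h3, (k z).2 h4, Nf_V hQ, V0 hQ, inv_mul_eq_one] at e1
        exact Subtype.ext e1.symm) ⟨w, hw⟩
    exact spl' hF hP hA hQ hy xr (mem_centralizer_singleton_iff.1 w'.2.2)
      (congrArg Subtype.val e').symm (Us_four hQ hw.1)
  obtain ⟨a, ha, le⟩ := hF.par.syl.exists_conj_le (Q := MulAut.conj y⁻¹ • X)
    (H8.isPGroup_conj_smul (H86.U3.isPGroup_of_pow (R := X) fun w hw => ⟨2, Us_four hQ hw.1⟩) _)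
    fun w hw => by simpa [mul_assoc] using XA _ (H8.mem_conj_smul.1 hw)
  have eq := eq_of_le_of_card_ge le (by rwa [H8.card_conj_smul, H8.card_conj_smul, hF.par.cardU])
  rw [H8.conj_smul_conj_smul] at eq
  have kt : (a * y⁻¹)⁻¹ * t * (a * y⁻¹) = x := by
    rw [← hy, mul_inv_rev, inv_inv, mul_assoc y, ← cinv (t_A hF hP ha).symm]; group
  have kU : ∀ u ∈ D.U, (a * y⁻¹)⁻¹ * u * (a * y⁻¹) ∈ X := fun u hu => H8.mem_conj_smul.1 (eq ▸ hu)
  have kX : ∀ w ∈ X, a * y⁻¹ * w * (a * y⁻¹)⁻¹ ∈ D.U := fun w hw => eq ▸ H8.conj_mem_conj_smul.2 hw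
  generalize a * y⁻¹ = k at kt kU kX
  have tk : t = k * x * k⁻¹ := by rw [← kt]; group
  have xV : ∀ z, x * Vv D f z * x⁻¹ = D.xv z.2 * Vv D f z := fun z => by
    rw [← V_v hF hP hA, ← hQ.VV, ← Nf_V hQ, xN, ← Nf_V hQ]
    congr 1 <;> refine Prod.ext ?_ ?_ <;> simp [rm, tw, pw, add_comm]
  have wx : ∀ w, w * x * w⁻¹ = x * (x * w * x⁻¹ * w⁻¹) := fun w => by
    rw [mul_assoc x w, mul_assoc x, ← mul_assoc x x, mul_eq_one_iff_inv_eq.2 x2, one_mul, x2]
  have kV : k⁻¹ ∈ normalizer (D.V : Set G) := mem_normalizer_fintype (conj_closure (by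
    rintro _ ⟨s, rfl⟩
    obtain ⟨z, e1⟩ := Us_comm hQ (kU _ (xb_U s)).1 (kU _ (xe_U 1)).1
    have e2 : k⁻¹ * D.xv s * k = Vv D f z := by
      have e3 : D.xv s = ⁅D.xb s, D.xe 1⁆ := by
        rw [commutatorElement_def, h.be, h.ev, mul_inv_cancel_right, mul_inv_cancel_right, mul_one]
      rw [← e1, e3]
      simp only [commutatorElement_def]
      group
    have e4 := xV z
    rw [← e2, ← mem_centralizer_singleton_iff.1 (kU _ (xv_U s)).2, mul_inv_cancel_right,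
      right_eq_mul] at e4
    rw [inv_inv, e2, show z = (z.1, 0) from Prod.ext rfl (v_eq_one h e4), V_v hF hP hA]
    exact xv_V _))
  have kVs : ∀ z, ∃ z', Vv D f z' = k * Vv D f z * k⁻¹ := fun z => by
    have g2 : k * Vv D f z * k⁻¹ * (k * Vv D f z * k⁻¹) = 1 := by rw [conj_mul, V_sq hQ]; simp
    obtain ⟨s, hs⟩ := (mem_V h).1 ((mem_normalizer_iff.1 (inv_mem_iff.1 kV) _).1 (xv_V z.2))
    obtain ⟨z', e1 | e1⟩ := hQ.charV (k * Vv D f z * k⁻¹) ⟨1, by rw [pow_one, sq, g2]⟩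
      (fun u hu => by simpa [mul_assoc] using (conj_comm (g := k) (Us_V hQ (kU u hu).1 z)).symm)
      ⟨s, by
        rw [← hs, tk, conj_inv, conj_mul, conj_mul, conj_mul, wx, xV, mul_inv_cancel_right]⟩
    · exact ⟨z', e1.symm⟩
    · rw [e1] at g2
      refine absurd ?_ (noV hF hP hA hQ z)
      rw [show z' = (z'.1, 0) from Prod.ext rfl (tV_sq hF hP hA hQ g2), V_v hF hP hA,
        ← conj_of_eq (hA.ft z'.1)] at e1
      exact isConj_iff.2 ⟨k⁻¹ * f z'.1, by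
        calc _ = k⁻¹ * (f z'.1 * t * (f z'.1)⁻¹) * k := by group
          _ = _ := by rw [← e1]; group⟩
  have kVs' : ∀ z, ∃ z', Vv D f z' = k⁻¹ * Vv D f z * k := fun z =>
    (mem_set_normalizer_iff''.1 (mem_normalizer_fintype (S := Set.range (Vv D f)) (x := k) (by
      rintro _ ⟨z, rfl⟩; exact kVs z)) _).1 ⟨z, rfl⟩
  refine ⟨k⁻¹, inv_mem (mem_normalizer_fintype fun w hw => hQ.charU _
    ⟨2, by simpa using conj_two (Us_four hQ hw) k⁻¹⟩ (fun z => ?_) (fun u hu => ?_) ?_),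
    by rw [inv_inv, kt]⟩
  · obtain ⟨z', e1⟩ := kVs' z
    have := conj_comm (g := k) (Us_V hQ hw z')
    simpa [e1, mul_assoc] using this
  · obtain ⟨z, e1⟩ := Us_comm hQ hw (kU u hu).1
    obtain ⟨z', e2⟩ := kVs z
    refine ⟨z', ?_⟩
    rw [e2, ← e1]
    simp only [commutatorElement_def]
    group
  · obtain ⟨a, b, z, rfl⟩ : ∃ a b z, w = Nf D f a b z := hQ.unf w hw
    obtain ⟨z', e1⟩ : ∃ z', x * Nf D f a b z * x⁻¹ =
        Y (sc m (tw false 1 b) + a, 0) * Nf D f a b z * Vv D f z' := by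
      have nfe : ∀ {A B Z A' B' Z' : F4 × F4}, A = A' → B = B' →
          ∃ z', Nf D f A B Z = Nf D f A' B' Z' * Vv D f z' := fun {A B Z _ _ Z'} e1 e2 =>
        ⟨Z' + Z, by rw [← e1, ← e2, Nf, Nf, mul_assoc _ (Vv D f Z'), ← hQ.VV, ← add_assoc, p_add,
          zero_add]⟩
      rw [xN, Nf_mul hQ]
      refine nfe (by rw [add_assoc, p_add, add_zero]) (Prod.ext ?_ ?_) <;> simp [sc, tw, pw]
      · linear_combination -(b.1 + 2 * b.2) * lm - f4_add b.1 - f4_add b.2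
      · linear_combination -b.2 * lm - f4_add b.2
    obtain ⟨z'', e2⟩ := kVs z'
    refine ⟨_, kX _ (YX (sc m (tw false 1 b) + a, 0)), z'', ?_⟩
    rw [e2, tk, conj_inv, conj_mul, conj_mul, conj_mul, conj_mul, wx, e1, mul_assoc (Y _),
      Us_V hQ hw, ← mul_assoc (Y _), mul_inv_cancel_right, mul_assoc x]

omit hF hP hA hQ in
theorem rs : RSStmt.{u} := fun _ _ _ _ _ _ _ _ _ hF hP hA hQ => exists_rs hF hP hA hQ

omit hF hP hA hQ in
theorem fus : FusStmt.{u} := fun _ _ _ _ _ _ _ _ _ hF hP hA hQ _ => fus0 hF hP hA hQ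

end Cfsg.Agent.H84.ALR
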