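import Cfsg.Agent.H84.AlB

/-! Project AL: the coordinates on `W = 4^(1+4)`. -/

set_option autoImplicit false
set_option linter.unusedSectionVars false

namespace Cfsg.Agent.H84.ALW

open Cfsg Subgroup Cfsg.Agent.H28 Cfsg.Agent.H30 Cfsg.Agent.H42.AL QuadraticMap
open Cfsg.Agent.H42.AS (om)
open Cfsg.Agent.H72.ASB (f4_cases f4_add om_fix one_of_add sq_of_add inv_of_add mem_closure_range
  conj_of_eq)
open Cfsg.Agent.H84.AW (sw cmul cinv conj_comm conj_comm')

/-- The coordinates. -/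
def Pi4 (l : F4) (x : Fin 4 → F4) : N4 × N4 :=
  sm (x 0) (vP', vP) + sm (x 1) (vP + vP', vP) + sm (l ^ 2 * x 2) (vF, 0) + sm (l * x 3) (vE, 0)

def B4 (x y : Fin 4 → F4) : F4 := x 1 * y 0 + x 3 * y 2

theorem sm_add (s t : F4) (x : N4 × N4) : sm (s + t) x = sm s x + sm t x := by
  simp only [sm, QuadraticAlgebra.re_add, QuadraticAlgebra.im_add, add_smul, Prod.mk_add_mk]
  congr 1 <;> abel

theorem sm_zero (x : N4 × N4) : sm 0 x = 0 := by simp [sm]

theorem Pi4_add (l : F4) (x y : Fin 4 → F4) : Pi4 l (x + y) = Pi4 l x + Pi4 l y := by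
  simp only [Pi4, Pi.add_apply, mul_add, sm_add]; abel

theorem bq_add_left (x y z : N4 × N4) : bq (x + y) z = bq x z + bq y z := by
  ext <;> simp only [bq, Prod.fst_add, Prod.snd_add, QuadraticAlgebra.re_add,
    QuadraticAlgebra.im_add, polar_add_left] <;> ring

theorem bq_comm (x y : N4 × N4) : bq x y = bq y x := by
  ext <;> simp only [bq, polar_comm _ x.1, polar_comm _ x.2]
  ring

theorem bq_add_right (x y z : N4 × N4) : bq x (y + z) = bq x y + bq x z := by
  rw [bq_comm, bq_add_left, bq_comm y, bq_comm z]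

theorem bq_sm_left (s : F4) (x y : N4 × N4) : bq (sm s x) y = s * bq x y := by
  ext <;> simp only [bq, sm, polar_add_left, polar_smul_left, QuadraticAlgebra.re_mul,
    QuadraticAlgebra.im_mul, smul_eq_mul] <;> ring

theorem bq_sm_right (s : F4) (x y : N4 × N4) : bq x (sm s y) = s * bq x y := by
  rw [bq_comm, bq_sm_left, bq_comm]

theorem q4_add (a b : N4) : q4 (a + b) = q4 a + q4 b + polar q4 a b := by
  simp [polar]

theorem qq_add (x y : N4 × N4) : qq (x + y) = qq x + qq y + bq x y := by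
  ext <;> simp only [qq, bq, Prod.fst_add, Prod.snd_add, QuadraticAlgebra.re_add,
    QuadraticAlgebra.im_add, q4_add, polar_add_left, polar_add_right, polar_comm _ y.1] <;> ring

theorem qq_sm (s : F4) (x : N4 × N4) : qq (sm s x) = s * s * qq x := by
  ext <;> simp only [qq, sm, q4_add, polar_add_left, polar_add_right, polar_smul_left,
    polar_smul_right, QuadraticMap.map_smul, QuadraticAlgebra.re_mul, polar_self,
    QuadraticAlgebra.im_mul, smul_eq_mul, polar_comm _ x.2 x.1] <;>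
  generalize q4 x.1 = a <;> generalize q4 x.2 = b <;> generalize polar q4 x.1 x.2 = c <;>
  generalize s.re = d <;> generalize s.im = e <;> revert a b c d e <;> decide

theorem basis : let u : Fin 4 → N4 × N4 := ![(vP', vP), (vP + vP', vP), (vF, 0), (vE, 0)]
    (∀ i, qq (u i) = 0) ∧ ∀ i j, bq (u i) (u j) =
      if (i.val + j.val = 1 ∨ i.val + j.val = 5) then 1 else 0 := by
  simp only [qq, bq, polar_qMinus, qMinus_apply]
  decide

theorem cube {l : F4} (hl : l ≠ 0) : l ^ 3 = 1 := by revert l; decide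

theorem qq_Pi4 {l : F4} (hl : l ≠ 0) (x : Fin 4 → F4) : qq (Pi4 l x) = B4 x x := by
  obtain ⟨h1, h2⟩ := basis
  have a0 := h1 0; have a1 := h1 1; have a2 := h1 2; have a3 := h1 3
  have b01 := h2 0 1; have b02 := h2 0 2; have b03 := h2 0 3
  have b12 := h2 1 2; have b13 := h2 1 3; have b23 := h2 2 3
  simp at a0 a1 a2 a3 b01 b02 b03 b12 b13 b23
  simp only [Pi4, B4, qq_add, bq_add_left, qq_sm, bq_sm_left, bq_sm_right, *]
  linear_combination (x 2 * x 3) * cube hl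

theorem bq_Pi4 {l : F4} (hl : l ≠ 0) (x y : Fin 4 → F4) :
    bq (Pi4 l x) (Pi4 l y) = B4 x y + B4 y x := by
  have := qq_add (Pi4 l x) (Pi4 l y)
  rw [← Pi4_add, qq_Pi4 hl, qq_Pi4 hl, qq_Pi4 hl] at this
  simp only [B4, Pi.add_apply] at this ⊢
  linear_combination -this

theorem Pi4_zero (l : F4) : Pi4 l 0 = 0 := by simp [Pi4, sm_zero]

theorem B4_nd {x : Fin 4 → F4} (key : ∀ z, B4 x z + B4 z x = 0) : x = 0 := by
  ext1 i
  fin_cases i
  · simpa [B4] using key (Pi.single 1 1)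
  · simpa [B4] using key (Pi.single 0 1)
  · simpa [B4] using key (Pi.single 3 1)
  · simpa [B4] using key (Pi.single 2 1)

theorem Pi4_ker {l : F4} (hl : l ≠ 0) {x : Fin 4 → F4} (h : Pi4 l x = 0) : x = 0 :=
  B4_nd fun z => by rw [← bq_Pi4 hl, h]; ext <;> simp [bq]

theorem x_add (x : Fin 4 → F4) : x + x = 0 := funext fun i => f4_add (x i)

theorem Pi4_inj {l : F4} (hl : l ≠ 0) : Function.Injective (Pi4 l) := fun x y e => by
  have : x + y = 0 := Pi4_ker hl (by rw [Pi4_add, e, ← Pi4_add, x_add, Pi4_zero])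
  rw [← add_zero x, ← x_add y, ← add_assoc, this, zero_add]

theorem Pi4_surj {l : F4} (hl : l ≠ 0) : Function.Surjective (Pi4 l) :=
  ((Fintype.bijective_iff_injective_and_card _).2 ⟨Pi4_inj hl, by simp [card_F4]⟩).2

universe u

variable {G : Type u} [Group G] [Finite G] {D : RD G} {R O : Subgroup G} {r f : F4 → G} {c : F4}

/-- The normal form modulo `V`. -/
def ww (D : RD G) (r f : F4 → G) (x : Fin 4 → F4) : G :=
  r (x 0) * f (x 1) * D.xb (x 2) * D.xe (x 3)

section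

variable (hF : D.Fa) (hW : WA D R O r f c)
include hF hW

theorem ww_v (x : Fin 4 → F4) (u : F4) : D.xv u * ww D r f x = ww D r f x * D.xv u :=
  cmul (cmul (cmul (rv hF hW _ u).symm (fv hF hW _ u).symm) (hF.rel.bv _ u).symm)
    (hF.rel.ev _ u).symm

theorem ww_mul (x y : Fin 4 → F4) : ww D r f x * ww D r f y =
    r (x 0 + y 0) * (f (x 1) * f (y 1)) * D.xb (x 2 + y 2) * D.xe (x 3 + y 3) * D.xv (B4 x y) := by
  have h := hF.rel
  have m : ∀ {x : F4 → G}, (∀ t u, x (t + u) = x t * x u) → ∀ t u z,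
      x t * (x u * z) = x (t + u) * z := fun hx t u z => by rw [hx, mul_assoc]
  have fr : ∀ t s z, f t * (r s * z) = r s * (f t * (D.xv (t * s) * z)) := fun t s z => by
    rw [← mul_assoc, hW.fr, mul_assoc, mul_assoc, sw (fv hF hW t _), mul_comm s t]
  have eb : ∀ t s z, D.xe t * (D.xb s * z) = D.xb s * (D.xe t * (D.xv (t * s) * z)) := fun t s z => by
    rw [← mul_assoc (D.xb s), h.be, mul_assoc, mul_assoc, sw (h.bv s _), mul_comm s t, m h.vv,
      f4_add, v0 h, one_mul]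
  have fq : ∀ {q : G}, q ∈ D.U → ∀ t z, q * (f t * z) = f t * (q * z) := fun hq t =>
    sw (hW.fU t _ hq).symm
  have rq : ∀ {q : G}, q ∈ D.U → ∀ t z, q * (r t * z) = r t * (q * z) := fun hq t =>
    sw (rA hF hW t (U_A h hq))
  rw [← mul_one (ww D r f y), ← mul_one (D.xv _)]
  simp only [ww, mul_assoc, m hW.r_add, m h.bb, m h.ee, m h.vv, fr, eb,
    fun u => rq (xb_U u), fun u => rq (xe_U u), fun u => fq (xb_U u),
    fun u => fq (xe_U u), fun u => fq (xv_U u), fun t u => sw (h.bv t u).symm,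
    fun t u => sw (h.ev t u).symm, B4]

theorem ww_comm (x y : Fin 4 → F4) :
    ww D r f x * ww D r f y = D.xv (B4 x y + B4 y x) * (ww D r f y * ww D r f x) := by
  rw [cmul (ww_v hF hW y _) (ww_v hF hW x _), ww_mul hF hW, ww_mul hF hW, mul_assoc _ (D.xv _),
    ← hF.rel.vv, add_comm (B4 x y), ← add_assoc, f4_add, zero_add, hW.ff, add_comm (x 0),
    add_comm (x 2), add_comm (x 3)]

theorem ww_sq (x : Fin 4 → F4) : ww D r f x * ww D r f x = D.xv (c * x 1 + B4 x x) := by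
  have h := hF.rel
  simp only [ww_mul hF hW, f4_add, one_of_add hW.r_add, one_of_add h.bb, one_of_add h.ee, hW.fsq,
    one_mul, mul_one, h.vv]

theorem ww_eq_v {x : Fin 4 → F4} {u : F4} (e : ww D r f x = D.xv u) : x = 0 ∧ u = 0 := by
  have h := hF.rel
  have hx : x = 0 := B4_nd fun y => by
    have := ww_comm hF hW x y
    rw [e, ww_v hF hW, right_eq_mul] at this
    exact v_eq_one h this
  refine ⟨hx, v_eq_one h ?_⟩
  simp only [← e, hx, ww, Pi.zero_apply, hW.f0, one_of_add hW.r_add, one_of_add h.bb,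
    one_of_add h.ee, mul_one]

theorem ww_single : (∀ s, r s = ww D r f (Pi.single 0 s)) ∧ (∀ s, f s = ww D r f (Pi.single 1 s)) ∧
    (∀ s, D.xb s = ww D r f (Pi.single 2 s)) ∧ (∀ s, D.xe s = ww D r f (Pi.single 3 s)) ∧
    ww D r f 0 = 1 := by
  have h := hF.rel
  simp [ww, hW.f0, one_of_add hW.r_add, one_of_add h.bb, one_of_add h.ee]

theorem exists_w4 (fa : ∀ s t, f (s + t) = f s * f t) {l : F4} (hl : l ≠ 0) :
    ∃ W π, W4 D r f l W π := by
  classical
  have h := hF.rel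
  obtain ⟨s0, s1, s2, s3, s6⟩ := ww_single hF hW
  have mul : ∀ x y u u', ww D r f x * D.xv u * (ww D r f y * D.xv u') =
      ww D r f (x + y) * D.xv (B4 x y + (u + u')) := fun x y u u' => by
    rw [mul_assoc, sw (ww_v hF hW y u), ← mul_assoc, ww_mul hF hW, ← fa, ← h.vv, mul_assoc _ (D.xv _),
      ← h.vv]
    rfl
  have uniq : ∀ x y u u', ww D r f x * D.xv u = ww D r f y * D.xv u' → x = y := fun x y u u' e => by
    have h1 := mul x y u u'
    rw [e, mul, x_add, s6, one_mul, eq_comm, ← eq_mul_inv_iff_mul_eq, v_inv h, ← h.vv] at h1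
    rw [← add_zero x, ← x_add y, ← add_assoc, (ww_eq_v hF hW h1).1, zero_add]
  let X : Subgroup G :=
    { carrier := {a | ∃ x u, a = ww D r f x * D.xv u}
      one_mem' := ⟨0, 0, by rw [s6, v0 h, one_mul]⟩
      mul_mem' := by
        rintro _ _ ⟨x, u, rfl⟩ ⟨y, u', rfl⟩
        exact ⟨_, _, mul x y u u'⟩
      inv_mem' := by
        rintro _ ⟨x, u, rfl⟩
        refine ⟨x, B4 x x + u, inv_eq_of_mul_eq_one_right ?_⟩
        rw [mul, x_add, s6, one_mul, ← add_assoc, f4_add, v0 h] }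
  have v1 : ∀ {a : G} {x}, a = ww D r f x → a = ww D r f x * D.xv 0 := fun e => by
    rw [v0 h, mul_one, ← e]
  have vx : ∀ u, D.xv u = ww D r f 0 * D.xv u := fun u => by rw [s6, one_mul]
  have hX : ∀ a ∈ D.U ⊔ closure (Set.range r ∪ Set.range f), ∃ x u, a = ww D r f x * D.xv u :=
    (sup_le (U_ind (H := X) (fun t => ⟨_, _, v1 (s3 t)⟩) (fun t => ⟨_, _, v1 (s2 t)⟩)
      fun t => ⟨_, _, vx t⟩)
      ((closure_le X).2 (by
        rintro _ (⟨t, rfl⟩ | ⟨t, rfl⟩)
        exacts [⟨_, _, v1 (s0 t)⟩, ⟨_, _, v1 (s1 t)⟩])) : _ ≤ X)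
  let π : G → N4 × N4 := fun a =>
    if e : ∃ x u, a = ww D r f x * D.xv u then Pi4 l e.choose else 0
  have hπ : ∀ x u, π (ww D r f x * D.xv u) = Pi4 l x := fun x u => by
    have e : ∃ x' u', ww D r f x * D.xv u = ww D r f x' * D.xv u' := ⟨x, u, rfl⟩
    obtain ⟨u', e'⟩ := e.choose_spec
    simp only [π, dif_pos e, ← uniq _ _ _ _ e']
  refine ⟨_, π, rfl, fun a ha => ?_, fun a ha b hb => ?_, fun a ha => ?_, fun y => ?_,
    fun a ha => ?_, fun a ha b hb => ?_, fun s => ?_, fun s => ?_, fun s => ?_, fun s => ?_⟩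
  · obtain ⟨x, u, rfl⟩ := hX a ha
    exact ⟨x 0, x 1, _, mul_mem (mul_mem (xb_U (x 2)) (xe_U (x 3))) (xv_U u),
      by simp only [ww, mul_assoc]⟩
  · obtain ⟨x, u, rfl⟩ := hX a ha
    obtain ⟨y, u', rfl⟩ := hX b hb
    rw [mul, hπ, hπ, hπ, Pi4_add]
  · obtain ⟨x, u, rfl⟩ := hX a ha
    rw [hπ]
    refine ⟨fun e => ⟨u, by rw [Pi4_ker hl e, ← vx]⟩, fun ⟨s, e⟩ => ?_⟩
    rw [← uniq _ _ _ _ ((vx s).symm.trans e), Pi4_zero]
  · obtain ⟨x, rfl⟩ := Pi4_surj hl y
    refine ⟨_, mul_mem ?_ (mem_sup_left (xv_U 0)), hπ x 0⟩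
    exact mul_mem (mul_mem (mul_mem
      (mem_sup_right (subset_closure (.inl ⟨_, rfl⟩))) (mem_sup_right (subset_closure (.inr ⟨_, rfl⟩))))
      (mem_sup_left (xb_U _))) (mem_sup_left (xe_U _))
  · obtain ⟨x, u, rfl⟩ := hX a ha
    rw [mul, hπ, x_add, s6, one_mul, f4_add, add_zero, qq_Pi4 hl]
  · obtain ⟨x, u, rfl⟩ := hX a ha
    obtain ⟨y, u', rfl⟩ := hX b hb
    rw [mul, mul, hπ, hπ, bq_Pi4 hl, sw (ww_v hF hW _ _), ← h.vv, add_comm y x]
    congr 2
    linear_combination -f4_add (B4 y x)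
  · rw [v1 (s0 s), hπ]; simp [Pi4, sm_zero]
  · rw [v1 (s1 s), hπ]; simp [Pi4, sm_zero]
  · rw [v1 (s3 s), hπ]; simp [Pi4, sm_zero]
  · rw [v1 (s2 s), hπ]; simp [Pi4, sm_zero]

end

theorem w4 : W4Stmt.{u} := fun _ _ _ _ _ _ _ _ _ _ hF hW fa hl => exists_w4 hF hW fa hl

end Cfsg.Agent.H84.ALW
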