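import Cfsg.Agent.H84.AlW4

/-! Project AL: the action of the second translation groups. -/

set_option autoImplicit false
set_option linter.unusedSectionVars false

namespace Cfsg.Agent.H84.ALW

open Cfsg Subgroup Cfsg.Agent.H28 Cfsg.Agent.H42.AL
open Cfsg.Agent.H42.AS (om)
open Cfsg.Agent.H72.ASB (f4_cases f4_add om_fix one_of_add sq_of_add inv_of_add mem_closure_range
  conj_of_eq)
open Cfsg.Agent.H84.AW (sw cmul cinv conj_comm conj_comm')

universe u

variable {G : Type u} [Group G] [Finite G] {D : RD G} {R O : Subgroup G} {r f : F4 → G} {c : F4}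

variable (hF : D.Fa)
include hF

/-- An element of `U` commuting with `e`. -/
theorem cde {p : G} (hp : p ∈ D.U) (he : p * D.xe 1 = D.xe 1 * p) : ∃ η x, p = D.xe η * D.xv x := by
  have h := hF.rel
  obtain ⟨t1, t2, t3, rfl⟩ := hF.par.unf p hp
  have e1 : D.xe 1 = D.xe 1 * D.xb 0 * D.xv 0 := by simp [b0 h, v0 h]
  rw [e1, nf_mul h, nf_mul h] at he
  have h2 : t2 = 0 := by simpa using (nf_inj h he).2.2
  exact ⟨t1, t3, by rw [h2, b0 h, mul_one]⟩

variable (hW : WA D R O r f c)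
include hW

theorem comm_iff {x y : Fin 4 → F4} {u u' : F4}
    (e : ww D r f x * D.xv u * (ww D r f y * D.xv u') = ww D r f y * D.xv u' * (ww D r f x * D.xv u)) :
    B4 x y + B4 y x = 0 := by
  rw [mul_assoc, mul_assoc, sw (ww_v hF hW y u), sw (ww_v hF hW x u'), ← hF.rel.vv, ← hF.rel.vv,
    add_comm u' u, ← mul_assoc, ← mul_assoc, mul_left_inj, ww_comm hF hW, mul_eq_right] at e
  exact v_eq_one hF.rel e

theorem sq_eq (x : Fin 4 → F4) (u : F4) :
    ww D r f x * D.xv u * (ww D r f x * D.xv u) = D.xv (c * x 1 + B4 x x) := by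
  rw [mul_assoc, sw (ww_v hF hW x u), v_sq hF.rel, mul_one, ww_sq hF hW]

/-- An element acting on `R V` as `f τ`. -/
theorem dec {g : G} {τ y : F4} (hv : ∀ u, g * D.xv u = D.xv u * g)
    (hr : ∀ s, g * r s = r s * D.xv (s * τ) * g) (he : g * D.xe 1 = D.xe 1 * D.xv y * g)
    (h4 : g ^ 4 = 1) : ∃ γ, ∃ p ∈ D.U, g = r γ * f τ * p := by
  have h := hF.rel
  have h1 : ∀ s, (f τ)⁻¹ * g * r s = r s * ((f τ)⁻¹ * g) := fun s => by
    rw [mul_assoc, hr, inv_mul_eq_iff_eq_mul, ← mul_assoc, hW.fr]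
    simp only [mul_assoc, mul_inv_cancel_left]
  obtain ⟨k, hk, p, hp, e⟩ := cE hF (hW.cr 1 one_ne_zero _ (h1 1))
    (fun u => (cmul (cinv (fv hF hW τ u).symm) (hv u).symm).symm) (x := y) (conj_of_eq (by
      rw [mul_assoc, he, ← mul_assoc, ← cinv (hW.fU τ _ (mul_mem (xe_U 1) (xv_U y))).symm,
        mul_assoc]))
  obtain ⟨x, hx, o, ho, rfl⟩ := hW.cKR k hk fun x hx => by
    obtain ⟨s, rfl⟩ := (hW.r_mem x).1 hx
    have h2 := h1 s
    rwa [e, mul_assoc, rA hF hW s (U_A h hp), ← mul_assoc, ← mul_assoc, mul_left_inj] at h2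
  obtain ⟨γ, rfl⟩ := (hW.r_mem x).1 hx
  have op : o * p = p * o := (K_comm (hW.OK ho) (U_A h hp)).symm
  have e1 : g = f τ * r γ * (p * o) := by
    rw [← op, ← mul_assoc, mul_assoc (f τ), mul_assoc (f τ), ← e, mul_inv_cancel_left]
  have c1 : Commute (f τ * r γ) (p * o) :=
    cmul (cmul (hW.fU τ p hp).symm (rA hF hW γ (U_A h hp))).symm
      (cmul (fO hF hW τ ho).symm (hW.OR o ho _ hx)).symm
  have q1 : (f τ * r γ) ^ 4 = 1 := by
    have : f τ * r γ * (f τ * r γ) = D.xv (c * τ + γ * τ) := by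
      rw [mul_assoc, ← mul_assoc (r γ), mul_assoc (r γ), hW.fr, ← mul_assoc (r γ), ← mul_assoc (r γ),
        sq_of_add hW.r_add, one_mul, ← fv hF hW, ← mul_assoc, hW.fsq, h.vv]
    rw [show 4 = 2 * 2 from rfl, pow_mul, sq, sq, this, v_sq h]
  rw [e1, c1.mul_pow, q1, one_mul, (Commute.mul_pow op.symm), mul_eq_one_iff_eq_inv] at h4
  have o4 : o ^ 4 = 1 := inv_eq_one.1 (hF.par.AK _ (h4 ▸ pow_mem (U_A h hp) 4)
    (inv_mem (pow_mem (hW.OK ho) 4)))
  have o1 : o = 1 := H86.U3.eq_one_of_odd_of_two (O_odd hF hW ho) (n := 2) o4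
  refine ⟨γ, D.xv (γ * τ) * p, mul_mem (xv_U _) hp, ?_⟩
  rw [e1, o1, mul_one, hW.fr, mul_assoc (r γ), ← fv hF hW]
  simp only [mul_assoc]

theorem s_comm (β : F4) {p q : G} (hp : p ∈ D.U) (e : D.nb * p = q * D.nb) :
    sE D f β * q = q * sE D f β := by
  have e' : D.nb * q = p * D.nb := by
    calc D.nb * q = D.nb * (q * D.nb) * D.nb := by rw [mul_assoc, mul_assoc, hF.rel.nb2, mul_one]
      _ = _ := by rw [← e, ← mul_assoc, hF.rel.nb2, one_mul]
  rw [sE, mul_assoc, e', ← mul_assoc, mul_assoc D.nb, hW.fU β p hp, ← mul_assoc, e]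
  simp only [mul_assoc]

theorem s_v (β u : F4) : sE D f β * D.xv u = D.xv u * sE D f β :=
  s_comm hF hW β (xe_U u) (hF.rel.nbe u)

theorem nb_v (u : F4) : D.nb * D.xv u = D.xe u * D.nb := by
  calc _ = D.nb * (D.xv u * D.nb) * D.nb := by rw [mul_assoc, mul_assoc, hF.rel.nb2, mul_one]
    _ = _ := by rw [← hF.rel.nbe, ← mul_assoc, hF.rel.nb2, one_mul]

theorem s_e (β u : F4) : sE D f β * D.xe u = D.xe u * sE D f β :=
  s_comm hF hW β (xv_U u) (nb_v hF hW u)

theorem s_r (β s : F4) : sE D f β * r s = r s * D.xe (s * β) * sE D f β := by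
  rw [sE, mul_assoc, rA hF hW s nb_A, ← mul_assoc, mul_assoc D.nb, hW.fr, ← mul_assoc, ← mul_assoc,
    rA hF hW s nb_A, mul_assoc (r s), nb_v hF hW]
  simp only [mul_assoc]

theorem s_r' (β s : F4) : (sE D f β)⁻¹ * r s = r s * D.xe (s * β) * (sE D f β)⁻¹ := by
  rw [inv_mul_eq_iff_eq_mul, ← mul_assoc, ← mul_assoc, s_r hF hW, mul_assoc _ (sE D f β), s_e hF hW,
    ← mul_assoc, mul_assoc (r s), sq_of_add hF.rel.ee, mul_one, mul_inv_cancel_right]

/-- The conjugate of an element which acts on `R X_e` as a translation by `V`. -/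
theorem s_act (β : F4) {y : G} {τ : F4}
    (hy : ∀ s, y * (r s * D.xe (s * β)) = r s * D.xe (s * β) * D.xv (s * τ) * y) (s : F4) :
    sE D f β * y * (sE D f β)⁻¹ * r s = r s * D.xv (s * τ) * (sE D f β * y * (sE D f β)⁻¹) := by
  rw [mul_assoc, s_r' hF hW, ← mul_assoc, mul_assoc _ y, hy, ← mul_assoc, ← mul_assoc, ← mul_assoc,
    s_r hF hW, mul_assoc _ (sE D f β) (D.xe _), s_e hF hW, ← mul_assoc, mul_assoc (r s),
    sq_of_add hF.rel.ee, mul_one, mul_assoc (r s), s_v hF hW]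
  simp only [mul_assoc]

theorem form {g p : G} {γ τ : F4} (hp : p ∈ D.U) (e : g = r γ * f τ * p)
    (he : g * D.xe 1 = D.xe 1 * g) : ∃ η x, g = r γ * f τ * (D.xe η * D.xv x) := by
  rw [e, ← mul_assoc (D.xe 1), cmul (rA hF hW γ (xe_A 1)) (hW.fU τ _ (xe_U 1)).symm,
      mul_assoc, mul_assoc _ (D.xe 1), mul_right_inj] at he
  obtain ⟨η, x, rfl⟩ := cde hF hp he
  exact ⟨η, x, e⟩

theorem g1 (β t : F4) : ∃ γ η x, sE D f β * D.xb t * (sE D f β)⁻¹ =
    ww D r f ![γ, t * β, t, η] * D.xv x := by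
  have h := hF.rel
  have he : sE D f β * D.xb t * (sE D f β)⁻¹ * D.xe 1 =
      D.xe 1 * D.xv (t * 1) * (sE D f β * D.xb t * (sE D f β)⁻¹) := by
    rw [mul_assoc, ← cinv (s_e hF hW β 1).symm, ← mul_assoc, mul_assoc _ (D.xb t), h.be,
      ← mul_assoc, cmul (s_e hF hW β 1) (s_v hF hW β _)]
    simp only [mul_assoc]
  obtain ⟨γ, p, hp, e⟩ := dec hF hW (g := sE D f β * D.xb t * (sE D f β)⁻¹) (τ := t * β)
    (fun u => conj_comm' (s_v hF hW β u) (h.bv t u))
    (s_act hF hW β fun s => by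
      rw [← mul_assoc, rA hF hW s (xb_A t), mul_assoc, h.be, mul_left_comm]
      simp only [mul_assoc]) he
    (by rw [conj_pow, show 4 = 2 * 2 from rfl, pow_mul, sq (D.xb t), sq_of_add h.bb]; simp)
  have c1 : D.xb t * (r γ * f (t * β)) = r γ * f (t * β) * D.xb t :=
    cmul (rA hF hW γ (xb_A t)) (hW.fU _ _ (xb_U t)).symm
  obtain ⟨η, x, e'⟩ := form hF hW (g := (D.xb t)⁻¹ * (sE D f β * D.xb t * (sE D f β)⁻¹))
    (γ := γ) (τ := t * β) (mul_mem (inv_mem (xb_U t)) hp)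
    (by rw [e, inv_mul_eq_iff_eq_mul, ← mul_assoc, c1]; simp only [mul_assoc, mul_inv_cancel_left])
    (by
      rw [mul_assoc, inv_mul_eq_iff_eq_mul, ← mul_assoc (D.xb t), h.be, he]
      simp only [mul_assoc, mul_inv_cancel_left])
  refine ⟨γ, η, x, ?_⟩
  rw [inv_mul_eq_iff_eq_mul] at e'
  rw [e', ← mul_assoc, c1]
  simp [ww, mul_assoc]

theorem g2 (β t : F4) : ∃ γ η x, sE D f β * f t * (sE D f β)⁻¹ =
    ww D r f ![γ, t, 0, η] * D.xv x := by
  have h := hF.rel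
  have he := conj_comm' (s_e hF hW β 1) (hW.fU t _ (xe_U 1))
  obtain ⟨γ, p, hp, e⟩ := dec hF hW (g := sE D f β * f t * (sE D f β)⁻¹) (τ := t) (y := 0)
    (fun u => conj_comm' (s_v hF hW β u) (fv hF hW t u))
    (s_act hF hW β fun s => by
      rw [← mul_assoc, hW.fr, mul_assoc, hW.fU t _ (xe_U _), mul_assoc (r s), sw (h.ev _ _).symm]
      simp only [mul_assoc]) (by rw [he, v0 h, mul_one])
    (by rw [conj_pow, show 4 = 2 * 2 from rfl, pow_mul, sq (f t), hW.fsq, sq, v_sq h]; simp)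
  obtain ⟨η, x, e'⟩ := form hF hW hp e he
  refine ⟨γ, η, x, ?_⟩
  rw [e']
  simp [ww, one_of_add h.bb, mul_assoc]

theorem g12 (β : F4) : c * β = 0 ∧ ∃ γ,
    (∀ t, ∃ x, sE D f β * f t * (sE D f β)⁻¹ = f t * D.xe (γ * t) * D.xv x) ∧
    ∀ t, ∃ x, sE D f β * D.xb t * (sE D f β)⁻¹ =
      r (γ * t) * f (β * t) * D.xe (γ * β * t) * D.xb t * D.xv x := by
  have h := hF.rel
  choose a1 a2 a3 ha using g1 hF hW β
  choose b1 b2 b3 hb using g2 hF hW β
  have k1 : ∀ t u, a1 t * u + b2 u * t + (t * β * b1 u) = 0 := fun t u => by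
    have := conj_comm (g := sE D f β) (hW.fU u _ (xb_U t))
    rw [ha, hb] at this
    have := comm_iff hF hW this
    simp [B4] at this
    linear_combination this
  have k2 : ∀ t u, t * b1 u + u * b1 t = 0 := fun t u => by
    have := conj_comm (g := sE D f β) (hW.ff t u)
    rw [hb, hb] at this
    simpa [B4] using comm_iff hF hW this
  have k3 : ∀ t, t * b1 t = 0 := fun t => by
    have := sq_eq hF hW ![b1 t, t, 0, b2 t] (b3 t)
    rw [← hb, conj_mul, hW.fsq, s_v hF hW, mul_inv_cancel_right] at this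
    simpa [B4] using v_inj h this
  have k4 : ∀ t, c * (t * β) + (t * β * a1 t + a2 t * t) = 0 := fun t => by
    have := sq_eq hF hW ![a1 t, t * β, t, a2 t] (a3 t)
    rw [← ha, conj_mul, sq_of_add h.bb, mul_one, mul_inv_cancel] at this
    simpa [B4] using v_eq_one h this.symm
  have k5 : ∀ t u, t * β * a1 u + a2 t * u + (u * β * a1 t + a2 u * t) = 0 := fun t u => by
    have := conj_comm (g := sE D f β) (show D.xb t * D.xb u = D.xb u * D.xb t by
      rw [← h.bb, ← h.bb, add_comm])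
    rw [ha, ha] at this
    simpa [B4] using comm_iff hF hW this
  have h2 : (2 : F4) = 0 := by decide
  have e1 : ∀ t, b1 t = 0 := fun t => by
    linear_combination k2 1 t - t * k3 1
  have e2 : ∀ u, b2 u = a1 1 * u := fun u => by
    linear_combination k1 1 u - β * e1 u - (a1 1 * u) * h2
  have e3 : ∀ t, a1 t = a1 1 * t := fun t => by
    linear_combination k1 t 1 - t * β * e1 1 - t * e2 1 - (a1 1 * t) * h2
  have e4 : ∀ t, a2 t = a2 1 * t := fun t => by
    linear_combination k5 t 1 - β * e3 t - (a1 1 * β * t + a2 1 * t) * h2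
  have e5 : c * β = 0 := by
    have h3 : om * om + om = 1 := by decide
    linear_combination (om * om) * k4 1 + k4 om - om * β * e3 om - om * e4 om - c * β * h3 -
      (om * om * (β * a1 1 + a2 1)) * h2
  have e6 : a2 1 = a1 1 * β := by
    linear_combination k4 1 - e5 - (a1 1 * β) * h2
  refine ⟨e5, a1 1, fun t => ⟨b3 t, ?_⟩, fun t => ⟨t * (a1 1 * β * t) + a3 t, ?_⟩⟩
  · rw [hb, e1, e2]
    simp [ww, one_of_add hW.r_add, one_of_add h.bb]
  · rw [ha, e3, e4, e6, mul_comm t β, h.vv]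
    simp only [ww, Matrix.cons_val, mul_assoc, mul_right_inj]
    rw [← mul_assoc, h.be, mul_assoc, mul_assoc, sw (h.bv _ _)]

theorem c_zero : c = 0 := by simpa using (g12 hF hW 1).1

theorem f_add (s t : F4) : f (s + t) = f s * f t := by
  have sq : ∀ t, f t * f t = 1 := fun t => by rw [hW.fsq, c_zero hF hW, zero_mul, v0 hF.rel]
  have h1 : f (om ^ 2) = f 1 * f om := by
    rw [← mul_one (f 1 * f om), ← sq (om ^ 2), ← mul_assoc, hW.f3, one_mul]
  have h2 : f om = f 1 * f (om ^ 2) := by rw [h1, ← mul_assoc, sq, one_mul]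
  have h3 : f 1 = f om * f (om ^ 2) := by rw [h1, hW.ff 1, ← mul_assoc, sq, one_mul]
  have a1 : (1 : F4) + om = om ^ 2 := by decide
  have a2 : (1 : F4) + om ^ 2 = om := by decide
  have a3 : om + om ^ 2 = 1 := by decide
  rcases f4_cases s with rfl | rfl | rfl | rfl <;> rcases f4_cases t with rfl | rfl | rfl | rfl
  any_goals rw [zero_add, hW.f0, one_mul]
  any_goals rw [add_zero, hW.f0, mul_one]
  any_goals rw [f4_add, hW.f0, sq]
  · rw [a1, h1]
  · rw [a2, ← h2]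
  · rw [add_comm, a1, h1, hW.ff]
  · rw [a3, ← h3]
  · rw [add_comm, a2, hW.ff, ← h2]
  · rw [add_comm, a3, hW.ff, ← h3]

theorem exists_wb : ∃ v, WB D r f v := by
  have h := hF.rel
  choose γ h1 h2 using fun β => (g12 hF hW β).2
  have z0 : γ 0 = 0 := by
    obtain ⟨x, e⟩ := h1 0 1
    rw [sE, hW.f0, mul_one, h.nb2, one_mul, inv_one, mul_one, mul_one, mul_assoc, left_eq_mul] at e
    exact fe_inj hF (x := x) (x' := 0) (by rw [e, one_of_add h.ee, v0 h, mul_one])
  have step : ∀ β, γ (om ^ 2 * β) = om * γ β := fun β => by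
    have cs : (D.nb * D.rho * D.nb) * sE D f β = sE D f (om ^ 2 * β) * (D.nb * D.rho * D.nb) := by
      have nn : ∀ z, D.nb * (D.nb * z) = z := fun z => by rw [← mul_assoc, h.nb2, one_mul]
      simp only [sE, mul_assoc, nn]
      rw [← mul_assoc D.rho, hW.rf, mul_assoc]
    have c3 : ∀ {x : F4 → G} {a : F4}, (∀ t, D.rho * x t = x (a * t) * D.rho) →
        ∀ t, (D.nb * D.rho * D.nb) * x t * (D.nb * D.rho * D.nb)⁻¹ = x (a * (a * t)) :=
      fun hx t => conj_of_eq (by rw [h.nbr, sq, mul_assoc, hx, ← mul_assoc, hx, mul_assoc])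
    obtain ⟨x, e⟩ := h1 β 1
    obtain ⟨x', e'⟩ := h1 (om ^ 2 * β) (om ^ 2 * (om ^ 2 * 1))
    have e2 := congrArg (fun y => (D.nb * D.rho * D.nb) * y * (D.nb * D.rho * D.nb)⁻¹) e
    have cm : ∀ g a b c : G, g * (a * b * c) * g⁻¹ = g * a * g⁻¹ * (g * b * g⁻¹) * (g * c * g⁻¹) :=
      fun _ _ _ _ => by group
    beta_reduce at e2
    rw [cm, cm, ← conj_inv] at e2
    rw [conj_of_eq cs, c3 hW.rf, c3 h.re, c3 h.rv, e', mul_assoc, mul_assoc (f _),
      mul_right_inj] at e2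
    have e3 := fe_inj hF e2
    revert e3
    generalize γ (om ^ 2 * β) = a
    generalize γ β = b
    revert a b
    decide
  have all : ∀ β, γ β = γ 1 * β ^ 2 := fun β => by
    have s1 := step 1
    have s2 := step (om ^ 2)
    rw [show om ^ 2 * 1 = om ^ 2 by decide] at s1
    rw [show om ^ 2 * om ^ 2 = om by decide, s1] at s2
    rcases f4_cases β with rfl | rfl | rfl | rfl
    · simp [z0]
    · simp
    · rw [s2]; ring
    · rw [s1, show (om ^ 2) ^ 2 = om by decide, mul_comm]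
  refine ⟨γ 1, f_add hF hW, fun β t => all β ▸ h1 β t, fun β t => ?_⟩
  rw [pow_succ β 2, ← mul_assoc (γ 1), ← all]
  exact h2 β t

omit hF hW in
theorem wb : WBStmt.{u} := fun _ _ _ _ _ _ _ _ _ hF _ hW =>
  (exists_wb hF hW).elim fun v hv => (exists_wb (fa_swap hF) (wa_swap hF.rel hW)).elim
    fun v' hv' => ⟨v, v', hv, hv'⟩

end Cfsg.Agent.H84.ALW
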