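import Cfsg.Agent.H42.ACDefs
import Cfsg.Agent.H84.AlW4

/-! Project AC: the second translation groups and the coordinates on `W`, centre of odd order. -/

set_option autoImplicit false
set_option linter.unusedSectionVars false

namespace Cfsg.Agent.H84.ACW

open Cfsg Subgroup Cfsg.Agent.H28 Cfsg.Agent.H42.AL
open Cfsg.Agent.H42.AS (om)
open Cfsg.Agent.H72.ASB (f4_cases f4_add om_fix one_of_add sq_of_add inv_of_add mem_closure_range
  conj_of_eq)
open Cfsg.Agent.H84.AW (sw cmul cinv conj_comm conj_comm')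
open Cfsg.Agent.H84.ALW (f4_eq xe_A xb_A ne_A nb_A hb_A rho_A xe_U xb_U xv_U xv_V K_comm U_ind swap_A
  swap_K swap_N swap_U St_swap pd_swap Pi4 B4 sm_zero Pi4_add qq_Pi4 bq_Pi4 Pi4_zero B4_nd Pi4_ker x_add
  Pi4_surj ww)

universe u

variable {G : Type u} [Group G] [Finite G] {D : RD G} {R O : Subgroup G} {r f : F4 → G} {c : F4}

section rel
variable (h : D.Rel')
include h

theorem v0 : D.xv 0 = 1 := one_of_add h.vv
theorem e0 : D.xe 0 = 1 := one_of_add h.ee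
theorem b0 : D.xb 0 = 1 := one_of_add h.bb
theorem v_sq (t : F4) : D.xv t * D.xv t = 1 := sq_of_add h.vv t
theorem v_inv (t : F4) : (D.xv t)⁻¹ = D.xv t := inv_of_add h.vv t

theorem v_eq_one {t : F4} (e : D.xv t = 1) : t = 0 :=
  (h.nf 0 0 t (by rw [e0 h, b0 h, e]; simp)).2.2

theorem v_inj {t u : F4} (e : D.xv t = D.xv u) : t = u :=
  f4_eq (v_eq_one h (by rw [h.vv, e, v_sq h]))

theorem mem_V {g : G} : g ∈ D.V ↔ ∃ t, g = D.xv t := mem_closure_range h.vv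

theorem xv_A (t : F4) : D.xv t ∈ D.A :=
  conj_of_eq (h.nbe t) ▸ mul_mem (mul_mem nb_A (xe_A t)) (inv_mem nb_A)

theorem U_A : D.U ≤ D.A := U_ind xe_A xb_A (xv_A h)

theorem U_v {p : G} (hp : p ∈ D.U) (t : F4) : p * D.xv t = D.xv t * p :=
  mem_centralizer_singleton_iff.1 (U_ind (H := centralizer {D.xv t})
    (fun u => mem_centralizer_singleton_iff.2 (h.ev u t))
    (fun u => mem_centralizer_singleton_iff.2 (h.bv u t))
    (fun u => mem_centralizer_singleton_iff.2 (by rw [← h.vv, ← h.vv, add_comm])) hp)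

theorem eb (t u : F4) : D.xe t * D.xb u = D.xb u * D.xv (t * u) * D.xe t := by
  rw [h.bv, mul_assoc, h.be, mul_comm u, ← mul_assoc, ← mul_assoc, ← h.ev, mul_assoc (D.xe t),
    v_sq h, mul_one]

theorem nf_mul (a b x a' b' x' : F4) : D.xe a * D.xb b * D.xv x * (D.xe a' * D.xb b' * D.xv x') =
    D.xe (a + a') * D.xb (b + b') * D.xv (b * a' + x + x') := by
  rw [h.ee, h.bb, h.vv, h.vv]
  simp only [mul_assoc]
  rw [sw (h.ev a' x).symm, sw (h.bv b' x).symm, ← mul_assoc (D.xb b), h.be, mul_assoc, mul_assoc,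
    sw (h.bv b _).symm, sw (h.bv b' _).symm]

theorem nf_inj {a b x a' b' x' : F4} (e : D.xe a * D.xb b * D.xv x = D.xe a' * D.xb b' * D.xv x') :
    a = a' ∧ b = b' ∧ x = x' := by
  have h1 := nf_mul h a b x a' b' (b' * a' + x')
  rw [e, nf_mul h, f4_add, f4_add, show b' * a' + x' + (b' * a' + x') = 0 from f4_add _, e0 h, b0 h,
    v0 h, one_mul, one_mul] at h1
  obtain ⟨h2, h3, h4⟩ := h.nf _ _ _ h1.symm
  obtain rfl := f4_eq h2
  obtain rfl := f4_eq h3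
  exact ⟨rfl, rfl, f4_eq (by linear_combination h4 - f4_add (b * a))⟩

theorem swap_act {x y : G} (hx : x ∈ D.A) (e : D.rho * x = y * D.rho) :
    D.swap.rho * x = y * D.swap.rho := by
  have k : D.swap.rho = D.rho * (D.swap.rho⁻¹ * D.rho)⁻¹ := by group
  rw [k, mul_assoc, ← K_comm (inv_mem h.zK) hx, ← mul_assoc, e, mul_assoc]

theorem rel_swap : D.swap.Rel' :=
  ⟨h.bb, h.ee, h.vv, eb h, h.ev, h.bv, h.nb2, h.ne2, h.nbe, h.neb, h.nb3, h.ne3,
    by rw [swap_K]; exact (by simpa using inv_mem h.zK : D.rho⁻¹ * D.swap.rho ∈ D.K), h.r3', h.r3, fun t => swap_act h (xb_A t) (h.rb t),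
    fun t => swap_act h (xe_A t) (h.re t), fun t => swap_act h (xv_A h t) (h.rv t), h.nbr, h.ner,
    fun t1 t2 t3 e => by
      change D.xb t1 * D.xe t2 * D.xv t3 = 1 at e
      rw [h.be, mul_assoc (D.xe t2), ← h.bv, ← mul_assoc, mul_assoc _ (D.xv _), ← h.vv] at e
      obtain ⟨h1, h2, h3⟩ := h.nf _ _ _ e
      exact ⟨h2, h1, by simpa [h1] using h3⟩⟩

end rel

theorem fa_swap (hF : D.Fa') : D.swap.Fa' := by
  have h := hF.rel
  have g := hF.glob
  have p := hF.par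
  refine ⟨rel_swap h, ⟨?_, ?_, ?_, ?_, ?_, ?_⟩, ?_, ?_, ?_, ?_, ?_, ?_, ?_, ?_, ?_, ?_, ?_, ?_, ?_,
    ?_, ?_, ?_, ?_⟩ <;> try simp only [swap_A, swap_K, swap_N, swap_U]
  · exact g.qs
  · exact g.perf
  · exact g.inv
  · exact g.centV
  · intro a ha hn
    obtain ⟨i, u, hu, k, hk, e⟩ := g.normV a ha hn
    refine ⟨i, u, hu, _, mul_mem hk (pow_mem (inv_mem h.zK) i), ?_⟩
    rw [← mul_assoc, ← e, mul_assoc, ← Commute.mul_pow (K_comm (inv_mem h.zK) rho_A)]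
    simp
  · intro x hx
    obtain ⟨a, ha, l, m, fr, e⟩ := g.out x hx
    exact ⟨a, ha, m, l, fr, e.imp St_swap St_swap⟩
  · exact p.AKo
  · exact p.AK
  · intro u hu
    obtain ⟨t1, t2, t3, rfl⟩ := p.unf u hu
    refine ⟨t2, t1, t1 * t2 + t3, ?_⟩
    change _ = D.xb t2 * D.xe t1 * D.xv _
    rw [eb h, h.vv, mul_assoc (D.xb t2), ← h.ev]
    simp only [mul_assoc]
  · exact p.cardU
  · exact p.syl
  · exact fun u hu e => (p.invU u hu e).symm
  · exact fun H a b c => p.genU H a c b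
  · exact p.nrmU
  · exact p.oddU
  · exact fun g hg => p.stK g (St_swap hg)
  · intro x hx hv
    obtain ⟨a, ha, l, m, fr, e⟩ := p.nU x hx hv
    exact ⟨a, ha, m, l, fr, e.imp St_swap St_swap⟩
  exacts [p.cU, p.cUV, p.o3, p.comm2, p.outinv, p.out4]

variable (hF : D.Fa')
include hF

theorem UK {u : G} (hu : u ∈ D.U) (hk : u ∈ D.K) : u = 1 :=
  (hF.par.syl.isPGroup ⟨u, hu⟩).elim fun n e =>
    hF.par.AK u (U_A hF.rel hu) hk n (congrArg Subtype.val e)

theorem u_conj {u : G} (hu : u ∈ D.U) : ∃ a a', ∀ t, u * D.xe t * u⁻¹ = D.xe t * D.xv (a * t) ∧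
    u * D.xb t * u⁻¹ = D.xb t * D.xv (a' * t) := by
  have h := hF.rel
  obtain ⟨t1, t2, t3, rfl⟩ := hF.par.unf u hu
  have e1 : ∀ t, D.xe t = D.xe t * D.xb 0 * D.xv 0 := fun t => by simp [b0 h, v0 h]
  have e2 : ∀ t, D.xb t = D.xe 0 * D.xb t * D.xv 0 := fun t => by simp [e0 h, v0 h]
  have e3 : ∀ t, D.xv t = D.xe 0 * D.xb 0 * D.xv t := fun t => by simp [e0 h, b0 h]
  refine ⟨t2, t1, fun t => ⟨conj_of_eq ?_, conj_of_eq ?_⟩⟩
  · rw [e1 t, e3 (t2 * t), nf_mul h, nf_mul h, nf_mul h]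
    congr 2
    exacts [congrArg _ (by ring), congrArg _ (by ring), by ring]
  · rw [e2 t, e3 (t1 * t), nf_mul h, nf_mul h, nf_mul h]
    congr 2
    exacts [congrArg _ (by ring), congrArg _ (by ring), by linear_combination -f4_add (t * t1)]

/-- Elements of `N` centralizing `V`. -/
theorem cV {g : G} (hg : g ∈ D.N) (hv : ∀ t, g * D.xv t = D.xv t * g) :
    ∃ l m a a', l * m = 1 ∧ (((∀ t, g * D.xe t * g⁻¹ = D.xe (l * t) * D.xv (a * t)) ∧
      (l = 1 → ∃ k ∈ D.K, ∃ u ∈ D.U, g = k * u)) ∨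
      ∀ t, g * D.xe t * g⁻¹ = D.xb (l * t) * D.xv (a * t) ∧
        g * D.xb t * g⁻¹ = D.xe (m * t) * D.xv (a' * t)) := by
  have h := hF.rel
  obtain ⟨u, hu, l, m, fr, e⟩ := hF.par.nU g hg (centralizer_le_normalizer _ fun x hx => by
    obtain ⟨t, rfl⟩ := (mem_V h).1 hx
    exact (hv t).symm)
  have hv' : ∀ t, l * m * pw fr t = t := fun t => v_inj h (by
    rw [← (e.elim (fun e => e.v t) fun e => e.v t :), ← cmul (U_v h hu t).symm (hv t).symm,
      mul_inv_cancel_right])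
  have lm : l * m = 1 := by simpa [pw] using hv' 1
  obtain rfl : fr = false := by
    have := hv' om
    rw [lm] at this
    revert this
    cases fr <;> decide
  obtain ⟨a, a', ha⟩ := u_conj hF (inv_mem hu)
  have k : ∀ {x y : G}, u * g * x * (u * g)⁻¹ = y → g * x * g⁻¹ = u⁻¹ * y * u⁻¹⁻¹ :=
    fun e => by rw [← e]; group
  rcases e with e | e
  · refine ⟨l, m, a * l, 0, lm, Or.inl ⟨fun t => by rw [k (e.e t), (ha _).1, mul_assoc a]; rfl,
      fun l1 => ?_⟩⟩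
    subst l1
    rw [one_mul] at lm
    subst lm
    exact ⟨_, hF.par.stK _ e, u⁻¹, inv_mem hu, by
      rw [← K_comm (hF.par.stK _ e) (U_A h (inv_mem hu)), inv_mul_cancel_left]⟩
  · exact ⟨l, m, a' * l, a * m, lm, Or.inr fun t =>
      ⟨by rw [k (e.e t), mul_assoc a']; exact (ha _).2, by rw [k (e.b t), mul_assoc a]; exact (ha _).1⟩⟩

theorem eb_ne {a b x y : F4} (e : D.xe a * D.xv x = D.xb b * D.xv y) : a = 0 :=
  (nf_inj hF.rel (b := 0) (x := x) (a' := 0) (b' := b) (x' := y)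
    (by rwa [e0 hF.rel, b0 hF.rel, mul_one, one_mul])).1

theorem fe_inj {γ γ' x x' : F4} (e : D.xe γ * D.xv x = D.xe γ' * D.xv x') : γ = γ' :=
  (nf_inj hF.rel (b := 0) (x := x) (b' := 0) (x' := x') (by rwa [b0 hF.rel, mul_one, mul_one])).1

theorem cE {g : G} (hg : g ∈ D.N) (hv : ∀ t, g * D.xv t = D.xv t * g) {x : F4}
    (he : g * D.xe 1 * g⁻¹ = D.xe 1 * D.xv x) : ∃ k ∈ D.K, ∃ u ∈ D.U, g = k * u := by
  obtain ⟨l, m, a, a', -, ⟨e, k⟩ | e⟩ := cV hF hg hv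
  · exact k (by simpa using fe_inj hF ((e 1).symm.trans he))
  · exact absurd (eb_ne hF (he.symm.trans (e 1).1)) one_ne_zero

variable (hW : WA D R O r f c)
include hW

theorem rR (s : F4) : r s ∈ R := (hW.r_mem _).2 ⟨s, rfl⟩

theorem O_odd {o : G} (ho : o ∈ O) : Odd (orderOf o) :=
  hW.oddO.of_dvd_nat (orderOf_dvd_natCard _ ho)

theorem fv (t u : F4) : f t * D.xv u = D.xv u * f t := hW.fU t _ (xv_U u)

theorem rr (s t : F4) : r s * r t = r t * r s := by rw [← hW.r_add, ← hW.r_add, add_comm]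

theorem rv (s u : F4) : r s * D.xv u = D.xv u * r s := by
  have h1 := hW.fr 1 (u + s)
  rw [hW.r_add, ← mul_assoc, hW.fr, mul_assoc _ (f 1), hW.fr, ← mul_assoc, mul_left_inj, mul_one,
    mul_one, mul_one, hF.rel.vv, ← mul_assoc, ← mul_assoc, mul_left_inj, mul_assoc, mul_assoc,
    mul_right_inj] at h1
  exact h1.symm

theorem v_R {x : F4} (h : D.xv x ∈ R) : x = 0 := by
  obtain ⟨s, e⟩ := (hW.r_mem _).1 h
  have h1 := hW.fr 1 s
  rw [e, fv hF hW, mul_left_inj, left_eq_mul, mul_one] at h1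
  rw [v_eq_one hF.rel h1, one_of_add hW.r_add] at e
  exact v_eq_one hF.rel e.symm

theorem r_type (s : F4) : (∃ k ∈ D.K, ∃ u ∈ D.U, r s = k * u) ∨ ∃ l m a a', l * m = 1 ∧
    ∀ t, r s * D.xe t * (r s)⁻¹ = D.xb (l * t) * D.xv (a * t) ∧
      r s * D.xb t * (r s)⁻¹ = D.xe (m * t) * D.xv (a' * t) := by
  obtain ⟨l, m, a, a', lm, ⟨e, k⟩ | e⟩ := cV hF (hW.nR (le_normalizer (rR hF hW s))) (rv hF hW s)
  · refine Or.inl (k ?_)
    have h1 : r s * (r s * D.xe 1 * (r s)⁻¹) * (r s)⁻¹ = D.xe 1 * D.xv 0 := by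
      rw [v0 hF.rel, mul_one, inv_of_add hW.r_add, ← mul_assoc, ← mul_assoc, sq_of_add hW.r_add,
        one_mul, mul_assoc, sq_of_add hW.r_add, mul_one]
    rw [e, ← conj_mul, e, rv hF hW, mul_inv_cancel_right, mul_assoc, ← hF.rel.vv] at h1
    have h2 := fe_inj hF h1
    revert h2
    generalize l = l
    revert l
    decide
  · exact Or.inr ⟨l, m, a, a', lm, e⟩

theorem nE' {y : G} (hy : ∀ s, ∃ x, r s * y * (r s)⁻¹ = y * D.xv x) :
    ∃ τ, ∀ s x, r s * y * (r s)⁻¹ = y * D.xv x → x = s * τ := by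
  have k : ∀ {s x}, r s * y * (r s)⁻¹ = y * D.xv x → y⁻¹ * r s * y⁻¹⁻¹ = r s * D.xv x := fun e => by
    rw [rv hF hW, inv_inv, mul_assoc, inv_mul_eq_iff_eq_mul, ← mul_assoc, ← e, inv_mul_cancel_right]
  obtain ⟨τ, e⟩ := hW.nE y⁻¹ fun s => (hy s).elim fun x e => ⟨s, x, k e⟩
  refine ⟨τ, fun s x e' => f4_eq (v_R hF hW ?_)⟩
  have h1 := (mem_normalizer_iff.1 e _).1 (rR hF hW s)
  have h2 : (f τ)⁻¹ * y⁻¹ * r s * ((f τ)⁻¹ * y⁻¹)⁻¹ = r s * D.xv (x + s * τ) := by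
    calc _ = (f τ)⁻¹ * (y⁻¹ * r s * y⁻¹⁻¹) * f τ := by group
      _ = _ := by
        rw [k e', mul_assoc, inv_mul_eq_iff_eq_mul, ← mul_assoc, hW.fr, mul_assoc, mul_assoc,
          mul_assoc, fv hF hW, ← mul_assoc (D.xv _), ← hF.rel.vv, add_comm x, ← add_assoc, f4_add,
          zero_add]
  rwa [h2, R.mul_mem_cancel_left (rR hF hW s)] at h1

theorem r_KU (s : F4) : ∃ k ∈ D.K, ∃ u ∈ D.U, r s = k * u := by
  have h := hF.rel
  refine (r_type hF hW s).elim id fun ⟨l, m, a, a', lm, e⟩ => ?_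
  have l0 : l ≠ 0 := left_ne_zero_of_mul_eq_one lm
  have s0 : s ≠ 0 := by
    rintro rfl
    have := (e 1).1
    rw [one_of_add hW.r_add, one_mul, inv_one, mul_one, ← mul_one (D.xe 1), ← v0 h] at this
    exact one_ne_zero (eb_ne hF this)
  obtain ⟨s₀, hs, k, hk, u, hu, e0⟩ : ∃ s₀, (s₀ = om * s ∨ s₀ = om ^ 2 * s) ∧
      ∃ k ∈ D.K, ∃ u ∈ D.U, r s₀ = k * u := by
    rcases r_type hF hW (om * s) with h1 | ⟨l1, m1, a1, a1', lm1, e1⟩
    · exact ⟨_, Or.inl rfl, h1⟩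
    refine (r_type hF hW (om ^ 2 * s)).elim (fun h1 => ⟨_, Or.inr rfl, h1⟩)
      fun ⟨l2, m2, a2, a2', lm2, e2⟩ => ?_
    have h2 := (e2 1).1
    have h3 : r s * r (om * s) * D.xe 1 * (r s * r (om * s))⁻¹ =
      r s * (r (om * s) * D.xe 1 * (r (om * s))⁻¹) * (r s)⁻¹ := by group
    rw [show om ^ 2 * s = s + om * s by rw [show om ^ 2 = 1 + om by decide]; ring, hW.r_add, h3,
      (e1 1).1, ← conj_mul, (e _).2, rv hF hW, mul_inv_cancel_right, mul_assoc, ← h.vv] at h2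
    have h4 := eb_ne hF h2
    simp [left_ne_zero_of_mul_eq_one lm1, right_ne_zero_of_mul_eq_one lm] at h4
  obtain ⟨b, b', hb⟩ := u_conj hF hu
  have c1 : ∀ t, r s * (D.xe t * D.xb (l * t)) * (r s)⁻¹ =
      D.xe t * D.xb (l * t) * D.xv (l * t * t + a * t + a' * (l * t)) := fun t => by
    rw [← conj_mul, (e _).1, (e _).2, ← mul_assoc m, mul_comm m, lm, one_mul, h.vv, h.vv,
      mul_assoc, sw (h.ev _ _).symm, ← mul_assoc, h.be, mul_assoc (D.xe t), ← h.bv]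
    simp only [mul_assoc]
  have c2 : ∀ t, r s₀ * (D.xe t * D.xb (l * t)) * (r s₀)⁻¹ =
      D.xe t * D.xb (l * t) * D.xv (b * t + b' * (l * t)) := fun t => by
    have uA := U_A h (mul_mem (mul_mem hu (mul_mem (xe_U t) (xb_U (l * t)))) (inv_mem hu))
    calc _ = k * (u * (D.xe t * D.xb (l * t)) * u⁻¹) * k⁻¹ := by rw [e0]; group
      _ = _ := by
        rw [← K_comm hk uA, mul_inv_cancel_right, ← conj_mul, (hb _).1, (hb _).2, h.vv,
          mul_assoc, mul_assoc, sw (h.bv _ _).symm]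
  have key : ∀ t, (l * t * t + a * t + a' * (l * t)) * s₀ = (b * t + b' * (l * t)) * s := fun t => by
    obtain ⟨τ, hτ⟩ := nE' hF hW (y := D.xe t * D.xb (l * t)) fun s' => by
      have : s' = 0 ∨ s' = s ∨ s' = s₀ ∨ s' = s + s₀ := by
        clear * - hs s0
        revert s s' s₀
        decide
      rcases this with rfl | rfl | rfl | rfl
      · exact ⟨0, by simp [one_of_add hW.r_add, v0 h]⟩
      · exact ⟨_, c1 t⟩
      · exact ⟨_, c2 t⟩
      · refine ⟨l * t * t + a * t + a' * (l * t) + (b * t + b' * (l * t)), ?_⟩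
        calc _ = r s * (r s₀ * (D.xe t * D.xb (l * t)) * (r s₀)⁻¹) * (r s)⁻¹ := by
              rw [hW.r_add]; group
          _ = _ := by rw [c2, ← conj_mul, c1, rv hF hW, mul_inv_cancel_right, mul_assoc, ← h.vv]
    rw [hτ _ _ (c1 t), hτ _ _ (c2 t)]
    ring
  have h5 : l * s₀ * (om * om + om) = 0 := by
    linear_combination key om - om * key 1 + f4_add (l * s₀ * om)
  rw [show om * om + om = 1 by decide, mul_one] at h5
  have : om ≠ 0 := by decide
  rcases hs with rfl | rfl <;> simp [*] at h5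

theorem rK (s : F4) : r s ∈ D.K := by
  obtain ⟨k, hk, p, hp, e⟩ := r_KU hF hW s
  have pA := U_A hF.rel hp
  have kr : ∀ x ∈ R, k * x = x * k := fun x hx => by
    obtain ⟨t, rfl⟩ := (hW.r_mem x).1 hx
    obtain ⟨k', hk', p', hp', e'⟩ := r_KU hF hW t
    have pA' := U_A hF.rel hp'
    have h1 := rr hF hW s t
    rw [e, e'] at h1
    have h2 : (k' * k)⁻¹ * (k * k') = p' * p * (p * p')⁻¹ := by
      rw [inv_mul_eq_iff_eq_mul, ← mul_assoc, eq_mul_inv_iff_mul_eq]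
      calc k * k' * (p * p') = k * p * (k' * p') := by
            rw [mul_assoc, mul_assoc, sw (K_comm hk' pA)]
        _ = k' * p' * (k * p) := h1
        _ = _ := by rw [mul_assoc, mul_assoc, sw (K_comm hk pA')]
    have h3 := UK hF (h2 ▸ mul_mem (mul_mem hp' hp) (inv_mem (mul_mem hp hp')))
      (mul_mem (inv_mem (mul_mem hk' hk)) (mul_mem hk hk'))
    rw [e']
    exact cmul (inv_mul_eq_one.1 h3).symm (K_comm hk pA').symm
  obtain ⟨x, hx, o, ho, e2⟩ := hW.cKR k hk kr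
  obtain ⟨t, rfl⟩ := (hW.r_mem x).1 hx
  have tK : r t ∈ D.K := by
    rw [eq_mul_inv_of_mul_eq e2.symm]; exact mul_mem hk (inv_mem (hW.OK ho))
  have h4 : r (t + s) = o * p := by
    rw [hW.r_add, e, e2, mul_assoc, ← mul_assoc, sq_of_add hW.r_add, one_mul]
  have h5 := hW.fr 1 (t + s)
  rw [h4, cmul (hW.fI o (hW.OK ho) (O_odd hF hW ho) ⟨1, one_ne_zero, hW.OR o ho _ (rR hF hW 1)⟩ 1)
    (hW.fU 1 p hp), mul_left_inj, mul_one, left_eq_mul] at h5
  exact f4_eq (v_eq_one hF.rel h5) ▸ tK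

theorem rA (s : F4) {a : G} (ha : a ∈ D.A) : a * r s = r s * a := K_comm (rK hF hW s) ha

theorem fO (t : F4) {o : G} (ho : o ∈ O) : f t * o = o * f t :=
  hW.fI o (hW.OK ho) (O_odd hF hW ho) ⟨1, one_ne_zero, hW.OR o ho _ (rR hF hW 1)⟩ t

theorem wa_swap : WA D.swap R O r f c := by
  have h := hF.rel
  have zA : D.swap.rho⁻¹ * D.rho ∈ D.A := mul_mem (inv_mem (swap_A (D := D) ▸ rho_A)) rho_A
  refine ⟨?_, hW.oddO, hW.OR, ?_, ?_, ?_, hW.r_add, hW.r_inj, hW.r_mem, hW.f0, ?_, hW.fr, hW.ff,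
    hW.fsq, hW.f3, fun t => ?_, hW.nE, ?_⟩ <;> try simp only [swap_K, swap_N, swap_U]
  exacts [hW.OK, hW.cKR, hW.nR, hW.cr, hW.fU, by
    have k : D.swap.rho = D.rho * (D.swap.rho⁻¹ * D.rho)⁻¹ := by group
    rw [k, mul_assoc, ← cinv (hW.fI _ h.zK (hF.par.AKo _ zA h.zK)
      ⟨1, one_ne_zero, rA hF hW 1 zA⟩ t), ← mul_assoc, hW.rf, mul_assoc], hW.fI]

theorem ww_v (x : Fin 4 → F4) (u : F4) : D.xv u * ww D r f x = ww D r f x * D.xv u :=
  cmul (cmul (cmul (rv hF hW _ u).symm (fv hF hW _ u).symm) (hF.rel.bv _ u).symm)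
    (hF.rel.ev _ u).symm

theorem ww_mul (x y : Fin 4 → F4) : ww D r f x * ww D r f y =
    r (x 0 + y 0) * (f (x 1) * f (y 1)) * D.xb (x 2 + y 2) * D.xe (x 3 + y 3) * D.xv (B4 x y) := by
  have h := hF.rel
  have m : ∀ {x : F4 → G}, (∀ t u, x (t + u) = x t * x u) → ∀ t u z,
      x t * (x u * z) = x (t + u) * z := fun hx t u z => by rw [hx, mul_assoc]
  have fr : ∀ t s z, f t * (r s * z) = r s * (f t * (D.xv (t * s) * z)) := fun t s z => by
    rw [← mul_assoc, hW.fr, mul_assoc, mul_assoc, sw (fv hF hW t _), mul_comm s t]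
  have eb : ∀ t s z, D.xe t * (D.xb s * z) = D.xb s * (D.xe t * (D.xv (t * s) * z)) := fun t s z => by
    rw [← mul_assoc (D.xb s), h.be, mul_assoc, mul_assoc, sw (h.bv s _), mul_comm s t, m h.vv,
      f4_add, v0 h, one_mul]
  have fq : ∀ {q : G}, q ∈ D.U → ∀ t z, q * (f t * z) = f t * (q * z) := fun hq t =>
    sw (hW.fU t _ hq).symm
  have rq : ∀ {q : G}, q ∈ D.U → ∀ t z, q * (r t * z) = r t * (q * z) := fun hq t =>
    sw (rA hF hW t (U_A h hq))
  rw [← mul_one (ww D r f y), ← mul_one (D.xv _)]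
  simp only [ww, mul_assoc, m hW.r_add, m h.bb, m h.ee, m h.vv, fr, eb,
    fun u => rq (xb_U u), fun u => rq (xe_U u), fun u => fq (xb_U u),
    fun u => fq (xe_U u), fun u => fq (xv_U u), fun t u => sw (h.bv t u).symm,
    fun t u => sw (h.ev t u).symm, B4]

theorem ww_comm (x y : Fin 4 → F4) :
    ww D r f x * ww D r f y = D.xv (B4 x y + B4 y x) * (ww D r f y * ww D r f x) := by
  rw [cmul (ww_v hF hW y _) (ww_v hF hW x _), ww_mul hF hW, ww_mul hF hW, mul_assoc _ (D.xv _),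
    ← hF.rel.vv, add_comm (B4 x y), ← add_assoc, f4_add, zero_add, hW.ff, add_comm (x 0),
    add_comm (x 2), add_comm (x 3)]

theorem ww_sq (x : Fin 4 → F4) : ww D r f x * ww D r f x = D.xv (c * x 1 + B4 x x) := by
  have h := hF.rel
  simp only [ww_mul hF hW, f4_add, one_of_add hW.r_add, one_of_add h.bb, one_of_add h.ee, hW.fsq,
    one_mul, mul_one, h.vv]

theorem ww_eq_v {x : Fin 4 → F4} {u : F4} (e : ww D r f x = D.xv u) : x = 0 ∧ u = 0 := by
  have h := hF.rel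
  have hx : x = 0 := B4_nd fun y => by
    have := ww_comm hF hW x y
    rw [e, ww_v hF hW, right_eq_mul] at this
    exact v_eq_one h this
  refine ⟨hx, v_eq_one h ?_⟩
  simp only [← e, hx, ww, Pi.zero_apply, hW.f0, one_of_add hW.r_add, one_of_add h.bb,
    one_of_add h.ee, mul_one]

theorem ww_single : (∀ s, r s = ww D r f (Pi.single 0 s)) ∧ (∀ s, f s = ww D r f (Pi.single 1 s)) ∧
    (∀ s, D.xb s = ww D r f (Pi.single 2 s)) ∧ (∀ s, D.xe s = ww D r f (Pi.single 3 s)) ∧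
    ww D r f 0 = 1 := by
  have h := hF.rel
  simp [ww, hW.f0, one_of_add hW.r_add, one_of_add h.bb, one_of_add h.ee]

theorem exists_w4 (fa : ∀ s t, f (s + t) = f s * f t) {l : F4} (hl : l ≠ 0) :
    ∃ W π, W4 D r f l W π := by
  classical
  have h := hF.rel
  obtain ⟨s0, s1, s2, s3, s6⟩ := ww_single hF hW
  have mul : ∀ x y u u', ww D r f x * D.xv u * (ww D r f y * D.xv u') =
      ww D r f (x + y) * D.xv (B4 x y + (u + u')) := fun x y u u' => by
    rw [mul_assoc, sw (ww_v hF hW y u), ← mul_assoc, ww_mul hF hW, ← fa, ← h.vv, mul_assoc _ (D.xv _),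
      ← h.vv]
    rfl
  have uniq : ∀ x y u u', ww D r f x * D.xv u = ww D r f y * D.xv u' → x = y := fun x y u u' e => by
    have h1 := mul x y u u'
    rw [e, mul, x_add, s6, one_mul, eq_comm, ← eq_mul_inv_iff_mul_eq, v_inv h, ← h.vv] at h1
    rw [← add_zero x, ← x_add y, ← add_assoc, (ww_eq_v hF hW h1).1, zero_add]
  let X : Subgroup G :=
    { carrier := {a | ∃ x u, a = ww D r f x * D.xv u}
      one_mem' := ⟨0, 0, by rw [s6, v0 h, one_mul]⟩
      mul_mem' := by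
        rintro _ _ ⟨x, u, rfl⟩ ⟨y, u', rfl⟩
        exact ⟨_, _, mul x y u u'⟩
      inv_mem' := by
        rintro _ ⟨x, u, rfl⟩
        refine ⟨x, B4 x x + u, inv_eq_of_mul_eq_one_right ?_⟩
        rw [mul, x_add, s6, one_mul, ← add_assoc, f4_add, v0 h] }
  have v1 : ∀ {a : G} {x}, a = ww D r f x → a = ww D r f x * D.xv 0 := fun e => by
    rw [v0 h, mul_one, ← e]
  have vx : ∀ u, D.xv u = ww D r f 0 * D.xv u := fun u => by rw [s6, one_mul]
  have hX : ∀ a ∈ D.U ⊔ closure (Set.range r ∪ Set.range f), ∃ x u, a = ww D r f x * D.xv u :=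
    (sup_le (U_ind (H := X) (fun t => ⟨_, _, v1 (s3 t)⟩) (fun t => ⟨_, _, v1 (s2 t)⟩)
      fun t => ⟨_, _, vx t⟩)
      ((closure_le X).2 (by
        rintro _ (⟨t, rfl⟩ | ⟨t, rfl⟩)
        exacts [⟨_, _, v1 (s0 t)⟩, ⟨_, _, v1 (s1 t)⟩])) : _ ≤ X)
  let π : G → N4 × N4 := fun a =>
    if e : ∃ x u, a = ww D r f x * D.xv u then Pi4 l e.choose else 0
  have hπ : ∀ x u, π (ww D r f x * D.xv u) = Pi4 l x := fun x u => by
    have e : ∃ x' u', ww D r f x * D.xv u = ww D r f x' * D.xv u' := ⟨x, u, rfl⟩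
    obtain ⟨u', e'⟩ := e.choose_spec
    simp only [π, dif_pos e, ← uniq _ _ _ _ e']
  refine ⟨_, π, rfl, fun a ha => ?_, fun a ha b hb => ?_, fun a ha => ?_, fun y => ?_,
    fun a ha => ?_, fun a ha b hb => ?_, fun s => ?_, fun s => ?_, fun s => ?_, fun s => ?_⟩
  · obtain ⟨x, u, rfl⟩ := hX a ha
    exact ⟨x 0, x 1, _, mul_mem (mul_mem (xb_U (x 2)) (xe_U (x 3))) (xv_U u),
      by simp only [ww, mul_assoc]⟩
  · obtain ⟨x, u, rfl⟩ := hX a ha
    obtain ⟨y, u', rfl⟩ := hX b hb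
    rw [mul, hπ, hπ, hπ, Pi4_add]
  · obtain ⟨x, u, rfl⟩ := hX a ha
    rw [hπ]
    refine ⟨fun e => ⟨u, by rw [Pi4_ker hl e, ← vx]⟩, fun ⟨s, e⟩ => ?_⟩
    rw [← uniq _ _ _ _ ((vx s).symm.trans e), Pi4_zero]
  · obtain ⟨x, rfl⟩ := Pi4_surj hl y
    refine ⟨_, mul_mem ?_ (mem_sup_left (xv_U 0)), hπ x 0⟩
    exact mul_mem (mul_mem (mul_mem
      (mem_sup_right (subset_closure (.inl ⟨_, rfl⟩))) (mem_sup_right (subset_closure (.inr ⟨_, rfl⟩))))
      (mem_sup_left (xb_U _))) (mem_sup_left (xe_U _))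
  · obtain ⟨x, u, rfl⟩ := hX a ha
    rw [mul, hπ, x_add, s6, one_mul, f4_add, add_zero, qq_Pi4 hl]
  · obtain ⟨x, u, rfl⟩ := hX a ha
    obtain ⟨y, u', rfl⟩ := hX b hb
    rw [mul, mul, hπ, hπ, bq_Pi4 hl, sw (ww_v hF hW _ _), ← h.vv, add_comm y x]
    congr 2
    linear_combination -f4_add (B4 y x)
  · rw [v1 (s0 s), hπ]; simp [Pi4, sm_zero]
  · rw [v1 (s1 s), hπ]; simp [Pi4, sm_zero]
  · rw [v1 (s3 s), hπ]; simp [Pi4, sm_zero]
  · rw [v1 (s2 s), hπ]; simp [Pi4, sm_zero]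

omit hF hW in
theorem w4 : W4Stmt'.{u} := fun _ _ _ _ _ _ _ _ _ _ hF hW fa hl => exists_w4 hF hW fa hl

omit hW in
/-- An element of `U` commuting with `e`. -/
theorem cde {p : G} (hp : p ∈ D.U) (he : p * D.xe 1 = D.xe 1 * p) : ∃ η x, p = D.xe η * D.xv x := by
  have h := hF.rel
  obtain ⟨t1, t2, t3, rfl⟩ := hF.par.unf p hp
  have e1 : D.xe 1 = D.xe 1 * D.xb 0 * D.xv 0 := by simp [b0 h, v0 h]
  rw [e1, nf_mul h, nf_mul h] at he
  have h2 : t2 = 0 := by simpa using (nf_inj h he).2.2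
  exact ⟨t1, t3, by rw [h2, b0 h, mul_one]⟩

theorem comm_iff {x y : Fin 4 → F4} {u u' : F4}
    (e : ww D r f x * D.xv u * (ww D r f y * D.xv u') = ww D r f y * D.xv u' * (ww D r f x * D.xv u)) :
    B4 x y + B4 y x = 0 := by
  rw [mul_assoc, mul_assoc, sw (ww_v hF hW y u), sw (ww_v hF hW x u'), ← hF.rel.vv, ← hF.rel.vv,
    add_comm u' u, ← mul_assoc, ← mul_assoc, mul_left_inj, ww_comm hF hW, mul_eq_right] at e
  exact v_eq_one hF.rel e

theorem sq_eq (x : Fin 4 → F4) (u : F4) :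
    ww D r f x * D.xv u * (ww D r f x * D.xv u) = D.xv (c * x 1 + B4 x x) := by
  rw [mul_assoc, sw (ww_v hF hW x u), v_sq hF.rel, mul_one, ww_sq hF hW]

/-- An element acting on `R V` as `f τ`. -/
theorem dec {g : G} {τ y : F4} (hv : ∀ u, g * D.xv u = D.xv u * g)
    (hr : ∀ s, g * r s = r s * D.xv (s * τ) * g) (he : g * D.xe 1 = D.xe 1 * D.xv y * g)
    (h4 : g ^ 4 = 1) : ∃ γ, ∃ p ∈ D.U, g = r γ * f τ * p := by
  have h := hF.rel
  have h1 : ∀ s, (f τ)⁻¹ * g * r s = r s * ((f τ)⁻¹ * g) := fun s => by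
    rw [mul_assoc, hr, inv_mul_eq_iff_eq_mul, ← mul_assoc, hW.fr]
    simp only [mul_assoc, mul_inv_cancel_left]
  obtain ⟨k, hk, p, hp, e⟩ := cE hF (hW.cr 1 one_ne_zero _ (h1 1))
    (fun u => (cmul (cinv (fv hF hW τ u).symm) (hv u).symm).symm) (x := y) (conj_of_eq (by
      rw [mul_assoc, he, ← mul_assoc, ← cinv (hW.fU τ _ (mul_mem (xe_U 1) (xv_U y))).symm,
        mul_assoc]))
  obtain ⟨x, hx, o, ho, rfl⟩ := hW.cKR k hk fun x hx => by
    obtain ⟨s, rfl⟩ := (hW.r_mem x).1 hx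
    have h2 := h1 s
    rwa [e, mul_assoc, rA hF hW s (U_A h hp), ← mul_assoc, ← mul_assoc, mul_left_inj] at h2
  obtain ⟨γ, rfl⟩ := (hW.r_mem x).1 hx
  have op : o * p = p * o := (K_comm (hW.OK ho) (U_A h hp)).symm
  have e1 : g = f τ * r γ * (p * o) := by
    rw [← op, ← mul_assoc, mul_assoc (f τ), mul_assoc (f τ), ← e, mul_inv_cancel_left]
  have c1 : Commute (f τ * r γ) (p * o) :=
    cmul (cmul (hW.fU τ p hp).symm (rA hF hW γ (U_A h hp))).symm
      (cmul (fO hF hW τ ho).symm (hW.OR o ho _ hx)).symm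
  have q1 : (f τ * r γ) ^ 4 = 1 := by
    have : f τ * r γ * (f τ * r γ) = D.xv (c * τ + γ * τ) := by
      rw [mul_assoc, ← mul_assoc (r γ), mul_assoc (r γ), hW.fr, ← mul_assoc (r γ), ← mul_assoc (r γ),
        sq_of_add hW.r_add, one_mul, ← fv hF hW, ← mul_assoc, hW.fsq, h.vv]
    rw [show 4 = 2 * 2 from rfl, pow_mul, sq, sq, this, v_sq h]
  rw [e1, c1.mul_pow, q1, one_mul, (Commute.mul_pow op.symm), mul_eq_one_iff_eq_inv] at h4
  have o4 : o ^ 4 = 1 := inv_eq_one.1 (UK hF (h4 ▸ pow_mem hp 4)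
    (inv_mem (pow_mem (hW.OK ho) 4)))
  have o1 : o = 1 := H86.U3.eq_one_of_odd_of_two (O_odd hF hW ho) (n := 2) o4
  refine ⟨γ, D.xv (γ * τ) * p, mul_mem (xv_U _) hp, ?_⟩
  rw [e1, o1, mul_one, hW.fr, mul_assoc (r γ), ← fv hF hW]
  simp only [mul_assoc]

theorem s_comm (β : F4) {p q : G} (hp : p ∈ D.U) (e : D.nb * p = q * D.nb) :
    sE D f β * q = q * sE D f β := by
  have e' : D.nb * q = p * D.nb := by
    calc D.nb * q = D.nb * (q * D.nb) * D.nb := by rw [mul_assoc, mul_assoc, hF.rel.nb2, mul_one]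
      _ = _ := by rw [← e, ← mul_assoc, hF.rel.nb2, one_mul]
  rw [sE, mul_assoc, e', ← mul_assoc, mul_assoc D.nb, hW.fU β p hp, ← mul_assoc, e]
  simp only [mul_assoc]

theorem s_v (β u : F4) : sE D f β * D.xv u = D.xv u * sE D f β :=
  s_comm hF hW β (xe_U u) (hF.rel.nbe u)

theorem nb_v (u : F4) : D.nb * D.xv u = D.xe u * D.nb := by
  calc _ = D.nb * (D.xv u * D.nb) * D.nb := by rw [mul_assoc, mul_assoc, hF.rel.nb2, mul_one]
    _ = _ := by rw [← hF.rel.nbe, ← mul_assoc, hF.rel.nb2, one_mul]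

theorem s_e (β u : F4) : sE D f β * D.xe u = D.xe u * sE D f β :=
  s_comm hF hW β (xv_U u) (nb_v hF hW u)

theorem s_r (β s : F4) : sE D f β * r s = r s * D.xe (s * β) * sE D f β := by
  rw [sE, mul_assoc, rA hF hW s nb_A, ← mul_assoc, mul_assoc D.nb, hW.fr, ← mul_assoc, ← mul_assoc,
    rA hF hW s nb_A, mul_assoc (r s), nb_v hF hW]
  simp only [mul_assoc]

theorem s_r' (β s : F4) : (sE D f β)⁻¹ * r s = r s * D.xe (s * β) * (sE D f β)⁻¹ := by
  rw [inv_mul_eq_iff_eq_mul, ← mul_assoc, ← mul_assoc, s_r hF hW, mul_assoc _ (sE D f β), s_e hF hW,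
    ← mul_assoc, mul_assoc (r s), sq_of_add hF.rel.ee, mul_one, mul_inv_cancel_right]

/-- The conjugate of an element which acts on `R X_e` as a translation by `V`. -/
theorem s_act (β : F4) {y : G} {τ : F4}
    (hy : ∀ s, y * (r s * D.xe (s * β)) = r s * D.xe (s * β) * D.xv (s * τ) * y) (s : F4) :
    sE D f β * y * (sE D f β)⁻¹ * r s = r s * D.xv (s * τ) * (sE D f β * y * (sE D f β)⁻¹) := by
  rw [mul_assoc, s_r' hF hW, ← mul_assoc, mul_assoc _ y, hy, ← mul_assoc, ← mul_assoc, ← mul_assoc,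
    s_r hF hW, mul_assoc _ (sE D f β) (D.xe _), s_e hF hW, ← mul_assoc, mul_assoc (r s),
    sq_of_add hF.rel.ee, mul_one, mul_assoc (r s), s_v hF hW]
  simp only [mul_assoc]

theorem form {g p : G} {γ τ : F4} (hp : p ∈ D.U) (e : g = r γ * f τ * p)
    (he : g * D.xe 1 = D.xe 1 * g) : ∃ η x, g = r γ * f τ * (D.xe η * D.xv x) := by
  rw [e, ← mul_assoc (D.xe 1), cmul (rA hF hW γ (xe_A 1)) (hW.fU τ _ (xe_U 1)).symm,
      mul_assoc, mul_assoc _ (D.xe 1), mul_right_inj] at he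
  obtain ⟨η, x, rfl⟩ := cde hF hp he
  exact ⟨η, x, e⟩

theorem g1 (β t : F4) : ∃ γ η x, sE D f β * D.xb t * (sE D f β)⁻¹ =
    ww D r f ![γ, t * β, t, η] * D.xv x := by
  have h := hF.rel
  have he : sE D f β * D.xb t * (sE D f β)⁻¹ * D.xe 1 =
      D.xe 1 * D.xv (t * 1) * (sE D f β * D.xb t * (sE D f β)⁻¹) := by
    rw [mul_assoc, ← cinv (s_e hF hW β 1).symm, ← mul_assoc, mul_assoc _ (D.xb t), h.be,
      ← mul_assoc, cmul (s_e hF hW β 1) (s_v hF hW β _)]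
    simp only [mul_assoc]
  obtain ⟨γ, p, hp, e⟩ := dec hF hW (g := sE D f β * D.xb t * (sE D f β)⁻¹) (τ := t * β)
    (fun u => conj_comm' (s_v hF hW β u) (h.bv t u))
    (s_act hF hW β fun s => by
      rw [← mul_assoc, rA hF hW s (xb_A t), mul_assoc, h.be, mul_left_comm]
      simp only [mul_assoc]) he
    (by rw [conj_pow, show 4 = 2 * 2 from rfl, pow_mul, sq (D.xb t), sq_of_add h.bb]; simp)
  have c1 : D.xb t * (r γ * f (t * β)) = r γ * f (t * β) * D.xb t :=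
    cmul (rA hF hW γ (xb_A t)) (hW.fU _ _ (xb_U t)).symm
  obtain ⟨η, x, e'⟩ := form hF hW (g := (D.xb t)⁻¹ * (sE D f β * D.xb t * (sE D f β)⁻¹))
    (γ := γ) (τ := t * β) (mul_mem (inv_mem (xb_U t)) hp)
    (by rw [e, inv_mul_eq_iff_eq_mul, ← mul_assoc, c1]; simp only [mul_assoc, mul_inv_cancel_left])
    (by
      rw [mul_assoc, inv_mul_eq_iff_eq_mul, ← mul_assoc (D.xb t), h.be, he]
      simp only [mul_assoc, mul_inv_cancel_left])
  refine ⟨γ, η, x, ?_⟩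
  rw [inv_mul_eq_iff_eq_mul] at e'
  rw [e', ← mul_assoc, c1]
  simp [ww, mul_assoc]

theorem g2 (β t : F4) : ∃ γ η x, sE D f β * f t * (sE D f β)⁻¹ =
    ww D r f ![γ, t, 0, η] * D.xv x := by
  have h := hF.rel
  have he := conj_comm' (s_e hF hW β 1) (hW.fU t _ (xe_U 1))
  obtain ⟨γ, p, hp, e⟩ := dec hF hW (g := sE D f β * f t * (sE D f β)⁻¹) (τ := t) (y := 0)
    (fun u => conj_comm' (s_v hF hW β u) (fv hF hW t u))
    (s_act hF hW β fun s => by
      rw [← mul_assoc, hW.fr, mul_assoc, hW.fU t _ (xe_U _), mul_assoc (r s), sw (h.ev _ _).symm]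
      simp only [mul_assoc]) (by rw [he, v0 h, mul_one])
    (by rw [conj_pow, show 4 = 2 * 2 from rfl, pow_mul, sq (f t), hW.fsq, sq, v_sq h]; simp)
  obtain ⟨η, x, e'⟩ := form hF hW hp e he
  refine ⟨γ, η, x, ?_⟩
  rw [e']
  simp [ww, one_of_add h.bb, mul_assoc]

theorem g12 (β : F4) : c * β = 0 ∧ ∃ γ,
    (∀ t, ∃ x, sE D f β * f t * (sE D f β)⁻¹ = f t * D.xe (γ * t) * D.xv x) ∧
    ∀ t, ∃ x, sE D f β * D.xb t * (sE D f β)⁻¹ =
      r (γ * t) * f (β * t) * D.xe (γ * β * t) * D.xb t * D.xv x := by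
  have h := hF.rel
  choose a1 a2 a3 ha using g1 hF hW β
  choose b1 b2 b3 hb using g2 hF hW β
  have k1 : ∀ t u, a1 t * u + b2 u * t + (t * β * b1 u) = 0 := fun t u => by
    have := conj_comm (g := sE D f β) (hW.fU u _ (xb_U t))
    rw [ha, hb] at this
    have := comm_iff hF hW this
    simp [B4] at this
    linear_combination this
  have k2 : ∀ t u, t * b1 u + u * b1 t = 0 := fun t u => by
    have := conj_comm (g := sE D f β) (hW.ff t u)
    rw [hb, hb] at this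
    simpa [B4] using comm_iff hF hW this
  have k3 : ∀ t, t * b1 t = 0 := fun t => by
    have := sq_eq hF hW ![b1 t, t, 0, b2 t] (b3 t)
    rw [← hb, conj_mul, hW.fsq, s_v hF hW, mul_inv_cancel_right] at this
    simpa [B4] using v_inj h this
  have k4 : ∀ t, c * (t * β) + (t * β * a1 t + a2 t * t) = 0 := fun t => by
    have := sq_eq hF hW ![a1 t, t * β, t, a2 t] (a3 t)
    rw [← ha, conj_mul, sq_of_add h.bb, mul_one, mul_inv_cancel] at this
    simpa [B4] using v_eq_one h this.symm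
  have k5 : ∀ t u, t * β * a1 u + a2 t * u + (u * β * a1 t + a2 u * t) = 0 := fun t u => by
    have := conj_comm (g := sE D f β) (show D.xb t * D.xb u = D.xb u * D.xb t by
      rw [← h.bb, ← h.bb, add_comm])
    rw [ha, ha] at this
    simpa [B4] using comm_iff hF hW this
  have h2 : (2 : F4) = 0 := by decide
  have e1 : ∀ t, b1 t = 0 := fun t => by
    linear_combination k2 1 t - t * k3 1
  have e2 : ∀ u, b2 u = a1 1 * u := fun u => by
    linear_combination k1 1 u - β * e1 u - (a1 1 * u) * h2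
  have e3 : ∀ t, a1 t = a1 1 * t := fun t => by
    linear_combination k1 t 1 - t * β * e1 1 - t * e2 1 - (a1 1 * t) * h2
  have e4 : ∀ t, a2 t = a2 1 * t := fun t => by
    linear_combination k5 t 1 - β * e3 t - (a1 1 * β * t + a2 1 * t) * h2
  have e5 : c * β = 0 := by
    have h3 : om * om + om = 1 := by decide
    linear_combination (om * om) * k4 1 + k4 om - om * β * e3 om - om * e4 om - c * β * h3 -
      (om * om * (β * a1 1 + a2 1)) * h2
  have e6 : a2 1 = a1 1 * β := by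
    linear_combination k4 1 - e5 - (a1 1 * β) * h2
  refine ⟨e5, a1 1, fun t => ⟨b3 t, ?_⟩, fun t => ⟨t * (a1 1 * β * t) + a3 t, ?_⟩⟩
  · rw [hb, e1, e2]
    simp [ww, one_of_add hW.r_add, one_of_add h.bb]
  · rw [ha, e3, e4, e6, mul_comm t β, h.vv]
    simp only [ww, Matrix.cons_val, mul_assoc, mul_right_inj]
    rw [← mul_assoc, h.be, mul_assoc, mul_assoc, sw (h.bv _ _)]

theorem c_zero : c = 0 := by simpa using (g12 hF hW 1).1

theorem f_add (s t : F4) : f (s + t) = f s * f t := by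
  have sq : ∀ t, f t * f t = 1 := fun t => by rw [hW.fsq, c_zero hF hW, zero_mul, v0 hF.rel]
  have h1 : f (om ^ 2) = f 1 * f om := by
    rw [← mul_one (f 1 * f om), ← sq (om ^ 2), ← mul_assoc, hW.f3, one_mul]
  have h2 : f om = f 1 * f (om ^ 2) := by rw [h1, ← mul_assoc, sq, one_mul]
  have h3 : f 1 = f om * f (om ^ 2) := by rw [h1, hW.ff 1, ← mul_assoc, sq, one_mul]
  have a1 : (1 : F4) + om = om ^ 2 := by decide
  have a2 : (1 : F4) + om ^ 2 = om := by decide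
  have a3 : om + om ^ 2 = 1 := by decide
  rcases f4_cases s with rfl | rfl | rfl | rfl <;> rcases f4_cases t with rfl | rfl | rfl | rfl
  any_goals rw [zero_add, hW.f0, one_mul]
  any_goals rw [add_zero, hW.f0, mul_one]
  any_goals rw [f4_add, hW.f0, sq]
  · rw [a1, h1]
  · rw [a2, ← h2]
  · rw [add_comm, a1, h1, hW.ff]
  · rw [a3, ← h3]
  · rw [add_comm, a2, hW.ff, ← h2]
  · rw [add_comm, a3, hW.ff, ← h3]

theorem exists_wb : ∃ v, WB D r f v := by
  have h := hF.rel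
  choose γ h1 h2 using fun β => (g12 hF hW β).2
  have z0 : γ 0 = 0 := by
    obtain ⟨x, e⟩ := h1 0 1
    rw [sE, hW.f0, mul_one, h.nb2, one_mul, inv_one, mul_one, mul_one, mul_assoc, left_eq_mul] at e
    exact fe_inj hF (x := x) (x' := 0) (by rw [e, one_of_add h.ee, v0 h, mul_one])
  have step : ∀ β, γ (om ^ 2 * β) = om * γ β := fun β => by
    have cs : (D.nb * D.rho * D.nb) * sE D f β = sE D f (om ^ 2 * β) * (D.nb * D.rho * D.nb) := by
      have nn : ∀ z, D.nb * (D.nb * z) = z := fun z => by rw [← mul_assoc, h.nb2, one_mul]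
      simp only [sE, mul_assoc, nn]
      rw [← mul_assoc D.rho, hW.rf, mul_assoc]
    have c3 : ∀ {x : F4 → G} {a : F4}, (∀ t, D.rho * x t = x (a * t) * D.rho) →
        ∀ t, (D.nb * D.rho * D.nb) * x t * (D.nb * D.rho * D.nb)⁻¹ = x (a * (a * t)) :=
      fun hx t => conj_of_eq (by rw [h.nbr, sq, mul_assoc, hx, ← mul_assoc, hx, mul_assoc])
    obtain ⟨x, e⟩ := h1 β 1
    obtain ⟨x', e'⟩ := h1 (om ^ 2 * β) (om ^ 2 * (om ^ 2 * 1))
    have e2 := congrArg (fun y => (D.nb * D.rho * D.nb) * y * (D.nb * D.rho * D.nb)⁻¹) e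
    have cm : ∀ g a b c : G, g * (a * b * c) * g⁻¹ = g * a * g⁻¹ * (g * b * g⁻¹) * (g * c * g⁻¹) :=
      fun _ _ _ _ => by group
    beta_reduce at e2
    rw [cm, cm, ← conj_inv] at e2
    rw [conj_of_eq cs, c3 hW.rf, c3 h.re, c3 h.rv, e', mul_assoc, mul_assoc (f _),
      mul_right_inj] at e2
    have e3 := fe_inj hF e2
    revert e3
    generalize γ (om ^ 2 * β) = a
    generalize γ β = b
    revert a b
    decide
  have all : ∀ β, γ β = γ 1 * β ^ 2 := fun β => by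
    have s1 := step 1
    have s2 := step (om ^ 2)
    rw [show om ^ 2 * 1 = om ^ 2 by decide] at s1
    rw [show om ^ 2 * om ^ 2 = om by decide, s1] at s2
    rcases f4_cases β with rfl | rfl | rfl | rfl
    · simp [z0]
    · simp
    · rw [s2]; ring
    · rw [s1, show (om ^ 2) ^ 2 = om by decide, mul_comm]
  refine ⟨γ 1, f_add hF hW, fun β t => all β ▸ h1 β t, fun β t => ?_⟩
  rw [pow_succ β 2, ← mul_assoc (γ 1), ← all]
  exact h2 β t

omit hF hW in
theorem wb : WBStmt'.{u} := fun _ _ _ _ _ _ _ _ _ hF _ hW =>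
  (exists_wb hF hW).elim fun v hv => (exists_wb (fa_swap hF) (wa_swap hF hW)).elim
    fun v' hv' => ⟨v, v', hv, hv'⟩

end Cfsg.Agent.H84.ACW
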