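import Cfsg.Agent.H37.FkTF

/-! The centraliser of the Sylow subgroups of the `SL₂`'s of a frame. -/

set_option autoImplicit false

namespace Cfsg.Agent.H84.FkFr1

open Cfsg Subgroup Matrix Cfsg.Agent.H37.FK
open scoped Pointwise

universe u

section SL

variable {F : Type} [Field F]

theorem vmul (x y : SL2 F) : (x * y).1 = x.1 * y.1 := rfl

theorem vone : (1 : SL2 F).1 = 1 := rfl

theorem vext {x y : SL2 F} : x = y ↔ x.1 = y.1 := Subtype.ext_iff

theorem vup (t : F) : (up t).1 = !![1, t; 0, 1] := rfl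

theorem vlo (t : F) : (lo t).1 = !![1, 0; t, 1] := rfl

theorem vdg (t : Fˣ) : (dg t).1 = !![(t : F), 0; 0, ((t⁻¹ : Fˣ) : F)] := rfl

/-- conjugation by an invertible matrix -/
def cj (M : GL (Fin 2) F) (x : SL2 F) : SL2 F :=
  ⟨(M : Matrix (Fin 2) (Fin 2) F) * x.1 * ((M⁻¹ : GL (Fin 2) F) : Matrix (Fin 2) (Fin 2) F), by
    rw [det_mul, det_mul, x.2, mul_one, ← det_mul, Units.mul_inv, det_one]⟩

theorem cj_val (M : GL (Fin 2) F) (x : SL2 F) : (cj M x).1 =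
    (M : Matrix (Fin 2) (Fin 2) F) * x.1 * ((M⁻¹ : GL (Fin 2) F) : Matrix (Fin 2) (Fin 2) F) := rfl

theorem cj_eq_iff {M : GL (Fin 2) F} {x y : SL2 F} : cj M x = y ↔
    (M : Matrix (Fin 2) (Fin 2) F) * x.1 = y.1 * (M : Matrix (Fin 2) (Fin 2) F) := by
  rw [vext, cj_val, Units.mul_inv_eq_iff_eq_mul]

theorem cj_mul (M N : GL (Fin 2) F) (x : SL2 F) : cj (M * N) x = cj M (cj N x) :=
  Subtype.ext (by simp only [cj_val, _root_.mul_inv_rev, Units.val_mul, Matrix.mul_assoc])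

theorem cj_one (x : SL2 F) : cj 1 x = x := Subtype.ext (by simp [cj_val])

theorem cj_map_mul (M : GL (Fin 2) F) (x y : SL2 F) : cj M (x * y) = cj M x * cj M y :=
  vext.2 (by
    rw [vmul, cj_val, cj_val, cj_val, vmul]
    simp only [Matrix.mul_assoc, Units.inv_mul_cancel_left])

theorem cj_toGL (y x : SL2 F) : cj (SpecialLinearGroup.toGL y) x = y * x * y⁻¹ := by
  rw [cj_eq_iff]
  show y.1 * x.1 = (y * x * y⁻¹).1 * y.1
  rw [← vmul, ← vmul, inv_mul_cancel_right]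

/-- `diag(d, 1)` -/
def dd (d : Fˣ) : GL (Fin 2) F :=
  GeneralLinearGroup.mkOfDetNeZero !![(d : F), 0; 0, 1] (by simp [det_fin_two])

theorem dd_val (d : Fˣ) : (dd d : Matrix (Fin 2) (Fin 2) F) = !![(d : F), 0; 0, 1] := rfl

theorem cj_dd_up (d : Fˣ) (t : F) : cj (dd d) (up t) = up (d * t) := by
  rw [cj_eq_iff, dd_val, vup, vup]
  simp

theorem cj_dd_lo (d : Fˣ) (t : F) : cj (dd d) (lo t) = lo (((d⁻¹ : Fˣ) : F) * t) := by
  rw [cj_eq_iff, dd_val, vlo, vlo]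
  simp
  field_simp

/-- `SL₂(F)` is generated by the unitriangular matrices -/
theorem sl2_ind {P : SL2 F → Prop} (h1 : ∀ t, P (up t)) (h2 : ∀ t, P (lo t))
    (hm : ∀ x y, P x → P y → P (x * y)) (x : SL2 F) : P x := by
  have key : ∀ x : SL2 F, x.1 1 0 ≠ 0 → P x := fun x hx => by
    have hd := x.2
    rw [det_fin_two] at hd
    have : x = up ((x.1 0 0 - 1) / x.1 1 0) * lo (x.1 1 0) * up ((x.1 1 1 - 1) / x.1 1 0) := by
      rw [vext, vmul, vmul, vup, vlo, vup]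
      ext i j
      fin_cases i <;> fin_cases j <;> simp <;> field_simp
      all_goals first | ring1 | linear_combination -hd
    rw [this]
    exact hm _ _ (hm _ _ (h1 _) (h2 _)) (h1 _)
  by_cases hx : x.1 1 0 = 0
  · have hd := x.2
    rw [det_fin_two, hx, mul_zero, sub_zero] at hd
    have e : lo (-1) * lo (1 : F) = 1 := by
      rw [vext, vmul, vlo, vlo, vone]
      ext i j
      fin_cases i <;> fin_cases j <;> simp
    have : x = lo (-1) * (lo 1 * x) := by rw [← mul_assoc, e, one_mul]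
    rw [this]
    refine hm _ _ (h2 _) (key _ ?_)
    rw [vmul, vlo]
    simpa [Matrix.mul_apply, Fin.sum_univ_two, hx] using left_ne_zero_of_mul_eq_one hd
  · exact key x hx

variable {K : Type u} [Group K]

/-- `g` acts on the image of `φ` like the matrix `M` -/
def Act (φ : SL2 F →* K) (g : K) (M : GL (Fin 2) F) : Prop :=
  ∀ x, g * φ x * g⁻¹ = φ (cj M x)

variable {φ : SL2 F →* K} {g h : K} {M N : GL (Fin 2) F}

theorem Act.mul (a : Act φ g M) (b : Act φ h N) : Act φ (g * h) (M * N) := fun x => by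
  rw [cj_mul, ← a, ← b]; group

theorem act_one : Act φ 1 1 := fun x => by simp [cj_one]

theorem Act.inv (a : Act φ g M) : Act φ g⁻¹ M⁻¹ := fun x => by
  have := a (cj M⁻¹ x)
  rw [← cj_mul, mul_inv_cancel, cj_one] at this
  rw [← this]; group

theorem Act.pow (a : Act φ g M) (n : ℕ) : Act φ (g ^ n) (M ^ n) := by
  induction n with
  | zero => simpa using act_one
  | succ n ih => rw [pow_succ, pow_succ]; exact ih.mul a

theorem act_dd {d : Fˣ} (a : ActsAs h φ d) : Act φ h (dd d) :=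
  sl2_ind (fun t => by rw [a.1, cj_dd_up]) (fun t => by rw [a.2, cj_dd_lo]) fun x y hx hy => by
    rw [cj_map_mul, map_mul, map_mul, ← hx, ← hy]; group

theorem Act.maps (a : Act φ g M) : Maps g φ.range φ.range := fun x =>
  ⟨fun ⟨y, e⟩ => ⟨_, by rw [← a, e]⟩, fun ⟨y, e⟩ => ⟨_, by rw [← a.inv, e]; group⟩⟩

end SL

variable {K : Type u} [Group K] (Fr : Frame K)

theorem pw : Pairwise fun i j : Fr.ι => ∀ (x : SL2 (Fr.F i)) (y : SL2 (Fr.F j)),
    Commute (Fr.φ i x) (Fr.φ j y) := fun i j hij a b => Fr.comm i j hij a b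

/-- the product map -/
noncomputable def Phi : (∀ i, SL2 (Fr.F i)) →* K := MonoidHom.noncommPiCoprod Fr.φ (pw Fr)

theorem Phi_single (i : Fr.ι) (x : SL2 (Fr.F i)) : Phi Fr (Pi.mulSingle i x) = Fr.φ i x :=
  MonoidHom.noncommPiCoprod_mulSingle Fr.φ i x

theorem Phi_range : (Phi Fr).range = ⨆ i, Fr.J i := MonoidHom.noncommPiCoprod_range _

theorem act_Phi (a : ∀ i, SL2 (Fr.F i)) (i : Fr.ι) :
    Act (Fr.φ i) (Phi Fr a) (SpecialLinearGroup.toGL (a i)) := fun x => by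
  rw [cj_toGL, ← Phi_single, ← Phi_single, ← map_inv, ← map_mul, ← map_mul]
  congr 1
  funext j
  by_cases hj : j = i
  · subst hj; simp
  · simp [Pi.mulSingle_eq_of_ne hj]

theorem Phi_mem {L : Subgroup K} {a : ∀ i, SL2 (Fr.F i)} (h : ∀ i, Fr.φ i (a i) ∈ L) :
    Phi Fr a ∈ L := by
  rw [Phi, MonoidHom.noncommPiCoprod_apply]
  exact Subgroup.noncommProd_mem _ _ fun i _ => h i

theorem decomp [Finite K] {g : K} (hg : g ∈ (⨆ i, Fr.J i) ⊔ Fr.H) :
    ∃ a, ∃ h ∈ Fr.H, g = Phi Fr a * h := by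
  have hn : Fr.H ≤ normalizer ((⨆ i, Fr.J i : Subgroup K) : Set K) := fun h hh => by
    have : (⨆ i, Fr.J i) ≤ (⨆ i, Fr.J i).comap (MulAut.conj h).toMonoidHom := iSup_le fun i x hx => by
      obtain ⟨d, hd⟩ := Fr.hact h hh i
      exact le_iSup Fr.J i (((act_dd hd).maps x).1 hx)
    exact mem_normalizer_fintype fun x hx => this hx
  rw [← SetLike.mem_coe, coe_mul_of_right_le_normalizer_left _ _ hn] at hg
  obtain ⟨x, hx, h, hh, rfl⟩ := hg
  rw [← Phi_range] at hx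
  obtain ⟨a, rfl⟩ := hx
  exact ⟨a, h, hh, rfl⟩

theorem exists_act [Finite K] {g : K} (hg : g ∈ (⨆ i, Fr.J i) ⊔ Fr.H) (i : Fr.ι) :
    ∃ M, Act (Fr.φ i) g M := by
  obtain ⟨a, h, hh, rfl⟩ := decomp Fr hg
  obtain ⟨d, hd⟩ := Fr.hact h hh i
  exact ⟨_, (act_Phi Fr a i).mul (act_dd hd)⟩

variable {Fr}

/-- the Sylow subgroup `S ∩ J i`, read in `SL₂` -/
theorem exists_Q {S : Subgroup K} (hS : Fr.Syl S) (i : Fr.ι) :
    ∃ Q : Sylow 2 (SL2 (Fr.F i)), ∀ x, x ∈ (Q : Subgroup _) ↔ Fr.φ i x ∈ S ⊓ Fr.J i := by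
  have h := hS.syl i
  have e : ((S ⊓ Fr.J i).comap (Fr.φ i)).map (Fr.φ i) = S ⊓ Fr.J i :=
    map_comap_eq_self inf_le_right
  have h2 : H98.SylIn 2 ((S ⊓ Fr.J i).comap (Fr.φ i)) ⊤ :=
    H98.SylIn.of_map_of_injective (Fr.φ i) (Fr.inj i) (by
      rw [e, ← MonoidHom.range_eq_map]; exact h)
  obtain ⟨Q, hQ⟩ := h2.exists_sylow_top
  exact ⟨Q, fun x => by rw [hQ, mem_comap]⟩

/-- a matrix centralising `S ∩ J i` is a scalar -/
theorem scalar (slq : SlqStmt) {S : Subgroup K} (hS : Fr.Syl S) (i : Fr.ι) {g : K}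
    {M : GL (Fin 2) (Fr.F i)} (a : Act (Fr.φ i) g M) (h : ∀ y ∈ S ⊓ Fr.J i, g * y = y * g) :
    ∃ c : Fr.F i, (M : Matrix (Fin 2) (Fin 2) (Fr.F i)) = c • (1 : Matrix (Fin 2) (Fin 2) _) := by
  obtain ⟨Q, hQ⟩ := exists_Q hS i
  refine (slq _ (Fr.odd i) Q).2.2.1 _ fun x hx => cj_eq_iff.1 (Fr.inj i ?_)
  rw [← a, h _ ((hQ x).1 hx), mul_inv_cancel_right]

theorem cen_mem [Finite K] (slq : SlqStmt) {S : Subgroup K} (hS : Fr.Syl S) {a : K} (ha : a ∈ S)
    (hc : Fr.Cen S a) : a ∈ Fr.H ∧ ∀ i, ActsAs a (Fr.φ i) 1 := by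
  obtain ⟨π, -, hπ⟩ := hS.perm a ha
  have h1 : π = 1 := Equiv.ext fun i => by
    by_contra hne
    obtain ⟨Q, hQ⟩ := exists_Q hS i
    obtain ⟨x, hx, y, hy, hxy⟩ := (slq _ (Fr.odd i) Q).1
    have h2 := (hπ i _).1 ((hQ x).1 hx).2
    rw [hc i _ ((hQ x).1 hx), mul_inv_cancel_right] at h2
    obtain ⟨b, hb⟩ := h2
    refine hxy (Fr.inj i ?_)
    rw [map_mul, map_mul, ← hb]
    exact Fr.comm _ _ hne _ _
  subst h1
  obtain ⟨b, h, hh, rfl⟩ := decomp Fr (hS.ker a ha hπ)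
  have key : ∀ i, Fr.φ i (b i) ∈ Fr.H ∧ ActsAs (Phi Fr b * h) (Fr.φ i) 1 := fun i => by
    obtain ⟨d, hd⟩ := Fr.hact h hh i
    have h2 := (act_Phi Fr b i).mul (act_dd hd)
    obtain ⟨c, hc'⟩ := scalar slq hS i h2 (hc i)
    have h3 : ∀ x, Phi Fr b * h * Fr.φ i x * (Phi Fr b * h)⁻¹ = Fr.φ i x := fun x => by
      rw [h2, cj_eq_iff.2]
      rw [hc']; simp
    refine ⟨?_, fun t => by simp only [h3, Units.val_one, one_mul],
      fun t => by simp only [h3, inv_one, Units.val_one, one_mul]⟩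
    have h4 : (b i).1 * !![(d : Fr.F i), 0; 0, 1] = c • (1 : Matrix (Fin 2) (Fin 2) _) := hc'
    have e01 := congrFun (congrFun h4 0) 1
    have e10 := congrFun (congrFun h4 1) 0
    simp [Matrix.mul_apply, Fin.sum_univ_two] at e01 e10
    have hd' := (b i).2
    rw [det_fin_two, e01, zero_mul, sub_zero] at hd'
    have : b i = dg (Units.mkOfMulEqOne _ _ hd') := by
      rw [vext, vdg]
      ext r s
      fin_cases r <;> fin_cases s <;> simp [e01, e10]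
      exact eq_inv_of_mul_eq_one_right hd'
    rw [this]
    exact Fr.hdg i _
  exact ⟨mul_mem (Phi_mem Fr fun i => (key i).1) hh, fun i => (key i).2⟩

theorem exists_odd_pow [Finite K] (h : K) : ∃ k : ℕ, Two (h ^ (2 * k + 1)) := by
  obtain ⟨e, m, hm, hem⟩ := Nat.exists_eq_two_pow_mul_odd (orderOf_pos h).ne'
  obtain ⟨k, rfl⟩ := hm
  exact ⟨k, e, by rw [← pow_mul, mul_comm, ← hem, pow_orderOf_eq_one]⟩

/-- **FR1** -/
theorem fr1 (slq : SlqStmt) : Fr1Stmt.{u} := by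
  intro K _ _ Fr S hS
  refine ⟨fun a ha b hb h1 h2 => Fr.hab _ (cen_mem slq hS ha h1).1 _ (cen_mem slq hS hb h2).1,
    fun a ha h1 h2 => Fr.hom a (cen_mem slq hS ha h1).1 h2 (cen_mem slq hS ha h1).2,
    fun f7 i => ?_⟩
  obtain ⟨h, hh, d, hd, ha⟩ := f7 i
  obtain ⟨k, hk⟩ := exists_odd_pow h
  obtain ⟨g, hg, hle⟩ := hS.sylk.exists_conj_le
    (zpowers_le.2 (mem_sup_right (pow_mem hh (2 * k + 1)))) hk.zpowers
  obtain ⟨G, hG⟩ := exists_act Fr hg i
  have hs := (hG.mul ((act_dd ha).pow (2 * k + 1))).mul hG.inv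
  refine ⟨_, (hle ⟨_, mem_zpowers _, rfl⟩).1, hs.maps, fun y hy => ?_⟩
  by_contra hn
  push Not at hn
  obtain ⟨y0, rfl⟩ := hy.2
  have hy0 : Act (Fr.φ i) (Fr.φ i y0) (SpecialLinearGroup.toGL y0) := fun x => by
    rw [cj_toGL, map_mul, map_mul, map_inv]
  obtain ⟨c, hc⟩ := scalar slq hS i (hy0.inv.mul hs) fun x hx => by
    have := hn x hx
    change g * h ^ (2 * k + 1) * g⁻¹ * x * (g * h ^ (2 * k + 1) * g⁻¹)⁻¹ = _ at this
    rw [mul_assoc, mul_inv_eq_iff_eq_mul.1 this]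
    group
  have h2 := congrArg det hc
  rw [← GeneralLinearGroup.val_det_apply] at h2
  simp only [map_mul, map_inv, map_pow, SpecialLinearGroup.coeToGL_det, inv_one, one_mul,
    mul_inv_cancel_comm, det_smul, det_one, mul_one, Fintype.card_fin, Units.val_pow_eq_pow_val,
    GeneralLinearGroup.val_det_apply, dd_val, det_fin_two_of, mul_zero, sub_zero] at h2
  refine hd ⟨c / (d : Fr.F i) ^ k, ?_⟩
  have := d.ne_zero
  field_simp
  rw [← h2]; ring

end Cfsg.Agent.H84.FkFr1
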