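import Cfsg.Agent.H42.ALDefs
import Cfsg.Agent.H84.AsWB

/-! Project AL: basic facts, the graph symmetry, and the position of `R`. -/

set_option autoImplicit false
set_option linter.unusedSectionVars false

namespace Cfsg.Agent.H84.ALW

open Cfsg Subgroup Cfsg.Agent.H28 Cfsg.Agent.H42.AL
open Cfsg.Agent.H42.AS (om)
open Cfsg.Agent.H72.ASB (f4_cases f4_add om_fix one_of_add sq_of_add inv_of_add mem_closure_range
  conj_of_eq)
open Cfsg.Agent.H84.AW (sw cmul cinv conj_comm conj_comm')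

universe u

variable {G : Type u} [Group G] [Finite G] {D : RD G} {R O : Subgroup G} {r f : F4 → G} {c : F4}

theorem f4_eq {a b : F4} (h : a + b = 0) : a = b := by
  rw [← add_zero a, ← f4_add b, ← add_assoc, h, zero_add]

theorem xe_A (t : F4) : D.xe t ∈ D.A := subset_closure (Or.inl (Or.inl ⟨t, rfl⟩))
theorem xb_A (t : F4) : D.xb t ∈ D.A := subset_closure (Or.inl (Or.inr ⟨t, rfl⟩))
theorem ne_A : D.ne ∈ D.A := subset_closure (Or.inr (Or.inl rfl))
theorem nb_A : D.nb ∈ D.A := subset_closure (Or.inr (Or.inr rfl))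
theorem hb_A : D.hb ∈ D.A :=
  mul_mem (mul_mem (mul_mem (mul_mem (mul_mem (xb_A _) nb_A) (xb_A _)) nb_A) (xb_A _)) nb_A
theorem rho_A : D.rho ∈ D.A := mul_mem hb_A hb_A
theorem xe_U (t : F4) : D.xe t ∈ D.U := subset_closure (by simp)
theorem xb_U (t : F4) : D.xb t ∈ D.U := subset_closure (by simp)
theorem xv_U (t : F4) : D.xv t ∈ D.U := subset_closure (by simp)
theorem xv_V (t : F4) : D.xv t ∈ D.V := subset_closure ⟨t, rfl⟩

theorem K_comm {k a : G} (hk : k ∈ D.K) (ha : a ∈ D.A) : a * k = k * a :=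
  mem_centralizer_iff.1 hk a ha

theorem U_ind {H : Subgroup G} (he : ∀ t, D.xe t ∈ H) (hb : ∀ t, D.xb t ∈ H)
    (hv : ∀ t, D.xv t ∈ H) : D.U ≤ H :=
  (closure_le H).2 (by
    rintro _ ((⟨t, rfl⟩ | ⟨t, rfl⟩) | ⟨t, rfl⟩)
    exacts [he t, hb t, hv t])

theorem swap_A : D.swap.A = D.A := by
  simp only [RD.A, RD.swap, Set.union_comm (Set.range D.xb), Set.pair_comm D.nb]
theorem swap_K : D.swap.K = D.K := by rw [RD.K, swap_A, RD.K]
theorem swap_N : D.swap.N = D.N := by rw [RD.N, swap_A, RD.N]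
theorem swap_U : D.swap.U = D.U := by
  simp only [RD.U, RD.swap, Set.union_comm (Set.range D.xb)]

theorem St_swap {D' : RD G} {g : G} {l m : F4} {fr : Bool} (h : D.St D' g l m fr) :
    D.swap.St D'.swap g m l fr :=
  ⟨h.m0, h.l0, h.b, h.e, fun t => mul_comm l m ▸ h.v t, h.b', h.e'⟩

section rel
variable (h : D.Rel)
include h

theorem v0 : D.xv 0 = 1 := one_of_add h.vv
theorem e0 : D.xe 0 = 1 := one_of_add h.ee
theorem b0 : D.xb 0 = 1 := one_of_add h.bb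
theorem v_sq (t : F4) : D.xv t * D.xv t = 1 := sq_of_add h.vv t
theorem v_inv (t : F4) : (D.xv t)⁻¹ = D.xv t := inv_of_add h.vv t

theorem v_eq_one {t : F4} (e : D.xv t = 1) : t = 0 :=
  (h.nf 0 0 t (by rw [e0 h, b0 h, e]; simp)).2.2

theorem v_inj {t u : F4} (e : D.xv t = D.xv u) : t = u :=
  f4_eq (v_eq_one h (by rw [h.vv, e, v_sq h]))

theorem mem_V {g : G} : g ∈ D.V ↔ ∃ t, g = D.xv t := mem_closure_range h.vv

theorem xv_A (t : F4) : D.xv t ∈ D.A :=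
  conj_of_eq (h.nbe t) ▸ mul_mem (mul_mem nb_A (xe_A t)) (inv_mem nb_A)

theorem U_A : D.U ≤ D.A := U_ind xe_A xb_A (xv_A h)

theorem U_v {p : G} (hp : p ∈ D.U) (t : F4) : p * D.xv t = D.xv t * p :=
  mem_centralizer_singleton_iff.1 (U_ind (H := centralizer {D.xv t})
    (fun u => mem_centralizer_singleton_iff.2 (h.ev u t))
    (fun u => mem_centralizer_singleton_iff.2 (h.bv u t))
    (fun u => mem_centralizer_singleton_iff.2 (by rw [← h.vv, ← h.vv, add_comm])) hp)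

theorem eb (t u : F4) : D.xe t * D.xb u = D.xb u * D.xv (t * u) * D.xe t := by
  rw [h.bv, mul_assoc, h.be, mul_comm u, ← mul_assoc, ← mul_assoc, ← h.ev, mul_assoc (D.xe t),
    v_sq h, mul_one]

theorem nf_mul (a b x a' b' x' : F4) : D.xe a * D.xb b * D.xv x * (D.xe a' * D.xb b' * D.xv x') =
    D.xe (a + a') * D.xb (b + b') * D.xv (b * a' + x + x') := by
  rw [h.ee, h.bb, h.vv, h.vv]
  simp only [mul_assoc]
  rw [sw (h.ev a' x).symm, sw (h.bv b' x).symm, ← mul_assoc (D.xb b), h.be, mul_assoc, mul_assoc,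
    sw (h.bv b _).symm, sw (h.bv b' _).symm]

theorem nf_inj {a b x a' b' x' : F4} (e : D.xe a * D.xb b * D.xv x = D.xe a' * D.xb b' * D.xv x') :
    a = a' ∧ b = b' ∧ x = x' := by
  have h1 := nf_mul h a b x a' b' (b' * a' + x')
  rw [e, nf_mul h, f4_add, f4_add, show b' * a' + x' + (b' * a' + x') = 0 from f4_add _, e0 h, b0 h,
    v0 h, one_mul, one_mul] at h1
  obtain ⟨h2, h3, h4⟩ := h.nf _ _ _ h1.symm
  obtain rfl := f4_eq h2
  obtain rfl := f4_eq h3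
  exact ⟨rfl, rfl, f4_eq (by linear_combination h4 - f4_add (b * a))⟩

theorem swap_rho : D.swap.rho = D.rho := by
  change D.he * D.he = D.hb * D.hb
  rw [h.heb]

theorem rel_swap : D.swap.Rel :=
  ⟨h.bb, h.ee, h.vv, eb h, h.ev, h.bv, h.nb2, h.ne2, h.nbe, h.neb, h.nb3, h.ne3, h.braid.symm,
    h.heb.symm, swap_rho h ▸ h.r3, swap_rho h ▸ h.rb, swap_rho h ▸ h.re, swap_rho h ▸ h.rv,
    swap_rho h ▸ h.nbr, swap_rho h ▸ h.ner, fun t1 t2 t3 e => by
      change D.xb t1 * D.xe t2 * D.xv t3 = 1 at e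
      rw [h.be, mul_assoc (D.xe t2), ← h.bv, ← mul_assoc, mul_assoc _ (D.xv _), ← h.vv] at e
      obtain ⟨h1, h2, h3⟩ := h.nf _ _ _ e
      exact ⟨h2, h1, by simpa [h1] using h3⟩⟩

theorem wa_swap (hW : WA D R O r f c) : WA D.swap R O r f c := by
  refine ⟨?_, hW.oddO, hW.OR, ?_, ?_, ?_, hW.r_add, hW.r_inj, hW.r_mem, hW.f0, ?_, hW.fr, hW.ff,
    hW.fsq, hW.f3, ?_, hW.nE, ?_⟩ <;> simp only [swap_K, swap_N, swap_U, swap_rho h]
  exacts [hW.OK, hW.cKR, hW.nR, hW.cr, hW.fU, hW.rf, hW.fI]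

end rel

theorem pd_swap (h : PD D R) : PD D.swap R := by
  refine ⟨?_, ?_, h.card, h.sq, h.mov, ?_⟩ <;> simp only [swap_K, swap_A]
  exacts [h.std, h.syl, h.noD]

theorem fa_swap (hF : D.Fa) : D.swap.Fa := by
  have h := hF.rel
  have g := hF.glob
  have p := hF.par
  refine ⟨rel_swap h, ⟨?_, ?_, ?_, ?_, ?_, ?_⟩, ?_, ?_, ?_, ?_, ?_, ?_, ?_, ?_, ?_, ?_, ?_, ?_, ?_,
    ?_, ?_, ?_⟩ <;> try simp only [swap_A, swap_K, swap_N, swap_U, swap_rho h]
  · rw [swap_A]; exact g.simple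
  · exact g.card
  · exact g.inv
  · exact g.centV
  · exact g.normV
  · intro x hx
    obtain ⟨a, ha, l, m, fr, e⟩ := g.out x hx
    exact ⟨a, ha, m, l, fr, e.imp St_swap St_swap⟩
  · exact p.AK
  · intro u hu
    obtain ⟨t1, t2, t3, rfl⟩ := p.unf u hu
    refine ⟨t2, t1, t1 * t2 + t3, ?_⟩
    change _ = D.xb t2 * D.xe t1 * D.xv _
    rw [eb h, h.vv, mul_assoc (D.xb t2), ← h.ev]
    simp only [mul_assoc]
  · exact p.cardU
  · exact p.syl
  · exact fun u hu e => (p.invU u hu e).symm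
  · exact fun H a b c => p.genU H a c b
  · exact p.nrmU
  · exact p.oddU
  · exact fun g hg => p.stK g (St_swap hg)
  · intro x hx hv
    obtain ⟨a, ha, l, m, fr, e⟩ := p.nU x hx hv
    exact ⟨a, ha, m, l, fr, e.imp St_swap St_swap⟩
  exacts [p.cU, p.cUV, p.o3, p.comm2, p.outinv, p.out4]

variable (hF : D.Fa)
include hF

theorem u_conj {u : G} (hu : u ∈ D.U) : ∃ a a', ∀ t, u * D.xe t * u⁻¹ = D.xe t * D.xv (a * t) ∧
    u * D.xb t * u⁻¹ = D.xb t * D.xv (a' * t) := by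
  have h := hF.rel
  obtain ⟨t1, t2, t3, rfl⟩ := hF.par.unf u hu
  have e1 : ∀ t, D.xe t = D.xe t * D.xb 0 * D.xv 0 := fun t => by simp [b0 h, v0 h]
  have e2 : ∀ t, D.xb t = D.xe 0 * D.xb t * D.xv 0 := fun t => by simp [e0 h, v0 h]
  have e3 : ∀ t, D.xv t = D.xe 0 * D.xb 0 * D.xv t := fun t => by simp [e0 h, b0 h]
  refine ⟨t2, t1, fun t => ⟨conj_of_eq ?_, conj_of_eq ?_⟩⟩
  · rw [e1 t, e3 (t2 * t), nf_mul h, nf_mul h, nf_mul h]
    congr 2
    exacts [congrArg _ (by ring), congrArg _ (by ring), by ring]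
  · rw [e2 t, e3 (t1 * t), nf_mul h, nf_mul h, nf_mul h]
    congr 2
    exacts [congrArg _ (by ring), congrArg _ (by ring), by linear_combination -f4_add (t * t1)]

/-- Elements of `N` centralizing `V`. -/
theorem cV {g : G} (hg : g ∈ D.N) (hv : ∀ t, g * D.xv t = D.xv t * g) :
    ∃ l m a a', l * m = 1 ∧ (((∀ t, g * D.xe t * g⁻¹ = D.xe (l * t) * D.xv (a * t)) ∧
      (l = 1 → ∃ k ∈ D.K, ∃ u ∈ D.U, g = k * u)) ∨
      ∀ t, g * D.xe t * g⁻¹ = D.xb (l * t) * D.xv (a * t) ∧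
        g * D.xb t * g⁻¹ = D.xe (m * t) * D.xv (a' * t)) := by
  have h := hF.rel
  obtain ⟨u, hu, l, m, fr, e⟩ := hF.par.nU g hg (centralizer_le_normalizer _ fun x hx => by
    obtain ⟨t, rfl⟩ := (mem_V h).1 hx
    exact (hv t).symm)
  have hv' : ∀ t, l * m * pw fr t = t := fun t => v_inj h (by
    rw [← (e.elim (fun e => e.v t) fun e => e.v t :), ← cmul (U_v h hu t).symm (hv t).symm,
      mul_inv_cancel_right])
  have lm : l * m = 1 := by simpa [pw] using hv' 1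
  obtain rfl : fr = false := by
    have := hv' om
    rw [lm] at this
    revert this
    cases fr <;> decide
  obtain ⟨a, a', ha⟩ := u_conj hF (inv_mem hu)
  have k : ∀ {x y : G}, u * g * x * (u * g)⁻¹ = y → g * x * g⁻¹ = u⁻¹ * y * u⁻¹⁻¹ :=
    fun e => by rw [← e]; group
  rcases e with e | e
  · refine ⟨l, m, a * l, 0, lm, Or.inl ⟨fun t => by rw [k (e.e t), (ha _).1, mul_assoc a]; rfl,
      fun l1 => ?_⟩⟩
    subst l1
    rw [one_mul] at lm
    subst lm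
    exact ⟨_, hF.par.stK _ e, u⁻¹, inv_mem hu, by
      rw [← K_comm (hF.par.stK _ e) (U_A h (inv_mem hu)), inv_mul_cancel_left]⟩
  · exact ⟨l, m, a' * l, a * m, lm, Or.inr fun t =>
      ⟨by rw [k (e.e t), mul_assoc a']; exact (ha _).2, by rw [k (e.b t), mul_assoc a]; exact (ha _).1⟩⟩

theorem eb_ne {a b x y : F4} (e : D.xe a * D.xv x = D.xb b * D.xv y) : a = 0 :=
  (nf_inj hF.rel (b := 0) (x := x) (a' := 0) (b' := b) (x' := y)
    (by rwa [e0 hF.rel, b0 hF.rel, mul_one, one_mul])).1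

theorem fe_inj {γ γ' x x' : F4} (e : D.xe γ * D.xv x = D.xe γ' * D.xv x') : γ = γ' :=
  (nf_inj hF.rel (b := 0) (x := x) (b' := 0) (x' := x') (by rwa [b0 hF.rel, mul_one, mul_one])).1

theorem cE {g : G} (hg : g ∈ D.N) (hv : ∀ t, g * D.xv t = D.xv t * g) {x : F4}
    (he : g * D.xe 1 * g⁻¹ = D.xe 1 * D.xv x) : ∃ k ∈ D.K, ∃ u ∈ D.U, g = k * u := by
  obtain ⟨l, m, a, a', -, ⟨e, k⟩ | e⟩ := cV hF hg hv
  · exact k (by simpa using fe_inj hF ((e 1).symm.trans he))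
  · exact absurd (eb_ne hF (he.symm.trans (e 1).1)) one_ne_zero

variable (hW : WA D R O r f c)
include hW

theorem rR (s : F4) : r s ∈ R := (hW.r_mem _).2 ⟨s, rfl⟩

theorem O_odd {o : G} (ho : o ∈ O) : Odd (orderOf o) :=
  hW.oddO.of_dvd_nat (orderOf_dvd_natCard _ ho)

theorem fv (t u : F4) : f t * D.xv u = D.xv u * f t := hW.fU t _ (xv_U u)

theorem rr (s t : F4) : r s * r t = r t * r s := by rw [← hW.r_add, ← hW.r_add, add_comm]

theorem rv (s u : F4) : r s * D.xv u = D.xv u * r s := by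
  have h1 := hW.fr 1 (u + s)
  rw [hW.r_add, ← mul_assoc, hW.fr, mul_assoc _ (f 1), hW.fr, ← mul_assoc, mul_left_inj, mul_one,
    mul_one, mul_one, hF.rel.vv, ← mul_assoc, ← mul_assoc, mul_left_inj, mul_assoc, mul_assoc,
    mul_right_inj] at h1
  exact h1.symm

theorem v_R {x : F4} (h : D.xv x ∈ R) : x = 0 := by
  obtain ⟨s, e⟩ := (hW.r_mem _).1 h
  have h1 := hW.fr 1 s
  rw [e, fv hF hW, mul_left_inj, left_eq_mul, mul_one] at h1
  rw [v_eq_one hF.rel h1, one_of_add hW.r_add] at e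
  exact v_eq_one hF.rel e.symm

theorem r_type (s : F4) : (∃ k ∈ D.K, ∃ u ∈ D.U, r s = k * u) ∨ ∃ l m a a', l * m = 1 ∧
    ∀ t, r s * D.xe t * (r s)⁻¹ = D.xb (l * t) * D.xv (a * t) ∧
      r s * D.xb t * (r s)⁻¹ = D.xe (m * t) * D.xv (a' * t) := by
  obtain ⟨l, m, a, a', lm, ⟨e, k⟩ | e⟩ := cV hF (hW.nR (le_normalizer (rR hF hW s))) (rv hF hW s)
  · refine Or.inl (k ?_)
    have h1 : r s * (r s * D.xe 1 * (r s)⁻¹) * (r s)⁻¹ = D.xe 1 * D.xv 0 := by
      rw [v0 hF.rel, mul_one, inv_of_add hW.r_add, ← mul_assoc, ← mul_assoc, sq_of_add hW.r_add,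
        one_mul, mul_assoc, sq_of_add hW.r_add, mul_one]
    rw [e, ← conj_mul, e, rv hF hW, mul_inv_cancel_right, mul_assoc, ← hF.rel.vv] at h1
    have h2 := fe_inj hF h1
    revert h2
    generalize l = l
    revert l
    decide
  · exact Or.inr ⟨l, m, a, a', lm, e⟩

theorem nE' {y : G} (hy : ∀ s, ∃ x, r s * y * (r s)⁻¹ = y * D.xv x) :
    ∃ τ, ∀ s x, r s * y * (r s)⁻¹ = y * D.xv x → x = s * τ := by
  have k : ∀ {s x}, r s * y * (r s)⁻¹ = y * D.xv x → y⁻¹ * r s * y⁻¹⁻¹ = r s * D.xv x := fun e => by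
    rw [rv hF hW, inv_inv, mul_assoc, inv_mul_eq_iff_eq_mul, ← mul_assoc, ← e, inv_mul_cancel_right]
  obtain ⟨τ, e⟩ := hW.nE y⁻¹ fun s => (hy s).elim fun x e => ⟨s, x, k e⟩
  refine ⟨τ, fun s x e' => f4_eq (v_R hF hW ?_)⟩
  have h1 := (mem_normalizer_iff.1 e _).1 (rR hF hW s)
  have h2 : (f τ)⁻¹ * y⁻¹ * r s * ((f τ)⁻¹ * y⁻¹)⁻¹ = r s * D.xv (x + s * τ) := by
    calc _ = (f τ)⁻¹ * (y⁻¹ * r s * y⁻¹⁻¹) * f τ := by group
      _ = _ := by
        rw [k e', mul_assoc, inv_mul_eq_iff_eq_mul, ← mul_assoc, hW.fr, mul_assoc, mul_assoc,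
          mul_assoc, fv hF hW, ← mul_assoc (D.xv _), ← hF.rel.vv, add_comm x, ← add_assoc, f4_add,
          zero_add]
  rwa [h2, R.mul_mem_cancel_left (rR hF hW s)] at h1

theorem r_KU (s : F4) : ∃ k ∈ D.K, ∃ u ∈ D.U, r s = k * u := by
  have h := hF.rel
  refine (r_type hF hW s).elim id fun ⟨l, m, a, a', lm, e⟩ => ?_
  have l0 : l ≠ 0 := left_ne_zero_of_mul_eq_one lm
  have s0 : s ≠ 0 := by
    rintro rfl
    have := (e 1).1
    rw [one_of_add hW.r_add, one_mul, inv_one, mul_one, ← mul_one (D.xe 1), ← v0 h] at this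
    exact one_ne_zero (eb_ne hF this)
  obtain ⟨s₀, hs, k, hk, u, hu, e0⟩ : ∃ s₀, (s₀ = om * s ∨ s₀ = om ^ 2 * s) ∧
      ∃ k ∈ D.K, ∃ u ∈ D.U, r s₀ = k * u := by
    rcases r_type hF hW (om * s) with h1 | ⟨l1, m1, a1, a1', lm1, e1⟩
    · exact ⟨_, Or.inl rfl, h1⟩
    refine (r_type hF hW (om ^ 2 * s)).elim (fun h1 => ⟨_, Or.inr rfl, h1⟩)
      fun ⟨l2, m2, a2, a2', lm2, e2⟩ => ?_
    have h2 := (e2 1).1
    have h3 : r s * r (om * s) * D.xe 1 * (r s * r (om * s))⁻¹ =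
      r s * (r (om * s) * D.xe 1 * (r (om * s))⁻¹) * (r s)⁻¹ := by group
    rw [show om ^ 2 * s = s + om * s by rw [show om ^ 2 = 1 + om by decide]; ring, hW.r_add, h3,
      (e1 1).1, ← conj_mul, (e _).2, rv hF hW, mul_inv_cancel_right, mul_assoc, ← h.vv] at h2
    have h4 := eb_ne hF h2
    simp [left_ne_zero_of_mul_eq_one lm1, right_ne_zero_of_mul_eq_one lm] at h4
  obtain ⟨b, b', hb⟩ := u_conj hF hu
  have c1 : ∀ t, r s * (D.xe t * D.xb (l * t)) * (r s)⁻¹ =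
      D.xe t * D.xb (l * t) * D.xv (l * t * t + a * t + a' * (l * t)) := fun t => by
    rw [← conj_mul, (e _).1, (e _).2, ← mul_assoc m, mul_comm m, lm, one_mul, h.vv, h.vv,
      mul_assoc, sw (h.ev _ _).symm, ← mul_assoc, h.be, mul_assoc (D.xe t), ← h.bv]
    simp only [mul_assoc]
  have c2 : ∀ t, r s₀ * (D.xe t * D.xb (l * t)) * (r s₀)⁻¹ =
      D.xe t * D.xb (l * t) * D.xv (b * t + b' * (l * t)) := fun t => by
    have uA := U_A h (mul_mem (mul_mem hu (mul_mem (xe_U t) (xb_U (l * t)))) (inv_mem hu))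
    calc _ = k * (u * (D.xe t * D.xb (l * t)) * u⁻¹) * k⁻¹ := by rw [e0]; group
      _ = _ := by
        rw [← K_comm hk uA, mul_inv_cancel_right, ← conj_mul, (hb _).1, (hb _).2, h.vv,
          mul_assoc, mul_assoc, sw (h.bv _ _).symm]
  have key : ∀ t, (l * t * t + a * t + a' * (l * t)) * s₀ = (b * t + b' * (l * t)) * s := fun t => by
    obtain ⟨τ, hτ⟩ := nE' hF hW (y := D.xe t * D.xb (l * t)) fun s' => by
      have : s' = 0 ∨ s' = s ∨ s' = s₀ ∨ s' = s + s₀ := by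
        clear * - hs s0
        revert s s' s₀
        decide
      rcases this with rfl | rfl | rfl | rfl
      · exact ⟨0, by simp [one_of_add hW.r_add, v0 h]⟩
      · exact ⟨_, c1 t⟩
      · exact ⟨_, c2 t⟩
      · refine ⟨l * t * t + a * t + a' * (l * t) + (b * t + b' * (l * t)), ?_⟩
        calc _ = r s * (r s₀ * (D.xe t * D.xb (l * t)) * (r s₀)⁻¹) * (r s)⁻¹ := by
              rw [hW.r_add]; group
          _ = _ := by rw [c2, ← conj_mul, c1, rv hF hW, mul_inv_cancel_right, mul_assoc, ← h.vv]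
    rw [hτ _ _ (c1 t), hτ _ _ (c2 t)]
    ring
  have h5 : l * s₀ * (om * om + om) = 0 := by
    linear_combination key om - om * key 1 + f4_add (l * s₀ * om)
  rw [show om * om + om = 1 by decide, mul_one] at h5
  have : om ≠ 0 := by decide
  rcases hs with rfl | rfl <;> simp [*] at h5

theorem rK (s : F4) : r s ∈ D.K := by
  obtain ⟨k, hk, p, hp, e⟩ := r_KU hF hW s
  have pA := U_A hF.rel hp
  have kr : ∀ x ∈ R, k * x = x * k := fun x hx => by
    obtain ⟨t, rfl⟩ := (hW.r_mem x).1 hx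
    obtain ⟨k', hk', p', hp', e'⟩ := r_KU hF hW t
    have pA' := U_A hF.rel hp'
    have h1 := rr hF hW s t
    rw [e, e'] at h1
    have h2 : (k' * k)⁻¹ * (k * k') = p' * p * (p * p')⁻¹ := by
      rw [inv_mul_eq_iff_eq_mul, ← mul_assoc, eq_mul_inv_iff_mul_eq]
      calc k * k' * (p * p') = k * p * (k' * p') := by
            rw [mul_assoc, mul_assoc, sw (K_comm hk' pA)]
        _ = k' * p' * (k * p) := h1
        _ = _ := by rw [mul_assoc, mul_assoc, sw (K_comm hk pA')]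
    have h3 := hF.par.AK _ (h2 ▸ mul_mem (mul_mem pA' pA) (inv_mem (mul_mem pA pA')))
      (mul_mem (inv_mem (mul_mem hk' hk)) (mul_mem hk hk'))
    rw [e']
    exact cmul (inv_mul_eq_one.1 h3).symm (K_comm hk pA').symm
  obtain ⟨x, hx, o, ho, e2⟩ := hW.cKR k hk kr
  obtain ⟨t, rfl⟩ := (hW.r_mem x).1 hx
  have tK : r t ∈ D.K := by
    rw [eq_mul_inv_of_mul_eq e2.symm]; exact mul_mem hk (inv_mem (hW.OK ho))
  have h4 : r (t + s) = o * p := by
    rw [hW.r_add, e, e2, mul_assoc, ← mul_assoc, sq_of_add hW.r_add, one_mul]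
  have h5 := hW.fr 1 (t + s)
  rw [h4, cmul (hW.fI o (hW.OK ho) (O_odd hF hW ho) ⟨1, one_ne_zero, hW.OR o ho _ (rR hF hW 1)⟩ 1)
    (hW.fU 1 p hp), mul_left_inj, mul_one, left_eq_mul] at h5
  exact f4_eq (v_eq_one hF.rel h5) ▸ tK

theorem rA (s : F4) {a : G} (ha : a ∈ D.A) : a * r s = r s * a := K_comm (rK hF hW s) ha

theorem fO (t : F4) {o : G} (ho : o ∈ O) : f t * o = o * f t :=
  hW.fI o (hW.OK ho) (O_odd hF hW ho) ⟨1, one_ne_zero, hW.OR o ho _ (rR hF hW 1)⟩ t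

end Cfsg.Agent.H84.ALW
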