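import Cfsg.Agent.H42.ALDefs2
import Cfsg.Agent.H84.AlWB

/-! Project AL, rank one: coordinates on `Us` and the action of standard-form elements. -/

set_option autoImplicit false
set_option linter.unusedSectionVars false

namespace Cfsg.Agent.H84.ALR

open Cfsg Subgroup Cfsg.Agent.H28 Cfsg.Agent.H42.AL Cfsg.Agent.H84.ALW
open Cfsg.Agent.H42.AS (om)
open Cfsg.Agent.H72.ASB (f4_cases f4_add om_fix one_of_add sq_of_add inv_of_add mem_closure_range
  conj_of_eq conj_closure)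
open Cfsg.Agent.H84.AW (sw cmul cinv conj_comm conj_comm')
open scoped commutatorElement

universe u

variable {G : Type u} [Group G] [Finite G] {D : RD G} {t : G} {O : Subgroup G} {f : F4 → G}
  {c c0 : F4}

theorem p_add (a : F4 × F4) : a + a = 0 := Prod.ext (f4_add _) (f4_add _)

theorem p_eq {a b : F4 × F4} (h : a + b = 0) : a = b := by
  rw [← add_zero a, ← p_add b, ← add_assoc, h, zero_add]

theorem rm_comm (c0 : F4) (a b : F4 × F4) : rm c0 a b = rm c0 b a := by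
  ext <;> simp only [rm] <;> ring

theorem rm_zero (c0 : F4) (a : F4 × F4) : rm c0 a 0 = 0 := by ext <;> simp [rm]

theorem zero_rm (c0 : F4) (a : F4 × F4) : rm c0 0 a = 0 := by ext <;> simp [rm]

theorem sc_sc (l m : F4) (a : F4 × F4) : sc l (sc m a) = sc (l * m) a := by
  simp only [sc, mul_assoc]

theorem one_sc (a : F4 × F4) : sc 1 a = a := by simp [sc]

theorem f4_ind {P : F4 → Prop} (h1 : P 1) (hs : ∀ l, P l → P (om * l)) {l : F4} (hl : l ≠ 0) :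
    P l := by
  rcases f4_cases l with rfl | rfl | rfl | rfl
  · exact absurd rfl hl
  · exact h1
  · simpa using hs 1 h1
  · simpa [sq] using hs _ (hs 1 h1)

theorem pw_mul (fr : Bool) (a b : F4) : pw fr (a * b) = pw fr a * pw fr b := by
  cases fr <;> simp [pw, mul_pow]

theorem pw_sq (fr : Bool) (a : F4) : pw fr (a ^ 2) = pw fr a ^ 2 := by rw [sq, sq, pw_mul]

theorem pw_zero (fr : Bool) : pw fr 0 = 0 := by cases fr <;> simp [pw]

theorem pw_one (fr : Bool) : pw fr 1 = 1 := by cases fr <;> simp [pw]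

/-- The normal form in `Us`. -/
def Nf (D : RD G) (f : F4 → G) (a b c : F4 × F4) : G := Ee D f a * Ee D.swap f b * Vv D f c

theorem Ee_Us (a : F4 × F4) : Ee D f a ∈ Us D f := subset_closure (by simp)
theorem Bb_Us (a : F4 × F4) : Ee D.swap f a ∈ Us D f := subset_closure (by simp)
theorem Vv_Us (a : F4 × F4) : Vv D f a ∈ Us D f := subset_closure (by simp)
theorem Nf_Us (a b c : F4 × F4) : Nf D f a b c ∈ Us D f :=
  mul_mem (mul_mem (Ee_Us a) (Bb_Us b)) (Vv_Us c)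

theorem swap_Us : Us D.swap f = Us D f := by
  simp only [Us, Set.union_comm (Set.range (Ee D.swap f))]
  rfl

/-- The Weyl elements `w(l)`. -/
def wb (D : RD G) (l : F4) : G := D.xb l * (D.nb * D.xb (l ^ 2) * D.nb) * D.xb l

theorem St_wb {D' : RD G} {g : G} {l m : F4} {fr : Bool} (e : D.St D' g l m fr) (a : F4) :
    g * wb D a * g⁻¹ = wb D' (m * pw fr a) := by
  rw [wb, ← conj_mul, ← conj_mul, e.b, e.b', wb, mul_pow, pw_sq]

section rel
variable (h : D.Rel)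
include h

theorem nb_inv : D.nb⁻¹ = D.nb := inv_eq_of_mul_eq_one_right h.nb2

theorem wb_one : wb D 1 = D.nb := by
  have h1 := h.nb3
  rw [pow_three, ← mul_assoc, mul_eq_one_iff_eq_inv, mul_inv_rev, inv_of_add h.bb, nb_inv h] at h1
  rw [wb, one_pow, mul_assoc, mul_assoc (_ * _), h1, ← mul_assoc, sq_of_add h.bb, one_mul]

theorem wb_rho (l : F4) : D.rho * wb D l * D.rho⁻¹ = wb D (om * l) := by
  have h1 : D.rho * D.nb = D.nb * D.rho ^ 2 := by
    rw [← h.nbr, ← mul_assoc, ← mul_assoc, h.nb2, one_mul]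
  have h2 : D.rho ^ 2 * D.nb = D.nb * D.rho := by rw [← h.nbr, mul_assoc, h.nb2, mul_one]
  have h3 : D.rho * (D.nb * D.xb (l ^ 2) * D.nb) = D.nb * D.xb ((om * l) ^ 2) * D.nb * D.rho := by
    rw [← mul_assoc, ← mul_assoc, h1, mul_assoc _ _ D.rho, ← h2, sq D.rho, mul_assoc D.nb,
      mul_assoc D.rho, h.rb, ← mul_assoc D.rho, h.rb, mul_pow, sq om]
    simp only [mul_assoc]
  rw [wb, ← conj_mul, ← conj_mul, conj_of_eq (h.rb l), conj_of_eq h3, wb]

theorem rho_wb {l : F4} (hl : l ≠ 0) : wb D (om ^ 2 * l) = D.rho * wb D l := by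
  have h0 : ∀ {l : F4}, l ≠ 0 → wb D l * D.rho = D.rho ^ 2 * wb D l := fun hl => by
    refine f4_ind (P := fun l => wb D l * D.rho = D.rho ^ 2 * wb D l) ?_ (fun l e => ?_) hl
    · rw [wb_one h, ← h.nbr, mul_assoc, h.nb2, mul_one]
    · rw [← wb_rho h, inv_mul_cancel_right, eq_mul_inv_of_mul_eq e]
      calc _ = D.rho ^ 2 * (D.rho * (wb D l * D.rho * D.rho⁻¹) * D.rho⁻¹) := by group
        _ = _ := by rw [e]
  have h1 : D.rho⁻¹ * D.rho⁻¹ = D.rho := by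
    rw [← mul_one (_ * _), ← h.r3]; group
  calc _ = D.rho * D.rho * wb D l * (D.rho⁻¹ * D.rho⁻¹) := by
        rw [sq, mul_assoc om, ← wb_rho h, ← wb_rho h]; group
    _ = D.rho ^ 3 * (D.rho * wb D l) := by rw [h1, mul_assoc, h0 hl]; group
    _ = _ := by rw [h.r3, one_mul]

theorem St_rho {D' : RD G} (h' : D'.Rel) {g : G} {l m : F4} (e : D.St D' g l m false) :
    g * D.rho * g⁻¹ = D'.rho := by
  rw [eq_mul_inv_of_mul_eq (rho_wb h one_ne_zero).symm, eq_mul_inv_of_mul_eq (rho_wb h' e.m0).symm,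
    ← conj_mul, ← conj_inv, St_wb e, St_wb e]
  simp [pw, mul_comm m]

theorem nb_V (x : F4 × F4) : D.nb * Vv D f x * D.nb⁻¹ = Ee D f x := by
  rw [Vv, ← conj_mul, ← conj_of_eq (h.nbe _), nb_inv h, Ee, sE]
  simp only [← mul_assoc, h.nb2, one_mul, mul_assoc _ D.nb D.nb, mul_one]

end rel

section rq
variable (hQ : RQ D t O f c0)
include hQ

theorem E0 : Ee D f 0 = 1 := by simpa using hQ.EE 0 0
theorem B0 : Ee D.swap f 0 = 1 := by simpa using hQ.BB 0 0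
theorem V0 : Vv D f 0 = 1 := by simpa using hQ.VV 0 0
theorem V_sq (x : F4 × F4) : Vv D f x * Vv D f x = 1 := by rw [← hQ.VV, p_add, V0 hQ]
theorem V_inv (x : F4 × F4) : (Vv D f x)⁻¹ = Vv D f x := inv_eq_of_mul_eq_one_right (V_sq hQ x)

theorem V_inj {x y : F4 × F4} (e : Vv D f x = Vv D f y) : x = y :=
  p_eq (hQ.nf 0 0 _ (by rw [E0 hQ, B0 hQ, hQ.VV, e, V_sq hQ]; simp)).2.2

theorem V_comm (x y : F4 × F4) : Vv D f x * Vv D f y = Vv D f y * Vv D f x := by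
  rw [← hQ.VV, ← hQ.VV, add_comm]

theorem Nf_mul (a b x a' b' x' : F4 × F4) : Nf D f a b x * Nf D f a' b' x' =
    Nf D f (a + a') (b + b') (rm c0 a' b + x + x') := by
  simp only [Nf, hQ.EE, hQ.BB, hQ.VV, mul_assoc]
  rw [sw (hQ.EV a' x).symm, sw (hQ.BV b' x).symm, ← mul_assoc (Ee D.swap f b), hQ.BE, mul_assoc,
    mul_assoc, sw (hQ.BV b _).symm, sw (hQ.BV b' _).symm]

theorem Nf_V (x : F4 × F4) : Nf D f 0 0 x = Vv D f x := by rw [Nf, E0 hQ, B0 hQ, one_mul, one_mul]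

theorem Nf_E (x : F4 × F4) : Nf D f x 0 0 = Ee D f x := by rw [Nf, V0 hQ, B0 hQ, mul_one, mul_one]

theorem Nf_B (x : F4 × F4) : Nf D f 0 x 0 = Ee D.swap f x := by
  rw [Nf, V0 hQ, E0 hQ, mul_one, one_mul]

theorem Nf_inj {a b x a' b' x' : F4 × F4} (e : Nf D f a b x = Nf D f a' b' x') :
    a = a' ∧ b = b' ∧ x = x' := by
  have h1 := Nf_mul hQ a b x a' b' (rm c0 a' b' + x')
  rw [e, Nf_mul hQ, p_add, p_add, p_add, Nf_V hQ, V0 hQ] at h1
  obtain ⟨h2, h3, h4⟩ := hQ.nf _ _ _ h1.symm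
  obtain rfl := p_eq h2
  obtain rfl := p_eq h3
  exact ⟨rfl, rfl, p_eq (by rw [← h4, add_add_add_comm, p_add, zero_add])⟩

theorem Us_V {y : G} (hy : y ∈ Us D f) (x : F4 × F4) : y * Vv D f x = Vv D f x * y := by
  obtain ⟨a, b, c, rfl⟩ := hQ.unf y hy
  exact (cmul (cmul (hQ.EV a x).symm (hQ.BV b x).symm) (V_comm hQ _ _)).symm

theorem Us_comm {y z : G} (hy : y ∈ Us D f) (hz : z ∈ Us D f) : ∃ x, ⁅y, z⁆ = Vv D f x := by
  obtain ⟨a, b, x, rfl⟩ : ∃ a b x, y = Nf D f a b x := hQ.unf y hy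
  obtain ⟨a', b', x', rfl⟩ : ∃ a b x, z = Nf D f a b x := hQ.unf z hz
  refine ⟨rm c0 a' b + rm c0 a b', ?_⟩
  rw [commutatorElement_def, mul_inv_eq_iff_eq_mul, mul_inv_eq_iff_eq_mul, ← Nf_V hQ, Nf_mul hQ,
    Nf_mul hQ, Nf_mul hQ, rm_zero, zero_add, zero_add, zero_add, add_comm a, add_comm b]
  congr 1
  linear_combination -p_add (rm c0 a b')

theorem Us_four {y : G} (hy : y ∈ Us D f) : y ^ 2 ^ 2 = 1 := by
  obtain ⟨a, b, x, rfl⟩ : ∃ a b x, y = Nf D f a b x := hQ.unf y hy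
  rw [sq 2, pow_mul, sq, sq, Nf_mul hQ, p_add, p_add, Nf_V hQ, V_sq hQ]

theorem EB (a b : F4 × F4) :
    Ee D f b * Ee D.swap f a = Ee D.swap f a * Vv D f (rm c0 a b) * Ee D f b := by
  rw [← Nf_E hQ, ← Nf_B hQ, ← Nf_V hQ, Nf_mul hQ, Nf_mul hQ, Nf_mul hQ]
  simp only [zero_rm, add_zero, zero_add, rm_comm c0 a, p_add]

theorem rq_swap (h : D.Rel) : RQ D.swap t O f c0 := by
  refine ⟨hQ.BB, hQ.EE, hQ.VV, hQ.BV, hQ.EV, EB hQ, fun a b x e => ?_, ?_, ?_, hQ.tB, hQ.tE, hQ.tV,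
    ?_, ?_, ?_, ?_, ?_, ?_, ?_⟩ <;> try simp only [swap_Us, swap_U, swap_rho h]
  · change Ee D.swap f a * Ee D f b * Vv D f x = 1 at e
    rw [hQ.BE, mul_assoc (Ee D f b), ← hQ.BV, ← mul_assoc, mul_assoc _ (Vv D f _), ← hQ.VV] at e
    obtain ⟨h1, h2, h3⟩ := hQ.nf _ _ _ e
    exact ⟨h2, h1, by simpa [h2, rm_zero] using h3⟩
  · intro y hy
    obtain ⟨a, b, x, rfl⟩ := hQ.unf y hy
    refine ⟨b, a, rm c0 b a + x, ?_⟩
    change _ = Ee D.swap f b * Ee D f a * Vv D f _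
    rw [EB hQ, hQ.VV, mul_assoc (Ee D.swap f b), ← hQ.EV]
    simp only [mul_assoc]
  exacts [hQ.card, hQ.rB, hQ.rE, hQ.rV, hQ.OU, hQ.inv, hQ.charV, hQ.charU]

theorem wb_V (h : D.Rel) {l : F4} (hl : l ≠ 0) (x : F4 × F4) :
    wb D l * Vv D f x * (wb D l)⁻¹ = Ee D f (sc (l ^ 2) x) := by
  revert x
  refine f4_ind (P := fun l => ∀ x, wb D l * Vv D f x * (wb D l)⁻¹ = Ee D f (sc (l ^ 2) x))
    (fun x => ?_) (fun l e x => ?_) hl
  · rw [wb_one h, nb_V h, one_pow, one_sc]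
  · have h1 : Vv D f x = D.rho * Vv D f (sc om x) * D.rho⁻¹ := by
      rw [conj_of_eq (hQ.rV _), sc_sc, show om ^ 2 * om = 1 by decide, one_sc]
    rw [← wb_rho h, h1, conj_inv, conj_mul, conj_mul, e, conj_of_eq (hQ.rE _), sc_sc, sc_sc]
    congr 2
    ring

end rq

theorem act_e (h : D.Rel) {D' : RD G} (h' : D'.Rel) (hQ' : RQ D' t O f c0) {g : G} {l m : F4}
    {fr : Bool} (e : D.St D' g l m fr) {x y : F4 × F4}
    (hv : g * Vv D f x * g⁻¹ = Vv D' f (sc (l * m) y)) : g * Ee D f x * g⁻¹ = Ee D' f (sc l y) := by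
  rw [← nb_V h, ← conj_mul, ← conj_mul, ← conj_inv, hv, ← wb_one h, St_wb e, pw_one, mul_one,
    wb_V hQ' h' e.m0, sc_sc]
  congr 2
  linear_combination l * cube e.m0

section
variable (hF : D.Fa) (hP : RP D t O) (hA : RA D t O f c) (hQ : RQ D t O f c0)
include hF hP

theorem tA : t ∉ D.A := fun h => hP.t1 (hF.par.AK t h hP.tK)

theorem t_A {a : G} (ha : a ∈ D.A) : a * t = t * a := K_comm hP.tK ha

include hA

theorem V_v (x : F4) : Vv D f (x, 0) = D.xv x := by rw [Vv, hA.f0, mul_one]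

theorem E_e (x : F4) : Ee D f (x, 0) = D.xe x := by
  rw [Ee, sE, hA.f0, mul_one, hF.rel.nb2, mul_one]

theorem B_b (x : F4) : Ee D.swap f (x, 0) = D.xb x := by
  rw [Ee, sE, hA.f0, mul_one, (rel_swap hF.rel).nb2, mul_one]; rfl

theorem U_Us : D.U ≤ Us D f :=
  U_ind (fun x => E_e hF hP hA x ▸ Ee_Us _) (fun x => B_b hF hP hA x ▸ Bb_Us _)
    fun x => V_v hF hP hA x ▸ Vv_Us _

include hQ

theorem V_t (x : F4 × F4) : Vv D f x * t * (Vv D f x)⁻¹ = t * D.xv x.2 := by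
  rw [V_inv hQ, mul_assoc, hQ.tV, ← mul_assoc, ← hQ.VV, ← V_v hF hP hA, hQ.tV]
  congr 2
  ext <;> simp [tw, pw, ← add_assoc, f4_add]

theorem tV_sq {x : F4 × F4} (e : t * Vv D f x * (t * Vv D f x) = 1) : x.2 = 0 := by
  have h1 := V_t hF hP hA hQ x
  rw [V_inv hQ] at h1
  rw [mul_assoc, ← mul_assoc _ t, h1, ← mul_assoc, hP.t2, one_mul] at e
  exact v_eq_one hF.rel e

theorem act0 {D' : RD G} (h' : D'.Rel) (hQ' : RQ D' t O f c0) (hv : D'.xv = D.xv) (hU : D'.U = D.U)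
    {g : G} {l m : F4} {fr : Bool} (gt : g * t = t * g) (e : D.St D' g l m fr) :
    ∃ a0, Ac D D' f c0 g l m fr a0 := by
  have h := hF.rel
  have lm : l * m ≠ 0 := mul_ne_zero e.l0 e.m0
  have gU : g ∈ normalizer (D.U : Set G) := mem_normalizer_fintype (conj_closure (by
    rintro _ ((⟨x, rfl⟩ | ⟨x, rfl⟩) | ⟨x, rfl⟩)
    exacts [e.e x ▸ hU ▸ xe_U _, e.b x ▸ hU ▸ xb_U _, e.v x ▸ hU ▸ xv_U _]))
  have h1 : ∀ x, ∃ α, g * f x * g⁻¹ = Vv D f (l * m * α, l * m * pw fr x) := fun x => by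
    have f2 : f x * f x = 1 := by simpa [Vv, v0 h] using V_sq hQ (0, x)
    have g2 : g * f x * g⁻¹ * (g * f x * g⁻¹) = 1 := by rw [conj_mul, f2]; simp
    have ft : g * f x * g⁻¹ * t * (g * f x * g⁻¹)⁻¹ = t * D.xv (l * m * pw fr x) := by
      rw [← hv, ← e.v, ← conj_of_eq gt, conj_inv, conj_mul, conj_mul, conj_mul, conj_of_eq (hA.ft x)]
    obtain ⟨y, e1 | e1⟩ := hQ.charV (g * f x * g⁻¹) ⟨1, by rw [pow_one, sq, g2]⟩ (fun u hu => by
      have := conj_comm (g := g) (hA.fU x _ ((mem_normalizer_iff''.1 gU u).1 hu))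
      simpa [mul_assoc] using this) ⟨_, ft⟩
    · rw [e1, V_t hF hP hA hQ, mul_right_inj] at ft
      refine ⟨(l * m) ^ 2 * y.1, ?_⟩
      rw [e1, ← v_inj h ft, ← mul_assoc, ← pow_succ', cube lm, one_mul]
    · exfalso
      rw [e1] at g2
      have y2 := tV_sq hF hP hA hQ g2
      have e2 : g * f x * g⁻¹ = t * D.xv y.1 := by rw [e1, ← V_v hF hP hA, ← y2]
      rw [e2, mul_assoc t, t_A hF hP (xv_A h _), ← mul_assoc, hP.t2, one_mul, mul_inv_rev,
        mul_inv_cancel_left, inv_eq_of_mul_eq_one_right hP.t2, left_eq_mul] at ft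
      have x0 : x = 0 := by
        have := (mul_eq_zero.1 (v_eq_one h ft)).resolve_left lm
        revert this; cases fr <;> simp [pw]
      rw [x0, hA.f0, mul_one, mul_inv_cancel, eq_comm, mul_eq_one_iff_eq_inv] at e2
      exact tA hF hP (e2 ▸ inv_mem (xv_A h _))
  choose α hα using h1
  have h2 : ∀ x : F4 × F4, g * Vv D f x * g⁻¹ =
      Vv D f (sc (l * m) (pw fr x.1 + α x.2, pw fr x.2)) := fun x => by
    rw [Vv, ← conj_mul, e.v, hα, hv, Vv, ← mul_assoc, ← h.vv, ← mul_add]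
    rfl
  have VV' : ∀ x, Vv D' f x = Vv D f x := fun x => by rw [Vv, hv, Vv]
  have h3 := fun x => act_e h h' hQ' e ((h2 x).trans (VV' _).symm)
  have h4 := fun x => act_e (rel_swap h) (rel_swap h') (rq_swap hQ' h') (St_swap e)
    ((h2 x).trans (by rw [mul_comm l]; exact (VV' _).symm))
  have h5 : ∀ a b, rm c0 (sc l (pw fr a.1 + α a.2, pw fr a.2)) (sc m (pw fr b.1 + α b.2, pw fr b.2)) =
      sc (l * m) (pw fr (rm c0 a b).1 + α (rm c0 a b).2, pw fr (rm c0 a b).2) := fun a b => by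
    have := congrArg (fun y => g * y * g⁻¹) (hQ.BE a b)
    beta_reduce at this
    rw [← conj_mul, ← conj_mul, ← conj_mul, h2, h3, h4, hQ'.BE, mul_left_inj, mul_right_inj, VV'] at this
    exact V_inj hQ this
  have α0 : α 0 = 0 := by
    have := hα 0
    rw [hA.f0, mul_one, mul_inv_cancel, ← V0 hQ] at this
    exact (mul_eq_zero.1 (congrArg Prod.fst (V_inj hQ this)).symm).resolve_left lm
  have αx : ∀ x, α x = α 1 * pw fr x := fun x => mul_left_cancel₀ lm (by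
    have := congrArg Prod.fst (h5 (x, 0) (0, 1))
    simp [rm, sc, pw_zero, α0] at this
    linear_combination -this)
  simp only [αx (Prod.snd _)] at h2 h3 h4
  refine ⟨α 1, e, mul_left_cancel₀ lm ?_, h3, h4, h2⟩
  have := congrArg Prod.fst (h5 (0, 1) (0, 1))
  simp [rm, sc, pw_zero, pw_one] at this
  linear_combination this + f4_add (l * m * α 1) - f4_add (l * m * c0)

theorem act (D' : RD G) (hD : D' = D ∨ D' = D.swap) (g : G) (l m : F4) (fr : Bool)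
    (gt : g * t = t * g) (e : D.St D' g l m fr) : ∃ a0, Ac D D' f c0 g l m fr a0 := by
  rcases hD with rfl | rfl
  · exact act0 hF hP hA hQ hF.rel hQ rfl rfl gt e
  · exact act0 hF hP hA hQ (rel_swap hF.rel) (rq_swap hQ hF.rel) rfl swap_U gt e

end

end Cfsg.Agent.H84.ALR
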