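import Cfsg.Agent.H70.HJ2
import Cfsg.Agent.H49.Syl
import Cfsg.Agent.H2.MacW
import Cfsg.Agent.H4.Coprime
import Cfsg.Agent.S5911

/-!
# Involution centralizer `(D₈ * Q₈).S₄`: a frame of five involutions with a fixed member
-/

set_option autoImplicit false
set_option linter.unusedSimpArgs false

namespace Cfsg.Agent.H84.Chz

open Subgroup Cfsg.Agent.H44 Cfsg.Agent.H49 Cfsg.Agent.H70 Equiv

variable {G : Type*} [Group G]

theorem exists_ea8 {X : Type*} [Group X] [Finite X] {a b c : X} (aa : a * a = 1) (bb : b * b = 1)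
    (cc : c * c = 1) (ab : a * b = b * a) (ac : a * c = c * a) (bc : b * c = c * b) (h1 : a ≠ 1)
    (h2 : b ∉ zpowers a) (h3 : c ∉ zpowers a) (h4 : b * c ∉ zpowers a) :
    ∃ A : Subgroup X, IsElementaryAbelian 2 A ∧ Nat.card A = 8 := by
  have : Fact (Nat.Prime 2) := ⟨Nat.prime_two⟩
  let V : Subgroup X := closure {a, b, c}
  have hc : ∀ u ∈ V, ∀ v ∈ V, u * v = v * u := by
    have : IsMulCommutative V := isMulCommutative_closure (by
      rintro u (rfl | rfl | rfl) v (rfl | rfl | rfl) <;> first | rfl | assumption | (symm; assumption))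
    exact fun u hu v hv => congrArg Subtype.val (mul_comm' (⟨u, hu⟩ : V) ⟨v, hv⟩)
  have hs : ∀ u ∈ V, u * u = 1 := by
    intro u hu
    induction hu using closure_induction with
    | mem u hu => rcases hu with rfl | rfl | rfl <;> assumption
    | one => simp
    | mul u v hu hv h1 h2 => rw [mul_assoc, ← mul_assoc v, hc v hv u hu, mul_assoc, h2, mul_one, h1]
    | inv u _ h1 => rw [← mul_inv_rev, h1, inv_one]
  have ma : a ∈ V := subset_closure (by simp)
  have mb : b ∈ V := subset_closure (by simp)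
  have mc : c ∈ V := subset_closure (by simp)
  have hn : zpowers b ≤ normalizer (zpowers a : Set X) := zpowers_le.2
    (centralizer_le_normalizer _ (by
      rw [centralizer_zpowers']; exact mem_centralizer_singleton_iff.2 ab.symm))
  have c1 := H2.two_mul_card_le (le_sup_left : zpowers a ≤ zpowers a ⊔ zpowers b)
    (mem_sup_right (mem_zpowers b)) h2
  have c2 := H2.two_mul_card_le (sup_le (zpowers_le.2 ma) (zpowers_le.2 mb)) mc fun hm => by
    obtain ⟨u, hu, v, hv, e⟩ := (H4.mem_sup_iff_of_le_normalizer hn).1 hm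
    rcases (mem_zpowers_invol bb).1 hv with rfl | rfl
    · exact h3 (by rwa [← e, mul_one])
    · refine h4 ?_
      rwa [← e, ← mul_assoc, hc v mb u (zpowers_le.2 ma hu), mul_assoc, bb, mul_one]
  rw [card_zpowers_invol h1 aa] at c1
  obtain ⟨n, hn⟩ := IsPGroup.iff_card.1
    (show IsPGroup 2 V from fun u => ⟨1, Subtype.ext (by simpa [pow_two] using hs u u.2)⟩)
  have h8 : 2 ^ 3 ∣ Nat.card V := by
    rw [hn]
    refine pow_dvd_pow 2 ?_
    by_contra hlt
    have : n ≤ 2 := by omega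
    interval_cases n <;> omega
  obtain ⟨K, hK⟩ := Sylow.exists_subgroup_card_pow_prime 2 h8
  refine ⟨K.map V.subtype, ⟨⟨⟨fun u v => Subtype.ext
    (hc _ (map_subtype_le K u.2) _ (map_subtype_le K v.2))⟩⟩, fun u hu => ?_⟩, ?_⟩
  · rw [pow_two, hs u (map_subtype_le K hu)]
  · rw [card_map_of_injective V.subtype_injective, hK]; rfl

/-- No elementary abelian subgroup of order eight, elementwise. -/
def NE8 (Q : Subgroup G) (z : G) : Prop := ∀ a ∈ Q, ∀ b ∈ Q, a * a = 1 → b * b = 1 →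
  a * b = b * a → a ∈ zpowers z ∨ b ∈ zpowers z ∨ a * b ∈ zpowers z

theorem odd_index [Finite G] {Q : Subgroup G} {z : G} (h : LX Q z) :
    Odd (centralizer ({z} : Set G)).index := by
  have : Fact (Nat.Prime 2) := ⟨Nat.prime_two⟩
  obtain ⟨T, hT⟩ := H98.exists_sylIn 2 (centralizer ({z} : Set G))
  obtain ⟨P, rfl⟩ := (h.sylIn_top hT).exists_sylow_top
  rw [← Nat.not_even_iff_odd, even_iff_two_dvd]
  exact fun e => P.not_dvd_index (e.trans (index_dvd_of_le hT.le))

theorem rot {Q : Subgroup G} {z : G} {x : Fin 5 → G} (F : Frame Q z x) :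
    Frame Q z fun i => x (i + 1) := by
  refine ⟨fun i => F.mem _, fun i => F.sq _, fun i j hij => F.an _ _ (by simpa using hij), ?_,
    fun W hz hW => F.gen W hz fun i => by simpa using hW (i - 1)⟩
  change x 1 * x 2 * x 3 * x 4 * x 0 = 1
  rw [mul_eq_one_comm, ← F.prod]
  simp only [mul_assoc]

section

variable [Finite G] {Q : Subgroup G} {z : G} (h : LX Q z) (hQ : Nat.card Q = 32)
include h hQ

theorem exists_frame (hne : NE8 Q z) : ∃ x, Frame Q z x := by
  obtain ⟨p, hp, pp, p1, pz⟩ := exists_invol h hQ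
  have zz := h.zz
  obtain ⟨q, hq, qq, pq⟩ : ∃ q ∈ Q, q * q = 1 ∧ p * q ≠ q * p := by
    obtain ⟨y, hy, e⟩ := h.exists_not_comm hp p1 pz
    rcases h.sq hy with yy | yy
    · exact ⟨y, hy, yy, e⟩
    · refine ⟨p * y, mul_mem hp hy, ?_, fun c => e ?_⟩
      · rw [mul_assoc, ← mul_assoc y, h.comm_of_ne hy hp (Ne.symm e)]
        simp only [← mul_assoc, pp, one_mul]
        rw [h.cen y hy, mul_assoc, yy, zz]
      · rwa [mul_assoc, mul_right_inj] at c
  have q1 : q ≠ 1 := fun e => pq (by simp [e])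
  have qz : q ≠ z := fun e => pq (by rw [e, h.cen p hp])
  have adj : ∀ y ∈ Q, ∃ b ∈ Q, b * p = p * b ∧ b * q = q * b ∧
      ∀ a, a * p = p * a → a * q = q * a → a * b = b * a → a * y = y * a := by
    intro y hy
    have can : ∀ a u : G, a * u = u * a → a * (y * u) = y * u * a → a * y = y * a :=
      fun a u h1 h2 => by
        rw [mul_assoc y, ← h1, ← mul_assoc, ← mul_assoc] at h2
        exact mul_right_cancel h2
    by_cases c1 : y * p = p * y <;> by_cases c2 : y * q = q * y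
    · exact ⟨y, hy, c1, c2, fun _ _ _ e => e⟩
    · refine ⟨y * p, mul_mem hy hp, ?_, ?_, fun a h1 _ => can a p h1⟩
      · rw [cm_mul h.toXS hy hp hp]; simp [c1]
      · rw [cm_mul h.toXS hy hp hq]; simp [c2, pq]
    · refine ⟨y * q, mul_mem hy hq, ?_, ?_, fun a _ h1 => can a q h1⟩
      · rw [cm_mul h.toXS hy hq hp]; simp [c1, Ne.symm pq]
      · rw [cm_mul h.toXS hy hq hq]; simp [c2]
    · refine ⟨y * (p * q), mul_mem hy (mul_mem hp hq), ?_, ?_, fun a h1 h2 => can a (p * q)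
        (by rw [← mul_assoc, h1, mul_assoc, h2, mul_assoc])⟩
      · rw [cm_mul h.toXS hy (mul_mem hp hq) hp, cm_mul h.toXS hp hq hp]; simp [c1, Ne.symm pq]
      · rw [cm_mul h.toXS hy (mul_mem hp hq) hq, cm_mul h.toXS hp hq hq]; simp [c2, pq]
  obtain ⟨a, ha, ap, aq, az⟩ : ∃ a ∈ Q, a * p = p * a ∧ a * q = q * a ∧ a ∉ zpowers z := by
    by_contra hc
    push Not at hc
    have h1 : (centralizer {p} ⊓ centralizer {q}).relIndex Q ≤ 2 * 2 := by
      rw [← h.relIndex_centralizer hp p1 pz]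
      nth_rw 2 [h.relIndex_centralizer hp p1 pz]
      rw [← h.relIndex_centralizer hq q1 qz]
      exact relIndex_inf_le
    have h2 := card_mul_index ((centralizer {p} ⊓ centralizer {q}).subgroupOf Q)
    have h3 : Nat.card ((centralizer {p} ⊓ centralizer {q}).subgroupOf Q) ≤ 2 := by
      rw [← h.card_Z, ← Nat.card_congr (subgroupOfEquivOfLe h.Z_le).toEquiv]
      exact card_le_of_le fun u hu => hc u u.2 (mem_centralizer_singleton_iff.1 hu.1)
        (mem_centralizer_singleton_iff.1 hu.2)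
    rw [hQ] at h2
    have := Nat.mul_le_mul h3 h1
    rw [relIndex] at this
    omega
  obtain ⟨b, hb, bp, bq, ab⟩ : ∃ b ∈ Q, b * p = p * b ∧ b * q = q * b ∧ a * b ≠ b * a := by
    obtain ⟨y, hy, e⟩ := h.exists_not_comm ha (fun e => az (e ▸ one_mem _))
      fun e => az (e ▸ mem_zpowers _)
    obtain ⟨b, hb, h1, h2, h3⟩ := adj y hy
    exact ⟨b, hb, h1, h2, fun c => e (h3 a ap aq c)⟩
  have sq : ∀ u ∈ Q, u * p = p * u → u * q = q * u → u ∉ zpowers z → u * u = z := by
    intro u hu up uq uz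
    refine (h.sq hu).resolve_left fun uu => ?_
    rcases hne u hu p hp uu pp up with e | e | e
    · exact uz e
    · exact (h.mem_Z.1 e).elim p1 pz
    · have : u * p * q = q * (u * p) := by
        rcases h.mem_Z.1 e with e | e <;> rw [e]
        · simp
        · exact (h.cen q hq).symm
      rw [cm_mul h.toXS hu hp hq] at this
      exact pq (this.1 uq)
  have aa := sq a ha ap aq az
  have bb := sq b hb bp bq fun e => ab (by
    rcases h.mem_Z.1 e with e | e <;> rw [e]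
    · simp
    · exact h.cen a ha)
  have qp := h.comm_of_ne hq hp (Ne.symm pq)
  have ba := h.comm_of_ne hb ha (Ne.symm ab)
  have zp := (h.cen p hp).symm
  have zq := (h.cen q hq).symm
  have za := (h.cen a ha).symm
  have zb := (h.cen b hb).symm
  have L : ∀ {u v w : G}, u * v = w → ∀ y, u * (v * y) = w * y := fun e y => by
    rw [← mul_assoc, e]
  have key : ∀ i j : Fin 5, i ≠ j → ![p, q, p * q * a, p * q * b, p * q * a * b * z] i *
      ![p, q, p * q * a, p * q * b, p * q * a * b * z] j =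
      ![p, q, p * q * a, p * q * b, p * q * a * b * z] j *
      ![p, q, p * q * a, p * q * b, p * q * a * b * z] i * z := by
    intro i j hij
    fin_cases i <;> fin_cases j <;> first | exact absurd rfl hij | simp [mul_assoc, pp, qq, aa, bb,
      zz, qp, ba, zp, zq, za, zb, ap, aq, bp, bq, L pp, L qq, L aa, L bb, L zz, L qp, L ba, L zp,
      L zq, L za, L zb, L ap, L aq, L bp, L bq]
  refine ⟨![p, q, p * q * a, p * q * b, p * q * a * b * z], fun i => ?_, fun i => ?_,
    fun i j hij e => ?_, ?_, fun W hz hW => ?_⟩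
  · fin_cases i
    exacts [hp, hq, mul_mem (mul_mem hp hq) ha, mul_mem (mul_mem hp hq) hb,
      mul_mem (mul_mem (mul_mem (mul_mem hp hq) ha) hb) h.mem]
  · fin_cases i <;> simp [mul_assoc, pp, qq, aa, bb,
      zz, qp, ba, zp, zq, za, zb, ap, aq, bp, bq, L pp, L qq, L aa, L bb, L zz, L qp, L ba, L zp,
      L zq, L za, L zb, L ap, L aq, L bp, L bq]
  · exact h.mul_z_ne _ ((key i j hij).symm.trans e)
  · simp [mul_assoc, pp, qq, aa, bb,
      zz, qp, ba, zp, zq, za, zb, ap, aq, bp, bq, L pp, L qq, L aa, L bb, L zz, L qp, L ba, L zp,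
      L zq, L za, L zb, L ap, L aq, L bp, L bq]
  · have mp : p ∈ W := hW 0
    have mq : q ∈ W := hW 1
    have ma : a ∈ W := (W.mul_mem_cancel_left (mul_mem mp mq)).1 (hW 2)
    have mb : b ∈ W := (W.mul_mem_cancel_left (mul_mem mp mq)).1 (hW 3)
    have c := fun {u v : G} => (mem_centralizer_singleton_iff (g := v) (k := u))
    have c1 := H2.two_mul_card_le (K := zpowers z)
      (L := W ⊓ Q ⊓ centralizer {p} ⊓ centralizer {q} ⊓ centralizer {a})
      (zpowers_le.2 ⟨⟨⟨⟨hz, h.mem⟩, c.2 zp⟩, c.2 zq⟩, c.2 za⟩) ⟨⟨⟨⟨ma, ha⟩, c.2 ap⟩, c.2 aq⟩, c.2 rfl⟩ az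
    have c2 := H2.two_mul_card_le (inf_le_left (b := centralizer {a}))
      (L := W ⊓ Q ⊓ centralizer {p} ⊓ centralizer {q}) ⟨⟨⟨mb, hb⟩, c.2 bp⟩, c.2 bq⟩
      fun e => ab (c.1 e.2).symm
    have c3 := H2.two_mul_card_le (inf_le_left (b := centralizer {q}))
      (L := W ⊓ Q ⊓ centralizer {p}) ⟨⟨mp, hp⟩, c.2 rfl⟩ fun e => pq (c.1 e.2)
    have c4 := H2.two_mul_card_le (inf_le_left (b := centralizer {p}))
      (L := W ⊓ Q) ⟨mq, hq⟩ fun e => pq (c.1 e.2).symm
    rw [h.card_Z] at c1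
    exact (eq_of_le_of_card_ge (inf_le_right : W ⊓ Q ≤ Q) (by omega)).ge.trans inf_le_left

omit hQ in
theorem ker_rho {x : Fin 5 → G} (F : Frame Q z x) {ρ : centralizer ({z} : Set G) →* Perm (Fin 5)}
    (hρ : ∀ (c : centralizer ({z} : Set G)) i,
      (c : G) * x i * (c : G)⁻¹ = x (ρ c i) ∨ (c : G) * x i * (c : G)⁻¹ = x (ρ c i) * z) :
    ρ.ker = Q.subgroupOf (centralizer {z}) := by
  ext c
  rw [MonoidHom.mem_ker, mem_subgroupOf]
  constructor
  · intro e
    exact mem_of_fix h F fun i => by simpa [e] using hρ c i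
  · intro e
    exact Equiv.ext fun i => F.uniq h.toXS (hρ c i) (h.conj e (F.mem i))

theorem range_rho (hH : Nat.card (centralizer ({z} : Set G)) = 768) {x : Fin 5 → G}
    (F : Frame Q z x) {ρ : centralizer ({z} : Set G) →* Perm (Fin 5)}
    (hρ : ∀ (c : centralizer ({z} : Set G)) i,
      (c : G) * x i * (c : G)⁻¹ = x (ρ c i) ∨ (c : G) * x i * (c : G)⁻¹ = x (ρ c i) * z) :
    ∃ j : Fin 5, ρ.range = MulAction.stabilizer (Perm (Fin 5)) j := by
  refine S5911.result (by simp) _ ?_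
  have a := ρ.ker.card_mul_index
  rw [index_ker, ker_rho h F hρ, Nat.card_congr (subgroupOfEquivOfLe h.le_centralizer).toEquiv, hQ,
    hH] at a
  have b := ρ.range.card_mul_index
  rw [Nat.card_perm, Nat.card_fin] at b
  have c : Nat.card ρ.range = 24 := by omega
  rw [c] at b
  have : Nat.factorial 5 = 120 := rfl
  rw [Fintype.card_fin]
  omega

theorem exists_good (hne : NE8 Q z) (hH : Nat.card (centralizer ({z} : Set G)) = 768) :
    ∃ (x : Fin 5 → G) (ρ : centralizer ({z} : Set G) →* Perm (Fin 5)), Frame Q z x ∧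
      (∀ (c : centralizer ({z} : Set G)) i,
        (c : G) * x i * (c : G)⁻¹ = x (ρ c i) ∨ (c : G) * x i * (c : G)⁻¹ = x (ρ c i) * z) ∧
      ∀ σ, σ ∈ ρ.range ↔ σ 0 = 0 := by
  obtain ⟨x, F⟩ := exists_frame h hQ hne
  obtain ⟨ρ, hρ⟩ := exists_rho h hQ F
  obtain ⟨j, hj⟩ := range_rho h hQ hH F hρ
  obtain ⟨y, E, e⟩ : ∃ y, Frame Q z y ∧ y 0 = x j := by
    fin_cases j
    exacts [⟨_, F, rfl⟩, ⟨_, rot F, rfl⟩, ⟨_, rot (rot F), rfl⟩, ⟨_, rot (rot (rot F)), rfl⟩,
      ⟨_, rot (rot (rot (rot F))), rfl⟩]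
  obtain ⟨τ, hτ⟩ := exists_rho h hQ E
  obtain ⟨k, hk⟩ := range_rho h hQ hH E hτ
  have h0 : ∀ c, τ c 0 = 0 := fun c => E.uniq h.toXS (hτ c 0) (by
    have := hρ c j
    rwa [show ρ c j = j from hj.le ⟨c, rfl⟩, ← e] at this)
  obtain rfl : k = 0 := by
    by_contra hne
    obtain ⟨l, h1, h2⟩ := (by decide : ∀ k : Fin 5, k ≠ 0 → ∃ l, swap 0 l k = k ∧ swap 0 l 0 ≠ 0) k hne
    obtain ⟨c, hc⟩ : swap 0 l ∈ τ.range := hk.ge h1
    exact h2 (hc ▸ h0 c)
  exact ⟨y, τ, E, hτ, fun σ => by rw [hk]; rfl⟩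

end

end Cfsg.Agent.H84.Chz
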