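import Cfsg.Agent.H84.ChzFr
import Cfsg.Agent.H84.ChzDefs

/-!
# Involution centralizer `(D₈ * Q₈).S₄`: generators and relations
-/

set_option autoImplicit false

namespace Cfsg.Agent.H84.Chz

open Subgroup Cfsg.Agent.H44 Cfsg.Agent.H49 Cfsg.Agent.H70 Equiv

variable {G : Type*} [Group G]

/-- The letters of the tables. -/
def gc (d e f z : G) (x : Fin 5 → G) : ℕ → G
  | 1 => d
  | 2 => e
  | 3 => f
  | 4 => x 0
  | 5 => x 1
  | 6 => x 2
  | 7 => x 3
  | 8 => x 4
  | _ => z

/-- The three transpositions as letters. -/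
def gS (i : ℕ) : Perm (Fin 5) := if i = 1 then swap 1 2 else if i = 2 then swap 2 3 else swap 3 4

/-- Words for the permutations fixing `0`. -/
def wS : List (List ℕ) := [[], [1], [2], [3], [1, 2], [1, 3], [2, 1], [2, 3], [3, 2], [1, 2, 1], [1, 2, 3], [1, 3, 2], [2, 1, 3], [2, 3, 2], [3, 2, 1], [1, 2, 1, 3], [1, 2, 3, 2], [1, 3, 2, 1], [2, 1, 3, 2], [2, 3, 2, 1], [1, 2, 1, 3, 2], [1, 2, 3, 2, 1], [2, 1, 3, 2, 1], [1, 2, 1, 3, 2, 1]]

theorem wS_all : ∀ π : Perm (Fin 5), π 0 = 0 → ∃ w ∈ wS, ev gS w = π := by decide +kernel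

/-- `c` acts on the frame as `σ` with sign `w`, and with sign `z` on the fixed member. -/
structure Ac (z w : G) (x : Fin 5 → G) (c : G) (σ : Perm (Fin 5)) : Prop where
  cz : c * z = z * c
  cw : c * w = w * c
  fix : σ 0 = 0
  h0 : c * x 0 * c⁻¹ = x 0 * z
  hi : ∀ i, i ≠ 0 → c * x i * c⁻¹ = x (σ i) * w

theorem Ac.pair {z w c d : G} {x : Fin 5 → G} {σ τ : Perm (Fin 5)} (zz : z * z = 1) (ww : w * w = 1)
    (h : Ac z w x c σ) (k : Ac z w x d τ) (i : Fin 5) :
    c * d * x i * (c * d)⁻¹ = x ((σ * τ) i) := by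
  rw [show c * d * x i * (c * d)⁻¹ = c * (d * x i * d⁻¹) * c⁻¹ by group, Perm.mul_apply]
  by_cases e : i = 0
  · rw [e, k.h0, k.fix, h.fix, ← conj_mul, h.h0, h.cz, mul_inv_cancel_right, mul_assoc, zz, mul_one]
  · rw [k.hi i e, ← conj_mul, h.hi _ fun c => e (τ.injective (c.trans k.fix.symm)), h.cw,
      mul_inv_cancel_right, mul_assoc, ww, mul_one]

theorem Ac.mul_z {Q : Subgroup G} {z w c : G} {x : Fin 5 → G} {σ : Perm (Fin 5)} (h : XS Q z)
    (F : Frame Q z x) (wz : w * z = z * w) (k : Ac z w x c σ) : Ac z w x (c * z) σ := by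
  have e : ∀ i, c * z * x i * (c * z)⁻¹ = c * x i * c⁻¹ := fun i => by
    rw [mul_assoc c, ← h.cen _ (F.mem i)]; group
  exact ⟨by rw [← mul_assoc, k.cz], by rw [mul_assoc, ← wz, ← mul_assoc, k.cw, mul_assoc], k.fix,
    (e 0).trans k.h0, fun i hi => (e i).trans (k.hi i hi)⟩

theorem braid_sq {z c d : G} (z1 : z ≠ 1) (zz : z * z = 1) (cz : c * z = z * c) (dz : d * z = z * d)
    (cc : c * c = 1) (dd : d * d = 1 ∨ d * d = z) (e : (c * d) ^ 3 = 1) : d * d = 1 := by
  refine dd.resolve_right fun dd => z1 ?_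
  have ic : c⁻¹ = c := inv_eq_of_mul_eq_one_left cc
  have id : d⁻¹ = d * z := inv_eq_of_mul_eq_one_left (by rw [mul_assoc, ← dz, ← mul_assoc, dd, zz])
  have h1 : c * d * c = d * c * d := by
    rw [eq_inv_of_mul_eq_one_left (show c * d * c * (d * c * d) = 1 by
      rw [← e]; simp only [pow_succ, pow_zero, one_mul, mul_assoc]), mul_inv_rev, mul_inv_rev, ic, id]
    calc d * z * (c * (d * z)) = d * (z * c) * (d * z) := by group
      _ = d * c * (z * d) * z := by rw [← cz]; group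
      _ = d * c * d * (z * z) := by rw [← dz]; group
      _ = _ := by rw [zz, mul_one]
  calc z = z * (c * c) := by rw [cc, mul_one]
    _ = c * (d * d) * c := by rw [dd, cz, mul_assoc]
    _ = c * d * c * (c * d * c) := by
      rw [show c * d * c * (c * d * c) = c * d * (c * c) * d * c by group, cc]; group
    _ = d * c * (d * d) * c * d := by rw [h1]; group
    _ = d * (c * z * c) * d := by rw [dd]; group
    _ = 1 := by rw [cz, mul_assoc z, cc, mul_one, dz, mul_assoc, dd, zz]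

set_option maxHeartbeats 1000000 in
theorem cases_of [Finite G] {Q : Subgroup G} {z w d e f : G} {x : Fin 5 → G} (h : LX Q z)
    (F : Frame Q z x) (hw : w = 1 ∨ w = z) (R1 : Ac z w x d (swap 1 2)) (R2 : Ac z w x e (swap 2 3))
    (R3 : Ac z w x f (swap 3 4)) (q1 : d * d = 1) (q2 : e * e = 1) (q3 : f * f = 1)
    (b1 : (d * e) ^ 3 = 1) (b2 : (e * f) ^ 3 = 1)
    (b3 : d * f * (d * f) = 1 ∨ d * f * (d * f) = z) (hcard : Nat.card (gen (gc d e f z x) 9) = 768) :
    Cases (gen (gc d e f z x) 9) z (x 0) (x 4) d e (x 3) := by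
  have zz := h.zz
  have zx : ∀ i, z * x i = x i * z := fun i => (h.cen _ (F.mem i)).symm
  have ww : w * w = 1 := by rcases hw with rfl | rfl; exacts [one_mul 1, zz]
  have r2 : ∀ c : G, c * z = z * c → c * c = 1 → z * c * z * c = 1 := fun c e cc => by
    rw [← e, mul_assoc c, zz, mul_one, cc]
  have r0 : ∀ (c : G) σ, Ac z w x c σ → c * c = 1 → c * x 0 * c * x 0 * z = 1 := fun c σ R cc => by
    have := R.h0
    rw [inv_eq_of_mul_eq_one_left cc] at this
    rw [this, mul_assoc (x 0), zx, ← mul_assoc, F.sq, one_mul, zz]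
  have r1' : ∀ (c : G) σ, Ac z w x c σ → c * c = 1 → ∀ i j, i ≠ 0 → σ i = j →
      c * x i * c * x j * w = 1 := fun c σ R cc i j hi hj => by
    have := R.hi i hi
    rw [inv_eq_of_mul_eq_one_left cc] at this
    have wx : w * x j = x j * w := by rcases hw with rfl | rfl; exacts [by simp, zx j]
    rw [this, hj, mul_assoc (x j), wx, ← mul_assoc, F.sq, one_mul, ww]
  replace b1 : d * e * d * e * d * e = 1 := by
    simpa only [pow_succ, pow_zero, one_mul, ← mul_assoc] using b1
  replace b2 : e * f * e * f * e * f = 1 := by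
    simpa only [pow_succ, pow_zero, one_mul, ← mul_assoc] using b2
  rcases hw with rfl | rfl <;> rcases b3 with b3 | b3
  · refine cases00 (g := gc d e f z x) ?_ hcard
    have r1 := r1'
    simp only [mul_one, ← mul_assoc] at r1 b3
    intro r hr
    simp only [TC00.R, List.mem_cons, List.not_mem_nil, or_false] at hr
    rcases hr with rfl | rfl | rfl | rfl | rfl | rfl | rfl | rfl | rfl | rfl | rfl | rfl | rfl | rfl | rfl | rfl | rfl | rfl | rfl | rfl | rfl | rfl | rfl | rfl | rfl | rfl | rfl | rfl | rfl | rfl | rfl | rfl | rfl | rfl | rfl | rfl | rfl | rfl | rfl | rfl | rfl | rfl | rfl <;>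
      simp only [ev_cons, ev_nil, gc, mul_one, ← mul_assoc] <;>
      first | exact F.sq _ | exact h.zz | exact F.zx h.toXS _ | exact F.rel h.toXS (by decide) | exact F.prod | assumption | exact r2 _ R1.cz q1 | exact r2 _ R2.cz q2 | exact r2 _ R3.cz q3 | exact r0 _ _ R1 q1 | exact r0 _ _ R2 q2 | exact r0 _ _ R3 q3 | exact r1 _ _ R1 q1 _ _ (by decide) (by decide) | exact r1 _ _ R2 q2 _ _ (by decide) (by decide) | exact r1 _ _ R3 q3 _ _ (by decide) (by decide)
  · refine cases01 (g := gc d e f z x) ?_ hcard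
    have r1 := r1'
    simp only [mul_one] at r1
    replace b3 : d * f * d * f * z = 1 := by rw [← zz, ← b3]; simp only [mul_assoc]
    intro r hr
    simp only [TC01.R, List.mem_cons, List.not_mem_nil, or_false] at hr
    rcases hr with rfl | rfl | rfl | rfl | rfl | rfl | rfl | rfl | rfl | rfl | rfl | rfl | rfl | rfl | rfl | rfl | rfl | rfl | rfl | rfl | rfl | rfl | rfl | rfl | rfl | rfl | rfl | rfl | rfl | rfl | rfl | rfl | rfl | rfl | rfl | rfl | rfl | rfl | rfl | rfl | rfl | rfl | rfl <;>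
      simp only [ev_cons, ev_nil, gc, mul_one, ← mul_assoc] <;>
      first | exact F.sq _ | exact h.zz | exact F.zx h.toXS _ | exact F.rel h.toXS (by decide) | exact F.prod | assumption | exact r2 _ R1.cz q1 | exact r2 _ R2.cz q2 | exact r2 _ R3.cz q3 | exact r0 _ _ R1 q1 | exact r0 _ _ R2 q2 | exact r0 _ _ R3 q3 | exact r1 _ _ R1 q1 _ _ (by decide) (by decide) | exact r1 _ _ R2 q2 _ _ (by decide) (by decide) | exact r1 _ _ R3 q3 _ _ (by decide) (by decide)
  · refine cases10 (g := gc d e f w x) ?_ hcard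
    have r1 := r1'
    simp only [← mul_assoc] at b3
    intro r hr
    simp only [TC10.R, List.mem_cons, List.not_mem_nil, or_false] at hr
    rcases hr with rfl | rfl | rfl | rfl | rfl | rfl | rfl | rfl | rfl | rfl | rfl | rfl | rfl | rfl | rfl | rfl | rfl | rfl | rfl | rfl | rfl | rfl | rfl | rfl | rfl | rfl | rfl | rfl | rfl | rfl | rfl | rfl | rfl | rfl | rfl | rfl | rfl | rfl | rfl | rfl | rfl | rfl | rfl <;>
      simp only [ev_cons, ev_nil, gc, mul_one, ← mul_assoc] <;>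
      first | exact F.sq _ | exact h.zz | exact F.zx h.toXS _ | exact F.rel h.toXS (by decide) | exact F.prod | assumption | exact r2 _ R1.cz q1 | exact r2 _ R2.cz q2 | exact r2 _ R3.cz q3 | exact r0 _ _ R1 q1 | exact r0 _ _ R2 q2 | exact r0 _ _ R3 q3 | exact r1 _ _ R1 q1 _ _ (by decide) (by decide) | exact r1 _ _ R2 q2 _ _ (by decide) (by decide) | exact r1 _ _ R3 q3 _ _ (by decide) (by decide)
  · refine cases11 (g := gc d e f w x) ?_ hcard
    have r1 := r1'
    replace b3 : d * f * d * f * w = 1 := by rw [← zz, ← b3]; simp only [mul_assoc]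
    intro r hr
    simp only [TC11.R, List.mem_cons, List.not_mem_nil, or_false] at hr
    rcases hr with rfl | rfl | rfl | rfl | rfl | rfl | rfl | rfl | rfl | rfl | rfl | rfl | rfl | rfl | rfl | rfl | rfl | rfl | rfl | rfl | rfl | rfl | rfl | rfl | rfl | rfl | rfl | rfl | rfl | rfl | rfl | rfl | rfl | rfl | rfl | rfl | rfl | rfl | rfl | rfl | rfl | rfl | rfl <;>
      simp only [ev_cons, ev_nil, gc, mul_one, ← mul_assoc] <;>
      first | exact F.sq _ | exact h.zz | exact F.zx h.toXS _ | exact F.rel h.toXS (by decide) | exact F.prod | assumption | exact r2 _ R1.cz q1 | exact r2 _ R2.cz q2 | exact r2 _ R3.cz q3 | exact r0 _ _ R1 q1 | exact r0 _ _ R2 q2 | exact r0 _ _ R3 q3 | exact r1 _ _ R1 q1 _ _ (by decide) (by decide) | exact r1 _ _ R2 q2 _ _ (by decide) (by decide) | exact r1 _ _ R3 q3 _ _ (by decide) (by decide)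

theorem exists_cases [Finite G] {Q : Subgroup G} {z : G} (h : LX Q z) (hQ : Nat.card Q = 32)
    (hne : NE8 Q z) (hH : Nat.card (centralizer ({z} : Set G)) = 768) :
    ∃ s t d e c, Cases (centralizer {z}) z s t d e c ∧
      ∃ φ : centralizer ({z} : Set G) →* ℤˣ × ℤˣ, (∀ m, φ ⟨t, m⟩ = (1, -1)) ∧
        (∀ m, φ ⟨d, m⟩ = (-1, -1)) ∧ ∀ y, φ y = 1 → (y : G) * s = s * y := by
  obtain ⟨x, ρ, F, hρ, hr⟩ := exists_good h hQ hne hH
  have zz := h.zz
  have lift : ∀ w, w = 1 ∨ w = z → ∀ σ : Perm (Fin 5), σ 0 = 0 →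
      x 0 * x (σ 1) * x (σ 2) * x (σ 3) * x (σ 4) = z → ∃ c : G, Ac z w x c σ := by
    intro w hw σ hσ hp
    obtain ⟨c, rfl⟩ := (hr σ).2 hσ
    have hc := mem_centralizer_singleton_iff.1 c.2
    let a : Fin 5 → G := fun i => x (ρ c i) * if i = 0 then z else w
    have ha : ∀ i, a i = x (ρ c i) ∨ a i = x (ρ c i) * z := fun i => by
      by_cases e : i = 0
      · exact Or.inr (by simp [a, e])
      · exact hw.imp (fun e' => by simp [a, e, e']) fun e' => by simp [a, e']
    have hm : ∀ i, a i ∈ Q := fun i => by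
      rcases ha i with e | e <;> rw [e]
      exacts [F.mem _, mul_mem (F.mem _) h.mem]
    have zx : ∀ i y, z * (x i * y) = x i * (z * y) := fun i y => by
      rw [← mul_assoc, ← h.cen _ (F.mem i), mul_assoc]
    have zx' : ∀ i, z * x i = x i * z := fun i => (h.cen _ (F.mem i)).symm
    obtain ⟨q, hq, e⟩ := adjust h.toXS (a := a) (b := fun i => (c : G) * x i * (c : G)⁻¹) hm
      (fun i j hij k => F.an _ _ ((ρ c).injective.ne hij) (by
        rcases ha i with e | e <;> rcases ha j with e' | e' <;> rw [e, e'] at k <;>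
          (try simp only [mul_assoc, zx, zx', zz, mul_one] at k) <;>
          simpa only [← mul_assoc, mul_left_inj] using k))
      (fun i => by
        rcases ha i with e | e <;> rcases hρ c i with e' | e' <;> rw [e, e'] <;>
          simp [mul_assoc, zz])
      (by
        simp only [a, hσ]
        have hp' : x 0 * (x (ρ c 1) * (x (ρ c 2) * (x (ρ c 3) * (x (ρ c 4) * z)))) = 1 := by
          simp only [← mul_assoc, hp, zz]
        rcases hw with rfl | rfl <;> simp [mul_assoc, zx, zx', zz, hp'])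
      (by rw [conj_mul, conj_mul, conj_mul, conj_mul, F.prod]; group)
    have e' : ∀ i, q * c * x i * (q * c)⁻¹ = a i := fun i => by rw [← e i]; group
    have cz : q * c * z = z * (q * c) := by rw [mul_assoc, hc, ← mul_assoc, h.cen q hq, mul_assoc]
    refine ⟨q * c, cz, ?_, hσ, by simp only [e', a, hσ, if_true], fun i hi => by simp only [e', a, if_neg hi]⟩
    rcases hw with rfl | rfl
    exacts [by simp, cz]
  have an : ∀ i j, i ≠ j → ∀ y, x i * (x j * y) = x j * (x i * (z * y)) := fun i j hij y => by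
    rw [← mul_assoc, h.comm_of_ne (F.mem i) (F.mem j) (F.an i j hij)]; simp only [mul_assoc]
  have zx : ∀ i, z * x i = x i * z := fun i => (h.cen _ (F.mem i)).symm
  have pr : x 0 * (x 1 * (x 2 * (x 3 * x 4))) = 1 := by simpa only [mul_assoc] using F.prod
  have pz : x 0 * (x 1 * (x 2 * (x 3 * (x 4 * z)))) = z := by
    simpa only [← mul_assoc, F.prod] using one_mul z
  have p1 : x 0 * x 2 * x 1 * x 3 * x 4 = z := by
    rw [← pz]; simp only [mul_assoc]
    rw [an 2 1 (by decide), ← mul_assoc z, zx, mul_assoc, zx]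
  have p2 : x 0 * x 1 * x 3 * x 2 * x 4 = z := by
    rw [← pz]; simp only [mul_assoc]
    rw [an 3 2 (by decide), zx]
  have p3 : x 0 * x 1 * x 2 * x 4 * x 3 = z := by
    rw [← pz]; simp only [mul_assoc]
    rw [h.comm_of_ne (F.mem 4) (F.mem 3) (F.an 4 3 (by decide)), mul_assoc]
  have mul : ∀ (c d : G) (σ τ : Perm (Fin 5)), (∀ i, c * x i * c⁻¹ = x (σ i)) →
      (∀ i, d * x i * d⁻¹ = x (τ i)) → ∀ i, c * d * x i * (c * d)⁻¹ = x ((σ * τ) i) :=
    fun c d σ τ e e' i => by rw [Perm.mul_apply, ← e, ← e']; group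
  obtain ⟨w, hw, d, R1, q1⟩ : ∃ w, (w = 1 ∨ w = z) ∧ ∃ d, Ac z w x d (swap 1 2) ∧ d * d = 1 := by
    obtain ⟨c, R⟩ := lift 1 (Or.inl rfl) (swap 1 2) (by decide) p1
    have e := R.pair zz (one_mul 1) R
    rw [swap_mul_self] at e
    rcases eq_of_fix h F e with e | e
    · exact ⟨1, Or.inl rfl, c, R, e⟩
    have cz : c * x 0 * z = z * (c * x 0) := by rw [mul_assoc, ← zx, ← mul_assoc, R.cz, mul_assoc]
    refine ⟨z, Or.inr rfl, c * x 0, ⟨cz, cz, R.fix, ?_, fun i hi => ?_⟩, ?_⟩
    · rw [← R.h0]; group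
    · rw [show c * x 0 * x i * (c * x 0)⁻¹ = c * (x 0 * x i * (x 0)⁻¹) * c⁻¹ by group,
        h.conj_of_ne (F.mem 0) (F.mem i) (F.an 0 i hi.symm), ← conj_mul, R.hi i hi, R.cz,
        mul_inv_cancel_right, mul_one]
    · calc c * x 0 * (c * x 0) = c * x 0 * c⁻¹ * (c * c) * x 0 := by group
        _ = 1 := by rw [R.h0, e, mul_assoc (x 0), zz, mul_one, F.sq]
  have ww : w * w = 1 := by rcases hw with rfl | rfl; exacts [one_mul 1, zz]
  have wz : w * z = z * w := by rcases hw with rfl | rfl; exacts [by simp, rfl]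
  have next : ∀ (c : G) (σ τ : Perm (Fin 5)), Ac z w x c σ → c * c = 1 → τ 0 = 0 →
      x 0 * x (τ 1) * x (τ 2) * x (τ 3) * x (τ 4) = z → τ * τ = 1 →
      σ * τ * (σ * τ) * (σ * τ) = 1 → ∃ e, Ac z w x e τ ∧ e * e = 1 ∧ (c * e) ^ 3 = 1 := by
    intro c σ τ R cc h0 hp h2 h3
    obtain ⟨e, S, b⟩ : ∃ e, Ac z w x e τ ∧ (c * e) ^ 3 = 1 := by
      obtain ⟨e, S⟩ := lift w hw τ h0 hp
      have e1 := R.pair zz ww S
      have e2 := mul _ _ _ _ (mul _ _ _ _ e1 e1) e1
      rw [h3, ← pow_three'] at e2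
      rcases eq_of_fix h F e2 with e3 | e3
      · exact ⟨e, S, e3⟩
      · refine ⟨e * z, S.mul_z h.toXS F wz, ?_⟩
        have : Commute (c * e) z := by
          rw [Commute, SemiconjBy, mul_assoc, S.cz, ← mul_assoc, R.cz, mul_assoc]
        rw [← mul_assoc, this.mul_pow, e3, pow_three, zz, mul_one, zz]
    have e1 := S.pair zz ww S
    rw [h2] at e1
    exact ⟨e, S, braid_sq h.ne zz R.cz S.cz cc (eq_of_fix h F e1) b, b⟩
  obtain ⟨e, R2, q2, b1⟩ := next d _ (swap 2 3) R1 q1 (by decide) p2 (by decide) (by decide)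
  obtain ⟨f, R3, q3, b2⟩ := next e _ (swap 3 4) R2 q2 (by decide) p3 (by decide) (by decide)
  have b3 : d * f * (d * f) = 1 ∨ d * f * (d * f) = z := by
    have e1 := R1.pair zz ww R3
    have e2 := mul _ _ _ _ e1 e1
    rw [show swap 1 2 * swap 3 4 * (swap 1 2 * swap 3 4) = (1 : Perm (Fin 5)) by decide] at e2
    exact eq_of_fix h F e2
  have val : ∀ (c : G) σ, Ac z w x c σ → ∀ m, ρ ⟨c, m⟩ = σ := fun c σ R m =>
    Equiv.ext fun i => F.uniq h.toXS (hρ ⟨c, m⟩ i) (by
      by_cases e : i = 0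
      · rw [e, R.fix]; exact Or.inr R.h0
      · exact hw.imp (fun e' => by simpa [e'] using R.hi i e) fun e' => by
          simpa [e'] using R.hi i e)
  have md := mem_centralizer_singleton_iff.2 R1.cz
  have me := mem_centralizer_singleton_iff.2 R2.cz
  have mf := mem_centralizer_singleton_iff.2 R3.cz
  have hg : gen (gc d e f z x) 9 = centralizer {z} := by
    refine le_antisymm (gen_le.2 fun i h1 h2 => ?_) fun c hc => ?_
    · interval_cases i
      exacts [md, me, mf, h.le_centralizer (F.mem _), h.le_centralizer (F.mem _),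
        h.le_centralizer (F.mem _), h.le_centralizer (F.mem _), h.le_centralizer (F.mem _),
        h.le_centralizer h.mem]
    have hQg : Q ≤ gen (gc d e f z x) 9 := by
      refine F.gen _ (mg (gc d e f z x) 9) fun i => ?_
      fin_cases i
      exacts [mg (gc d e f z x) 4, mg (gc d e f z x) 5, mg (gc d e f z x) 6, mg (gc d e f z x) 7,
        mg (gc d e f z x) 8]
    obtain ⟨l, -, e1⟩ := wS_all (ρ ⟨c, hc⟩) ((hr _).1 ⟨_, rfl⟩)
    obtain ⟨u, hu, e2⟩ : ρ ⟨c, hc⟩ ∈ ((gen (gc d e f z x) 9).subgroupOf (centralizer {z})).map ρ := by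
      rw [← e1]
      refine ev_mem fun i _ => ?_
      unfold gS
      split_ifs
      exacts [⟨⟨d, md⟩, mg (gc d e f z x) 1, val _ _ R1 _⟩, ⟨⟨e, me⟩, mg (gc d e f z x) 2, val _ _ R2 _⟩,
        ⟨⟨f, mf⟩, mg (gc d e f z x) 3, val _ _ R3 _⟩]
    have : u⁻¹ * ⟨c, hc⟩ ∈ ρ.ker := by rw [MonoidHom.mem_ker, map_mul, map_inv, e2, inv_mul_cancel]
    rw [ker_rho h F hρ] at this
    exact (Subgroup.mul_mem_cancel_left _ (inv_mem (mem_subgroupOf.1 hu))).1 (hQg this)
  have hcard : Nat.card (gen (gc d e f z x) 9) = 768 := by rw [hg, hH]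
  refine ⟨x 0, x 4, d, e, x 3, ?_, ?_⟩
  · rw [← hg]
    exact cases_of h F hw R1 R2 R3 q1 q2 q3 b1 b2 b3 hcard
  · have alt : ∀ c : centralizer ({z} : Set G), (c : G) * x 0 = x 0 * c ∨ (c : G) * x 0 = x 0 * z * c :=
      fun c => by
        have := hρ c 0
        rwa [(hr _).1 ⟨c, rfl⟩, mul_inv_eq_iff_eq_mul, mul_inv_eq_iff_eq_mul] at this
    have nz : ∀ c : G, x 0 * z * c ≠ x 0 * c := fun c e => h.mul_z_ne _ (mul_right_cancel e)
    classical
    let μ : centralizer ({z} : Set G) →* ℤˣ := MonoidHom.mk'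
      (fun c => if (c : G) * x 0 = x 0 * c then 1 else -1) fun a b => by
        have az := mem_centralizer_singleton_iff.1 a.2
        have e : ∀ u v : G, (a : G) * x 0 = u * a → (b : G) * x 0 = x 0 * v * b → (a : G) * v = v * a →
            (a : G) * b * x 0 = u * v * (a * b) := fun u v h1 h2 h3 => by
          rw [mul_assoc, h2, ← mul_assoc, ← mul_assoc, h1, mul_assoc u, h3]; simp only [mul_assoc]
        rcases alt a with ha | ha <;> rcases alt b with hb | hb
        · simp [e _ 1 ha (by simpa using hb) (by simp), ha, hb]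
        · simp [e _ z ha hb az, ha, hb, nz]
        · simp [e _ 1 ha (by simpa using hb) (by simp), ha, hb, nz]
        · simp [e _ z ha hb az, ha, hb, nz, mul_assoc (x 0) z z, zz]
    refine ⟨(Perm.sign.comp ρ).prod μ, fun m => Prod.ext ?_ ?_, fun m => Prod.ext ?_ ?_,
      fun y hy => ?_⟩
    · have : ρ ⟨x 4, m⟩ = 1 := by
        rw [← MonoidHom.mem_ker, ker_rho h F hρ]; exact F.mem 4
      simp [this]
    · simp [μ, F.an 4 0 (by decide)]
    · simp [val _ _ R1 m]
    · simp [μ, mul_inv_eq_iff_eq_mul.1 R1.h0, nz]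
    · by_contra hne
      simpa [μ, hne] using congrArg Prod.snd hy

end Cfsg.Agent.H84.Chz
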