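import Cfsg.Agent.H84.ChzDefs
import Cfsg.Agent.H82.UT
import Cfsg.Agent.H2.MacW
import Cfsg.Agent.H1.Card
import Cfsg.Agent.H49.Large

/-!
# Involution centralizer `(D₈ * Q₈).S₄`: the subgroup of type `UT₃(4)`
-/

set_option autoImplicit false

namespace Cfsg.Agent.H84.Chz

open Subgroup Cfsg.Agent.H62

variable {G : Type*} [Group G] {z s t d e c a b : G}

theorem tmul (tt : t * t = 1) (x y : G) : t * x * t * (t * y * t) = t * (x * y) * t := by
  rw [show t * x * t * (t * y * t) = t * x * (t * t) * y * t by group, tt]; group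

theorem ttt (tt : t * t = 1) (x : G) : t * (t * x * t) * t = x := by
  rw [show t * (t * x * t) * t = (t * t) * x * (t * t) by group, tt]; group

variable (h : CH (centralizer {z}) z s t d e c)

include h

theorem CH.swap {u y : G} (hy : y ∈ cA (centralizer {z}) s u) :
    t * y * t ∈ cA (centralizer {z}) s (t * u * t) := by
  obtain ⟨h1, h2, h3⟩ := mem_cA.1 hy
  refine mem_cA.2 ⟨mul_mem (mul_mem h.mt h1) h.mt, ?_, by rw [tmul h.tt, tmul h.tt, h3]⟩
  have e' : y * (s * z) = s * z * y := by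
    rw [← mul_assoc, h2, mul_assoc, mem_centralizer_singleton_iff.1 h1, mul_assoc]
  rw [← ttt h.tt s, h.tsz, tmul h.tt, tmul h.tt, e']

theorem CH.swap' {u y : G} (hy : y ∈ cA (centralizer {z}) s (t * u * t)) :
    t * y * t ∈ cA (centralizer {z}) s u := by
  have := h.swap hy
  rwa [ttt h.tt] at this

theorem CH.z_mem {u : G} (hu : u ∈ centralizer ({z} : Set G)) : z ∈ cA (centralizer {z}) s u :=
  mem_cA.2 ⟨mem_centralizer_singleton_iff.2 rfl, (mem_centralizer_singleton_iff.1 h.ms).symm,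
    (mem_centralizer_singleton_iff.1 hu).symm⟩

variable (k : CH0 (centralizer {z}) z s t a b)

include k

theorem CH.z_U : z ∈ cA (centralizer {z}) s a ⊓ cA (centralizer {z}) s (t * a * t) :=
  ⟨h.z_mem (mem_cA.1 k.ma).1, h.z_mem (mem_cA.1 k.ml).1⟩

theorem CH.s_U : s ∈ cA (centralizer {z}) s a ⊓ cA (centralizer {z}) s (t * a * t) :=
  ⟨mem_cA.2 ⟨h.ms, rfl, (mem_cA.1 k.ma).2.1.symm⟩, mem_cA.2 ⟨h.ms, rfl, (mem_cA.1 k.ml).2.1.symm⟩⟩

theorem CH.card_U [Finite G] :
    Nat.card ↥(cA (centralizer {z}) s a ⊓ cA (centralizer {z}) s (t * a * t)) = 4 := by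
  classical
  have h1 := H2.two_mul_card_le (zpowers_le.2 (h.z_U k)) (h.s_U k) fun e =>
    ((H49.mem_zpowers_invol h.zz).1 e).elim h.s1 h.sz
  rw [H49.card_zpowers_invol h.z1 h.zz] at h1
  refine le_antisymm ?_ h1
  refine le_trans ?_ (Finset.card_le_four (a := 1) (b := z) (c := s) (d := s * z))
  rw [← Set.ncard_coe_finset, ← SetLike.coe_sort_coe, Nat.card_coe_set_eq]
  exact Set.ncard_le_ncard (fun y hy => by simpa using k.listZ y hy) (Finset.finite_toSet _)

theorem CH.ut0 [Finite G] : H82.UT (cA (centralizer {z}) s a ⊔ cA (centralizer {z}) s (t * a * t))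
    (cA (centralizer {z}) s a) (cA (centralizer {z}) s (t * a * t))
    (cA (centralizer {z}) s a ⊓ cA (centralizer {z}) s (t * a * t)) := by
  have hU := h.card_U k
  have sw := fun y => h.swap (u := a) (y := y)
  have sw' := fun y => h.swap' (u := a) (y := y)
  obtain ⟨ma, mb, ml, la, ea, listA, -, br, surj⟩ := k
  generalize t * a * t = l at *
  generalize cA (centralizer {z}) s l = B at *
  generalize cA (centralizer {z}) s a = A at *
  have eA : EA A := fun y hy => (ea y hy).1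
  have eB : EA B := fun y hy => by
    have := eA _ (sw' y hy)
    rw [tmul h.tt] at this
    rw [← ttt h.tt (y * y), this, mul_one, h.tt]
  have key : ∀ x ∈ A, ∀ y ∈ B, x * y * x⁻¹ * y⁻¹ ∈ A ⊓ B ∧ (x * y = y * x → x ∈ A ⊓ B ∨ y ∈ A ⊓ B) := by
    intro x hx y hy
    obtain ⟨k, hk, e⟩ := listA x hx
    have ky := eB.comm hk.2 hy
    rcases e with rfl | e
    · exact ⟨by rw [ky]; simp, fun _ => Or.inl hk⟩
    obtain ⟨u, hu, rfl⟩ : ∃ u, (u = a ∨ u = b ∨ u = a * b) ∧ x = k * u := by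
      rcases e with e | e | e
      exacts [⟨_, Or.inl rfl, e⟩, ⟨_, Or.inr (Or.inl rfl), e⟩, ⟨_, Or.inr (Or.inr rfl), e⟩]
    obtain ⟨h1, h2⟩ := br u hu y hy
    have uA : u ∈ A := (A.mul_mem_cancel_left hk.1).1 hx
    refine ⟨?_, fun e => Or.inr ⟨h2 ?_, hy⟩⟩
    · have : k * u * y * (k * u)⁻¹ * y⁻¹ = k * (u * y * u⁻¹ * y⁻¹) * (y * k⁻¹ * y⁻¹) := by group
      rw [this, eA.inv uA, eB.inv hy, eB.inv hk.2, ← ky, mul_assoc k y, eB y hy, mul_one]
      exact mul_mem (mul_mem hk h1) hk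
    · rw [← mul_assoc y, ← ky, mul_assoc, mul_assoc] at e
      exact mul_left_cancel e
  have nB : A ≤ normalizer (B : Set G) := fun x hx => H49.mem_normalizer_of_conj_mem fun y hy => by
    simpa using mul_mem (key x hx y hy).1.2 hy
  have cA : Nat.card A = Nat.card ↥(A ⊓ B) * Nat.card ↥(A ⊓ B) := by
    let ψ : A →* G := MonoidHom.mk' (fun x => x * l * (x : G)⁻¹ * l⁻¹) fun x y => by
      have := eA.comm x.2 (key y y.2 l ml).1.1
      calc ((x * y : A) : G) * l * ((x * y : A) : G)⁻¹ * l⁻¹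
          = (x * (y * l * (y : G)⁻¹ * l⁻¹)) * (l * (x : G)⁻¹ * l⁻¹) := by rw [coe_mul]; group
        _ = (y * l * (y : G)⁻¹ * l⁻¹) * (x * l * (x : G)⁻¹ * l⁻¹) := by rw [this]; group
        _ = _ := eA.comm (key y y.2 l ml).1.1 (key x x.2 l ml).1.1
    have h1 : ψ.ker = (A ⊓ B).subgroupOf A := by
      ext x
      rw [MonoidHom.mem_ker, mem_subgroupOf]
      change x * l * (x : G)⁻¹ * l⁻¹ = 1 ↔ _
      rw [mul_inv_eq_one, mul_inv_eq_iff_eq_mul]
      exact ⟨fun e => ((key x x.2 l ml).2 e).resolve_right fun c => la c.1,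
        fun e => eB.comm e.2 ml⟩
    have h2 : ψ.range = A ⊓ B := by
      refine le_antisymm ?_ fun y hy => ?_
      · rintro _ ⟨x, rfl⟩
        exact (key x x.2 l ml).1
      · obtain ⟨x, hx, e⟩ := surj y hy
        exact ⟨⟨x, hx⟩, by rw [← e]; change x * l * x⁻¹ * l⁻¹ = _; rw [eA.inv hx, eB.inv ml]⟩
    rw [← ψ.ker.card_mul_index, index_ker, h1, h2,
      Nat.card_congr (subgroupOfEquivOfLe inf_le_left).toEquiv]
  refine ⟨IsPGroup.to_sup_of_normal_right' eA.isPGroup eB.isPGroup nB, le_sup_left, le_sup_right,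
    fun y hy => ?_, rfl, eA, eB, fun x hx y hy => (key x hx y hy).1,
    fun x hx y hy => (key x hx y hy).2, cA, ?_, by omega⟩
  · obtain ⟨x, hx, w, hw, e⟩ := (H4.mem_sup_iff_of_le_normalizer' nB).1 (sup_comm A B ▸ hy)
    exact ⟨x, hx, w, hw, e.symm⟩
  · rw [← cA]
    exact Nat.card_congr ⟨fun y => ⟨_, sw' y y.2⟩, fun y => ⟨_, sw y y.2⟩,
      fun y => Subtype.ext (ttt h.tt _), fun y => Subtype.ext (ttt h.tt _)⟩

theorem CH.card_T [Finite G] :
    Nat.card ↥(cA (centralizer {z}) s a ⊔ cA (centralizer {z}) s (t * a * t)) = 64 := by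
  have u := h.ut0 k
  have := H1.card_sup_mul_card_inf_of_le_normalizer (u.A_le.trans u.symm.T_norm_A)
  rw [u.cardA, u.cardB, h.card_U k] at this
  omega

end Cfsg.Agent.H84.Chz
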