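import Cfsg.Agent.H50.DerDefs

/-! Project DER: counting vectors with a largest stabiliser. -/

set_option autoImplicit false

namespace Cfsg.Agent.H84.DerPc

open Cfsg.Agent.H50.Der MulAction

universe u

theorem pc : PCStmt.{u} := by
  intro M V _ _ _ _ _ E U R r c h hc
  classical
  have := h.nE
  let f : V → ℕ := fun v => Nat.card ↥(R ⊓ stabilizer M v)
  obtain ⟨y, hy, hy1, v1, hv1, hyv⟩ := h.ns
  obtain ⟨v0, hv0, hmax⟩ := Set.exists_max_image {v : V | v ≠ 1} f (Set.toFinite _) ⟨v1, hv1⟩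
  have hne : ∀ (u : M) (v : V), v ≠ 1 → u • v ≠ 1 := fun u v hv e =>
    hv (MulAction.injective u (e.trans (smul_one u).symm))
  let P : Set V := {v | v ≠ 1 ∧ f v = f v0}
  have hP : ∀ u ∈ U, ∀ v ∈ P, u • v ∈ P := fun u hu v hv =>
    ⟨hne u v hv.1, le_antisymm (hmax _ (hne u v hv.1)) (hv.2 ▸ Nat.card_le_card_of_injective
      (fun x : ↥(R ⊓ stabilizer M v) => (⟨u * x * u⁻¹, h.nR u hu x x.2.1, by
        have : x.1 • v = v := x.2.2
        change _ • _ = _
        rw [mul_smul, mul_smul, inv_smul_smul, this]⟩ : ↥(R ⊓ stabilizer M (u • v))))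
      fun a b e => Subtype.ext (by simpa using congrArg Subtype.val e))⟩
  have h1 : Nat.card (orbit R v0) * f v0 = Nat.card R := by
    rw [← Nat.card_congr (orbitProdStabilizerEquivGroup R v0), Nat.card_prod]
    congr 1
    refine Nat.card_congr ⟨fun x => ⟨⟨x.1, x.2.1⟩, x.2.2⟩, fun x => ⟨x.1.1, x.1.2, x.2⟩,
      fun _ => rfl, fun _ => rfl⟩
  have h2 : E.index * Nat.card (orbit R v0) ≤ P.ncard := by
    have hu : ∀ q : M ⧸ E, ∃ u ∈ U, (u : M ⧸ E) = q := fun q => by
      obtain ⟨g, rfl⟩ := QuotientGroup.mk_surjective q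
      obtain ⟨u, hu, e⟩ := h.cov g
      exact ⟨u, hu, QuotientGroup.eq.2 e⟩
    choose u hu hq using hu
    rw [Subgroup.index, ← Nat.card_prod, ← Nat.card_coe_set_eq]
    refine Nat.card_le_card_of_injective (fun x => ⟨u x.1 • x.2.1, hP _ (hu _) _ (by
      obtain ⟨a, ha⟩ := x.2.2
      exact ha ▸ hP a (h.RU a.2) v0 ⟨hv0, rfl⟩)⟩) ?_
    rintro ⟨q, _, a, rfl⟩ ⟨q', _, a', rfl⟩ e
    have e1 : u q • (a : M) • v0 = u q' • (a' : M) • v0 := congrArg Subtype.val e
    have e2 : (u q' * a')⁻¹ * (u q * a) ∈ E := by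
      by_contra hE
      exact hv0 (h.fpf _ hE v0 (by rw [mul_smul, inv_smul_eq_iff, mul_smul, mul_smul, e1]))
    rw [← QuotientGroup.eq, QuotientGroup.mk_mul_of_mem _ (h.RE a.2),
      QuotientGroup.mk_mul_of_mem _ (h.RE a'.2), hq, hq] at e2
    subst e2
    exact Prod.ext rfl (Subtype.ext (MulAction.injective _ e1))
  have h3 : P.ncard * (f v0 - 1) ≤ (ISet V R).ncard * (c - 1) := by
    rw [Set.ncard_eq_toFinset_card P, Set.ncard_eq_toFinset_card (ISet V R)]
    refine Finset.card_mul_le_card_mul (fun v w => w • v = v) (fun v hv => ?_) fun w hw => ?_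
    · rw [Set.Finite.mem_toFinset] at hv
      rw [← hv.2, ← Set.ncard_coe_finset]
      change Set.ncard (↑(R ⊓ stabilizer M v) : Set M) - 1 ≤ _
      rw [← Set.ncard_sdiff_singleton_of_mem (R ⊓ stabilizer M v).one_mem]
      refine Set.ncard_le_ncard fun w hw => ?_
      simp only [Finset.coe_bipartiteAbove, Set.Finite.mem_toFinset]
      exact ⟨⟨hw.1.1, hw.2, v, hv.1, hw.1.2⟩, hw.1.2⟩
    · rw [Set.Finite.mem_toFinset] at hw
      refine le_trans ?_ (Nat.sub_le_sub_right (hc w hw) 1)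
      rw [← Set.ncard_coe_finset,
        ← Set.ncard_sdiff_singleton_of_mem (show (1 : V) ∈ fixedBy V w from smul_one w)]
      refine Set.ncard_le_ncard fun v hv => ?_
      simp only [Finset.coe_bipartiteBelow, Set.Finite.mem_toFinset] at hv
      exact ⟨hv.2, hv.1.1⟩
  refine ⟨f v0, Subgroup.card_dvd_of_le inf_le_left, le_trans ?_ (hmax v1 hv1), hmax, ?_⟩
  · exact (Subgroup.one_lt_card_iff_ne_bot _).2 fun e => hy1 (by
      rw [← Subgroup.mem_bot, ← e]; exact ⟨hy, hyv⟩)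
  · rw [← h1, mul_assoc (f v0)]
    refine le_trans ?_ (Nat.mul_le_mul_left _ h3)
    calc _ = f v0 * (E.index * Nat.card (orbit R v0) * (f v0 - 1)) := by ring
      _ ≤ _ := by gcongr

end Cfsg.Agent.H84.DerPc
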