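import Cfsg.Agent.H53.DgDefs
import Cfsg.Agent.H12.Values
import Mathlib.LinearAlgebra.ExteriorPower.Basis
import Mathlib.RingTheory.MvPolynomial.Symmetric.NewtonIdentities

/-!
Project DG: the Adams operations `χ ↦ (g ↦ χ (g ^ u))` preserve generalized characters
(exterior powers and Newton's identities).
-/

set_option autoImplicit false

namespace Cfsg.Agent.H84.DgAdams

open Module Finset

variable {G : Type} [Group G] {V : Type} [AddCommGroup V] [Module ℂ V]

/-- The exterior powers of a representation. -/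
noncomputable def extRep (ρ : Representation ℂ G V) (k : ℕ) : Representation ℂ G (⋀[ℂ]^k V) where
  toFun g := exteriorPower.map k (ρ g)
  map_one' := by rw [map_one]; exact exteriorPower.map_id
  map_mul' g h := by rw [map_mul]; exact exteriorPower.map_comp (ρ h) (ρ g)

theorem trace_ext {n : ℕ} (b : Basis (Fin n) ℂ V) (f : End ℂ V) (μ : Fin n → ℂ)
    (h : ∀ i, f (b i) = μ i • b i) (k : ℕ) :
    LinearMap.trace ℂ _ (exteriorPower.map k f) = ∑ t ∈ powersetCard k univ, ∏ i ∈ t, μ i := by
  rw [H12.trace_eq_sum_of_eigenbasis (b.exteriorPower k) _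
    (fun s => ∏ i ∈ (s : Finset (Fin n)), μ i)]
  · refine (Finset.sum_subtype (powersetCard k univ) (p := fun s => s ∈ Set.powersetCard (Fin n) k)
      (fun s => by simp) (fun t => ∏ i ∈ t, μ i)).symm
  · intro s
    rw [exteriorPower.basis_apply, exteriorPower.map_apply_ιMulti_family]
    simp only [exteriorPower.ιMulti_family]
    have e : (f ∘ b) ∘ (Set.powersetCard.ofFinEmbEquiv.symm s) =
        fun j => μ (Set.powersetCard.ofFinEmbEquiv.symm s j) •
          (b ∘ (Set.powersetCard.ofFinEmbEquiv.symm s)) j := by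
      funext j; simp [h]
    rw [e, AlternatingMap.map_smul_univ]
    congr 1
    rw [Set.powersetCard.ofFinEmbEquiv_symm_apply]
    conv_rhs => rw [← Finset.image_orderEmbOfFin_univ (s : Finset (Fin n)) s.prop]
    exact (Finset.prod_image fun x _ y _ hxy =>
      (Finset.orderEmbOfFin (s : Finset (Fin n)) s.prop).injective hxy).symm

theorem isGen_char_pow [Finite G] [FiniteDimensional ℂ V] (ρ : Representation ℂ G V) (u : ℕ) :
    IsGeneralizedCharacter G fun g => ρ.character (g ^ u) := by
  classical
  induction u using Nat.strong_induction_on with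
  | _ u ih =>
  rcases Nat.eq_zero_or_pos u with rfl | hu
  · have := H11.isGen_natCast_smul (H11.isGen_one (G := G)) (finrank ℂ V)
    convert this using 1
    funext g
    simp
  have hE : ∀ k, IsGeneralizedCharacter G (extRep ρ k).character := fun k =>
    H11.isGen_of_isCharacter (H11.isCharacter_character _)
  have key : (fun g => ρ.character (g ^ u)) =
      (((-1) ^ (u + 1) * u : ℤ) : ℂ) • (extRep ρ u).character -
        ∑ a ∈ antidiagonal u with a.1 ∈ Set.Ioo 0 u,
          ((((-1) ^ a.1 : ℤ) : ℂ) • (extRep ρ a.1).character) * fun g => ρ.character (g ^ a.2) := by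
    funext g
    obtain ⟨b, μ, hb, -⟩ := H12.exists_eigenbasis_rep ρ g
    have hp : ∀ k, ρ.character (g ^ k) = ∑ i, μ i ^ k := fun k => by
      rw [Representation.character, map_pow]
      exact H12.trace_eq_sum_of_eigenbasis b _ _ (H12.pow_apply_of_eigenbasis b _ μ hb k)
    have he : ∀ k, (extRep ρ k).character g = ∑ t ∈ powersetCard k univ, ∏ i ∈ t, μ i := fun k =>
      trace_ext b _ μ hb k
    have N := congrArg (MvPolynomial.aeval μ)
      (MvPolynomial.psum_eq_mul_esymm_sub_sum (Fin (finrank ℂ V)) ℂ u hu)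
    simp only [MvPolynomial.psum, MvPolynomial.esymm, map_sub, map_mul, map_sum, map_pow, map_neg,
      map_one, map_natCast, map_prod, MvPolynomial.aeval_X] at N
    simp only [Pi.sub_apply, Pi.smul_apply, Finset.sum_apply, Pi.mul_apply, smul_eq_mul, hp, he]
    push_cast
    exact N
  rw [key]
  refine H11.isGen_sub (H11.isGen_intCast_smul (hE u) _) (H11.isGen_sum _ _ fun a ha => ?_)
  rw [Finset.mem_filter, Finset.HasAntidiagonal.mem_antidiagonal] at ha
  exact H11.isGen_mul (H11.isGen_intCast_smul (hE _) _) (ih a.2 (by have := ha.2.1; omega))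

theorem adams : H53.Dg.AdamsStmt := by
  rintro G _ _ χ u ⟨_, _, ⟨n, ρ, rfl⟩, ⟨m, σ, rfl⟩, rfl⟩
  exact H11.isGen_sub (isGen_char_pow ρ u) (isGen_char_pow σ u)

end Cfsg.Agent.H84.DgAdams
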