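import Cfsg.Agent.H56.HLK

/-! Project HL: fixed points of the plane groups. -/

set_option autoImplicit false

namespace Cfsg.Agent.H84.HlP2a

open MulAction Subgroup Cfsg.Agent.H83 Cfsg.Agent.H56.HL
open scoped Cfsg.Agent.H63

universe u v

variable {G : Type u} [Group G] {Ω : Type v} [MulAction G Ω] {NN : Ω → Subgroup G} {q : ℕ}
  {EE : Ω → Ω → Subgroup G} {a : Ω} {F : Subgroup G}

theorem back (h : PL NN q EE) {z : Ω} (hz : a ≠ z) (hA : Adj (NN a) q (EE a z) F) :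
    z ∈ Fx Ω F := hA.symm.le_SS.trans (h.sS hz)

theorem fixt (h : PL NN q EE) (hF : Pln NN q EE a F) {t : G} (ht : t ∈ F) (h1 : t ≠ 1) {z : Ω}
    (hz : a ≠ z) : t • z = z ↔ Adj (NN a) q (EE a z) F := by
  refine ⟨fun e => ?_, fun hA => back h hz hA ht⟩
  have ha : t • a = a := hF.mem h.st ht
  obtain ⟨y, hy, hA⟩ := hF
  have k := h.st.kit a
  obtain ⟨M, hM, htM⟩ := (k.l3.fa hA.symm).cov t ht h1
  exact ((k.l3.fc hM.symm).nrm t ⟨htM, ht⟩ h1 _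
    ((k.ka.sameAdj hM.symm hA).trans (h.ln.same hy hz))).1 (h.ln.norm hz ha e)

theorem fixF (h : PL NN q EE) (hF : Pln NN q EE a F) {z : Ω} (hz : a ≠ z) :
    z ∈ Fx Ω F ↔ Adj (NN a) q (EE a z) F := by
  refine ⟨fun e => ?_, back h hz⟩
  obtain ⟨y, hy, hA⟩ := id hF
  obtain ⟨t, ht, h1⟩ := hA.exists_ne
  exact (fixt h hF ht.2 h1 hz).1 (e ht.2)

theorem nbr (h : PL NN q EE) (hF : Pln NN q EE a F) {j : G} (hj : j ∈ JJ Ω F) {X : Subgroup G}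
    (hX : Adj (NN a) q X F) : j ∈ N[X] := by
  obtain ⟨y, hy, hA⟩ := id hF
  obtain ⟨p, hp, rfl⟩ := h.ln.surj h.st hy ((h.st.kit a).ka.sameAdj hA hX)
  exact h.ln.norm hp (mem_JJ.1 hj a (hF.mem h.st)) (mem_JJ.1 hj p (back h hp hX))

theorem nJ (h : PL NN q EE) (hF : Pln NN q EE a F) : JJ Ω F ≤ N[F] := fun j hj => by
  have hN := h.st.norm (mem_JJ.1 hj a (hF.mem h.st))
  obtain ⟨y, hy, hA⟩ := id hF
  have k := (h.st.kit a).ka
  obtain ⟨W, hW, hne, -⟩ := k.third hA hA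
  have h1 := hA.cj hN
  have h2 := hW.cj hN
  rw [cj_eq_self (nbr h hF hj hA)] at h1
  rw [cj_eq_self (nbr h hF hj hW)] at h2
  exact cj_eq_self_iff.1 (k.uniq hne h2 h1 hW hA)

theorem fj [FaithfulSMul G Ω] (h : PL NN q EE) (hF : Pln NN q EE a F) {j : G} (hj : j ∈ JJ Ω F)
    (hc : j ∈ C[F]) : j ∈ F := by
  have hN := h.st.norm (mem_JJ.1 hj a (hF.mem h.st))
  obtain ⟨y, hy, hA⟩ := id hF
  have k := h.st.kit a
  obtain ⟨f, hf, hX⟩ : ∃ f ∈ F, ∀ X, Same (NN a) (EE a y) X → ¬ Adj (NN a) q X F →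
      f * j ∈ N[X] := by
    by_cases e : ∃ X, Same (NN a) (EE a y) X ∧ ¬ Adj (NN a) q X F
    swap
    · exact ⟨1, F.one_mem, fun X h1 h2 => (e ⟨X, h1, h2⟩).elim⟩
    obtain ⟨X, h1, h2⟩ := e
    have h3 := h1.cj hN
    rw [cj_eq_self (nbr h hF hj hA)] at h3
    obtain ⟨f, hf, e⟩ := (k.l3.fc hA).trF _ X h3 h1 (fun h4 => h2 (by
      have := h4.cj (inv_mem hN)
      rwa [cj_inv_cj, cj_eq_self (inv_mem (nJ h hF hj))] at this)) h2
    refine ⟨f, hf, fun Y h4 h5 => ?_⟩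
    obtain ⟨f', hf', rfl⟩ := (k.l3.fc hA).trF X Y h1 h4 h2 h5
    rw [← cj_eq_self_iff, ← cj_mul, mul_assoc, ← mem_centralizer_iff.1 hc f' hf', ← mul_assoc,
      hA.vr.comm hf hf', mul_assoc, cj_mul, cj_mul, e]
  have hw : f * j ∈ JJ Ω F := mul_mem (le_JJ F hf) hj
  have h1 : f * j = 1 := h.st.cen_eq_one (k.kb.a5 hA.vl _
    (h.st.norm (mem_JJ.1 hw a (hF.mem h.st))) fun X hX' => by
      by_cases e : Adj (NN a) q X F
      exacts [nbr h hF hw e, hX X hX' e]) fun z hz => by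
    obtain ⟨n, hn, e⟩ := h.ln.same hz hy
    have hna : n • a = a := h.st.fix a hn
    rw [← h.ln.smul n hz, hna] at e
    exact ⟨n⁻¹, inv_mem hn, n • z, inv_smul_smul n z, mem_JJ.1 hw _
      (back h (fun e' => hz (MulAction.injective n (hna.trans e'))) (e ▸ hA))⟩
  rw [eq_inv_of_mul_eq_one_right h1]
  exact inv_mem hf

theorem p2a : P2aStmt.{u, v} := fun _ _ _ _ _ _ _ _ _ _ h =>
  ⟨fun hF _ ht h1 _ hz => fixt h hF ht h1 hz, fun hF _ hz => fixF h hF hz,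
    fun hF _ hj hc => fj h hF hj hc, fun hF => nJ h hF⟩

end Cfsg.Agent.H84.HlP2a
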