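import Cfsg.Agent.H48.M2Defs
import Cfsg.Agent.H84.M2ChGen

/-! Maximal 2-local subgroups of the Monster: the piece CH. -/

set_option autoImplicit false

namespace Cfsg.Agent.H48.M2

open Cfsg Subgroup Cfsg.Agent.H48 Cfsg.Agent.H48.Rec Cfsg.Agent.H49 Cfsg.Agent.H95.Par
open Cfsg.Agent.H97.Gr (DD ZZ)
open Cfsg.Agent.H97.Yt (M)
open Cfsg.Agent.H84.M2Ch

theorem ch_of : ChStmt := by
  intro H hH
  have : Fact (Nat.Prime 2) := ⟨Nat.prime_two⟩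
  obtain ⟨R, p2, o1, e, hc⟩ := exists_core hH
  have el : El (Om R) := fun x hx => (mem_Om.1 hx).2.2
  refine ⟨R, Om R, e, o1, el, ?_⟩
  by_cases h : ∃ x ∈ Om R, x ∈ ZZ
  · obtain ⟨z, hz, zz⟩ := h
    have fx : ∀ x, x * x = 1 → x ∈ CP R → x ∈ Om R := fun x h1 h2 =>
      mem_Om.2 ⟨hc _ z (lx zz) hz h2, h2, h1⟩
    refine Or.inr ⟨⟨z, hz, zz⟩, p2, el, fun x hx => (mem_Om.1 hx).2.1, fx, fun X hX h1 hN => ?_⟩
    obtain ⟨u, hu, u1, uc⟩ := exists_fixed_of_dvd p2 hN (two_dvd_card (isPGroup_of_sq hX) h1)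
    exact ⟨u, hu, fx u (hX u hu) uc, u1⟩
  · exact Or.inl fun x hx x1 => (two (el x hx) x1).resolve_right fun zz => h ⟨x, hx, zz⟩

end Cfsg.Agent.H48.M2
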