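import Mathlib

/-! The centraliser of an element of odd order of `PSL₂(F)` is commutative. -/

set_option autoImplicit false

namespace Cfsg.Agent.H84.PslOdd

open Matrix
open scoped MatrixGroups

variable {F : Type*} [Field F]

theorem prop3 {b c e q r t : F} (h : b ≠ 0 ∨ c ≠ 0 ∨ e ≠ 0) (h1 : q * c = r * b)
    (h2 : q * e = t * b) (h3 : r * e = t * c) : ∃ l, q = l * b ∧ r = l * c ∧ t = l * e := by
  rcases h with h | h | h
  · refine ⟨q / b, ?_, ?_, ?_⟩ <;> field_simp
    · exact h1.symm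
    · exact h2.symm
  · refine ⟨r / c, ?_, ?_, ?_⟩ <;> field_simp
    · exact h1
    · exact h3.symm
  · refine ⟨t / e, ?_, ?_, ?_⟩ <;> field_simp
    · exact h2
    · exact h3

theorem mat {G A B : Matrix (Fin 2) (Fin 2) F} (h : G 0 1 ≠ 0 ∨ G 1 0 ≠ 0 ∨ G 0 0 - G 1 1 ≠ 0)
    (ha : A * G = G * A) (hb : B * G = G * B) : A * B = B * A := by
  have key : ∀ X : Matrix (Fin 2) (Fin 2) F, X * G = G * X →
      ∃ l, X 0 1 = l * G 0 1 ∧ X 1 0 = l * G 1 0 ∧ X 0 0 - X 1 1 = l * (G 0 0 - G 1 1) := by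
    intro X hX
    have e00 := congrFun (congrFun hX 0) 0
    have e01 := congrFun (congrFun hX 0) 1
    have e10 := congrFun (congrFun hX 1) 0
    simp only [Matrix.mul_apply, Fin.sum_univ_two] at e00 e01 e10
    exact prop3 h (by linear_combination e00) (by linear_combination -e01)
      (by linear_combination e10)
  obtain ⟨l, a1, a2, a3⟩ := key A ha
  obtain ⟨m, b1, b2, b3⟩ := key B hb
  have a4 : A 0 0 = A 1 1 + l * (G 0 0 - G 1 1) := by linear_combination a3
  have b4 : B 0 0 = B 1 1 + m * (G 0 0 - G 1 1) := by linear_combination b3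
  ext i j
  fin_cases i <;> fin_cases j <;>
    simp only [Matrix.mul_apply, Fin.sum_univ_two, Fin.zero_eta, Fin.mk_one, Fin.isValue, a1, a2,
      a4, b1, b2, b4] <;> ring

theorem sq_center {c : SL(2, F)} (hc : c ∈ Subgroup.center SL(2, F)) : c ^ 2 = 1 := by
  obtain ⟨r, h1, h2⟩ := Matrix.SpecialLinearGroup.mem_center_iff.1 hc
  apply Subtype.ext
  rw [Matrix.SpecialLinearGroup.coe_pow, ← h2, ← map_pow, show r ^ 2 = 1 by simpa using h1, map_one]
  rfl

theorem cen {k a b : PSL(2, F)} (k1 : k ≠ 1) (ho : Odd (orderOf k)) (ha : Commute a k)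
    (hb : Commute b k) : Commute a b := by
  obtain ⟨m, hm⟩ := ho
  obtain ⟨g0, rfl⟩ := QuotientGroup.mk_surjective k
  have h0 : (g0 ^ (2 * m + 1)) ^ 2 = 1 := sq_center (by
    rw [← QuotientGroup.eq_one_iff, QuotientGroup.mk_pow, ← hm, pow_orderOf_eq_one])
  have hk : ((g0 ^ (2 * m + 1 + 1) : SL(2, F)) : PSL(2, F)) = g0 := by
    rw [QuotientGroup.mk_pow, pow_succ, ← hm, pow_orderOf_eq_one, one_mul]
  have h1 : (g0 ^ (2 * m + 1 + 1)) ^ (2 * m + 1) = 1 := by
    rw [← pow_mul, show (2 * m + 1 + 1) * (2 * m + 1) = (2 * m + 1) * 2 * (m + 1) by ring, pow_mul,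
      pow_mul, h0, one_pow]
  rw [← hk] at k1 ha hb
  generalize g0 ^ (2 * m + 1 + 1) = g at k1 ha hb h1
  have key : ∀ h : SL(2, F), Commute (h : PSL(2, F)) g → h * g = g * h := by
    intro h hh
    have hc : h * g * h⁻¹ * g⁻¹ ∈ Subgroup.center SL(2, F) := by
      rw [← QuotientGroup.eq_one_iff]
      simp only [QuotientGroup.mk_mul, QuotientGroup.mk_inv]
      rw [hh.eq]
      group
    have c2 := sq_center hc
    have e : h * g * h⁻¹ = h * g * h⁻¹ * g⁻¹ * g := by group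
    generalize h * g * h⁻¹ * g⁻¹ = c at hc c2 e
    have cm : Commute c g := (Subgroup.mem_center_iff.1 hc g).symm
    have e2 : c ^ (2 * m + 1) = 1 := by
      have := congrArg (· ^ (2 * m + 1)) e
      simp only [conj_pow, cm.mul_pow, h1, mul_one, mul_inv_cancel] at this
      exact this.symm
    rw [pow_succ, pow_mul, c2, one_pow, one_mul] at e2
    rw [e2, one_mul] at e
    exact mul_inv_eq_iff_eq_mul.1 e
  obtain ⟨A, rfl⟩ := QuotientGroup.mk_surjective a
  obtain ⟨B, rfl⟩ := QuotientGroup.mk_surjective b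
  have ns : g.1 0 1 ≠ 0 ∨ g.1 1 0 ≠ 0 ∨ g.1 0 0 - g.1 1 1 ≠ 0 := by
    by_contra! c
    obtain ⟨c1, c2, c3⟩ := c
    refine k1 ((QuotientGroup.eq_one_iff g).2 (Subgroup.mem_center_iff.2 fun h => Subtype.ext ?_))
    have c4 : g.1 0 0 = g.1 1 1 := sub_eq_zero.1 c3
    show h.1 * g.1 = g.1 * h.1
    ext i j
    fin_cases i <;> fin_cases j <;>
      simp only [Matrix.mul_apply, Fin.sum_univ_two, Fin.zero_eta, Fin.mk_one, Fin.isValue, c1, c2,
        c4] <;> ring
  have e : A * B = B * A := Subtype.ext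
    (mat ns (congrArg Subtype.val (key A ha)) (congrArg Subtype.val (key B hb)))
  show ((A * B : SL(2, F)) : PSL(2, F)) = (B * A : SL(2, F))
  rw [e]

end Cfsg.Agent.H84.PslOdd
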