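import Cfsg.Agent.H4.SvDefs

/-! Fusion of the elements of a Sylow `2`-subgroup of `Sp₆(2)`. -/

set_option autoImplicit false
set_option maxRecDepth 100000

namespace Cfsg.Agent.H84.SvFus

open Cfsg.Agent.H4.SV

/-- The twelve moves. -/
def mv (m : ℕ) (g : T9) : T9 :=
  if m < 9 then ofN (2 ^ m) * g * (ofN (2 ^ m))⁻¹
  else if co (Fin.ofNat 3 m) g = 0 then σ (Fin.ofNat 3 m) g else g

theorem isConj_mv {Γ : Type} [Group Γ] {φ : T9 →* Γ} {s : Fin 3 → Γ} (h : Cfg φ s) (m : ℕ) (g : T9) :
    IsConj (φ g) (φ (mv m g)) := by
  unfold mv
  split_ifs with h1 h2
  · exact φ.map_isConj (isConj_iff.2 ⟨_, rfl⟩)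
  · exact isConj_iff.2 ⟨_, h _ g h2⟩
  · exact IsConj.refl _

def tM : ℕ := 0x100002272200200888820200808222061222020520222001102202282222210111161007570a010888861000900a0222160102052070a001100102082aa0a7011022100722222001101110058202200691000005522120051101000092222801171610075711a0011111170591179006167610055671a0051aa110009aaaa0000080000782b110020200000180179206128601911191100180010288821b98800010000712000112088000009000028602061091111110910001b20882ab970002200027220020860887020588079006000002555070900502000290929092b502262007b22620260887b2059887b0065276a0055276a00502a0000092a00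

def tD : ℕ := 0x24244344352443463524434526345345252543462524534435355237141332332624438535254425372443352424437524254486262453343536543615133284262444562415845626139456352535561315945637134465242645662602934525243344251433442413323324233235261532352413325335242146130221222436372442243134353637353334422335223224352436243531423525132713234244333525343534323342243433243124352235243324413544312513221326312323311623232622221420252412131322122313221424241305120211013435232324132323352622122423221222112213241322133120110013021100

/-- The move to be applied. -/
def mo (g : T9) : ℕ := (tM >>> (4 * idx g)) % 16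

/-- The distance from the representative. -/
def dp (g : T9) : ℕ := (tD >>> (4 * idx g)) % 16

/-- The representatives of the classes. -/
def rp (j : ℕ) : T9 := ofN ([0, 8, 1, 9, 12, 102, 65, 73, 5, 69, 261, 325].getD j 0)

theorem chk : ∀ n : Fin 512, ofN n = rp (cls (ofN n)) ∨
    (dp (mv (mo (ofN n)) (ofN n)) < dp (ofN n) ∧ cls (mv (mo (ofN n)) (ofN n)) = cls (ofN n)) := by
  decide +kernel

theorem fus : FusStmt := by
  intro Γ _ φ s h
  have key : ∀ d g, dp g = d → IsConj (φ g) (φ (rp (cls g))) := fun d => by
    induction d using Nat.strong_induction_on with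
    | _ d ih =>
    intro g hd
    rcases all_T9 (P := fun g => g = rp (cls g) ∨
      (dp (mv (mo g) g) < dp g ∧ cls (mv (mo g) g) = cls g)) chk g with e | ⟨e1, e2⟩
    · rw [← e]
    · exact (isConj_mv h (mo g) g).trans (e2 ▸ ih _ (hd ▸ e1) _ rfl)
  intro g g' e
  exact (key _ g rfl).trans (e ▸ (key _ g' rfl).symm)

end Cfsg.Agent.H84.SvFus
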